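import Cfsg.Agent.TH.Tri
import Cfsg.Agent.TH.Sv.Defs
import Cfsg.Agent.SB.Exc.Max.Iface

/-!
# S3541, local examples in `F₄, E₆, ²E₆, E₇, E₈`: interface (captain helper73)

Paper proofs: `notes/TH/ex.md`, section 2.  `XC D tw T H E m p f r` collects the standing hypotheses; `F` is a frame of
`SB/Exc/Defs`.  Boxes: `BoxFrm` (frames), `BoxComp` (components of centralisers), `BoxZC` (the centre of a Sylow subgroup),
`BoxMax`, `BoxTor`, `BoxNT` (the three cases).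
-/

set_option autoImplicit false
set_option linter.unusedSectionVars false

namespace Cfsg.Agent.TH.Ab

open CoxeterSystem Cfsg Cfsg.Lie Cfsg.Lie.ChevalleyDatum
open Cfsg.Agent.ChevalleyStructure Cfsg.Agent.ChevalleyStructure.Elts Cfsg.Agent.ChevalleyStructure.CoxeterGeom
  Cfsg.Agent.ChevalleyStructure.CoxeterGeomTypes
open Cfsg.Agent.Tits.Roots Cfsg.Agent.Tits.Core Cfsg.Agent.Nodes Cfsg.Agent.Nodes.Reps Cfsg.Agent.Nodes.BNOf
  Cfsg.Agent.Nodes.RGDChev Cfsg.Agent.Nodes.Bruhat Cfsg.Agent.Nodes.Coroot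
open Cfsg.Agent.KFacts.RgdField Cfsg.Agent.KFacts.RgdChevCoord
open Cfsg.Agent.BpExc Cfsg.Agent.BpExc.TorCent Cfsg.Agent.BpExc.TorChev Cfsg.Agent.BpExc.Tow
  Cfsg.Agent.BpExc.TowChev Cfsg.Agent.BpExc.Fr Cfsg.Agent.BpExc.LangFr Cfsg.Agent.BpExc.Zc
open Cfsg.Agent.H469.Exc Cfsg.Agent.H316.U6 Cfsg.Agent.H129.TorusChar Cfsg.Agent.DS.Ex Cfsg.Agent.H786.FC
open Cfsg.Agent.SB.Exc (XF HasRt)

/-- `T` is the Chevalley group of type `D` over the field with `p ^ f` elements, or `²E₆(p ^ f)` (`tw = true`) -/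
def IsoX (D : ChevalleyDatum) (tw : Bool) (p f : ℕ) (T : Type) [Group T] : Prop :=
  0 < f ∧ ∃ (F : Type) (_ : Field F) (_ : Fintype F) (_ : CharP F p),
    (tw = false ∧ Fintype.card F = p ^ f ∧ Nonempty (T ≃* D.group F)) ∨
    (tw = true ∧ D = chevE6 ∧ Fintype.card F = (p ^ f) ^ 2 ∧ Nonempty (T ≃* twistedE6 F (p ^ f)))

/-- the standing hypotheses -/
structure XC (D : ChevalleyDatum) (tw : Bool) {G : Type} [Group G] (T H E : Subgroup G) (m p f r : ℕ) : Prop where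
  typ : Typ D
  ctx : NCtx T H m p
  loc : DS.Loc T H E r
  ne : r ≠ p
  iso : IsoX D tw p f ↥T

/-- [FRM] frames with the right field -/
def BoxFrm : Prop := ∀ (D : ChevalleyDatum) (l : ℕ) (M : CoxeterMatrix (Fin l)) (hp : IsType D l M), Typ D →
  ∀ (tw : Bool) (p : ℕ) [Fact p.Prime] (f : ℕ) (G : Type) [Group G] [Finite G] (T : Subgroup G), AS T → IsoX D tw p f ↥T →
    Nonempty (XF hp p (p ^ f) T)

/-- the subgroup generated by the `σ`-fixed `p`-elements of `M` -/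
def PE (p : ℕ) {Y : Type} [Group Y] (σ : MulAut Y) (M : Subgroup Y) : Subgroup Y :=
  Subgroup.closure {y | y ∈ M ∧ σ y = y ∧ ∃ j : ℕ, y ^ p ^ j = 1}

/-- [COMP] the components of `O^{p'}` of the rational points of a subsystem subgroup have a split (B, N)-pair; the
exception is `Sp₄(2)'` -/
def BoxComp : Prop := ∀ (p : ℕ) [Fact p.Prime] (k : Type) [Field k] [CharP k p] [IsAlgClosed k] (Y : Type) [Group Y]
  (N : Type) [Fintype N] [DecidableEq N] (ρ : Y →* GL N k) (σ : MulAut Y) (G : Subgroup Y) (D : DL.Datum p ρ σ G) (e : ℕ)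
  (Z : Set Y), 0 < e → (∀ a, D.Rt a → D.ex a = e) → CommZ D.cs D.h D.X → Z ⊆ D.T → (∀ a ∈ D.Sz Z, D.g a ∈ D.Sz Z) →
    (∀ a ∈ D.Sz Z, ∀ b ∈ D.Sz Z, cpr D.cs D.h a b ≤ 2) →
    ∀ E : Subgroup ↥(PE p σ (D.S (D.Sz Z))), IsComponent E →
      FixBN.HasSplit p (↥E ⧸ Subgroup.center ↥E) ∨
      (p ^ e = 2 ∧ (∃ a ∈ D.Sz Z, ∃ b ∈ D.Sz Z, a ≠ b ∧ cpr D.cs D.h a b = 2) ∧ Nat.card (↥E ⧸ Subgroup.center ↥E) ∣ 720)

/-- [ZC] an elementary abelian normal subgroup of a Sylow subgroup has a non-trivial radical (`E₇`, `r = 2`; `E₆`, `r = 3`) -/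
def BoxZC : Prop := ∀ (D : ChevalleyDatum) (l : ℕ) (M : CoxeterMatrix (Fin l)) (hp : IsType D l M)
  (tw : Bool) (p : ℕ) [Fact p.Prime] (f r : ℕ) (G : Type) [Group G] [Finite G] (T : Subgroup G), AS T → IsoX D tw p f ↥T →
    (D = chevE6 ∧ r = 3 ∨ D = chevE7 ∧ r = 2) → r ≠ p → ∀ (F : XF hp p (p ^ f) T) (P R : Subgroup ↥T), IsPGroup r P →
      ¬ r ∣ P.index → R ≤ P → (∀ a ∈ P, ∀ x ∈ R, a * x * a⁻¹ ∈ R) → R ≠ ⊥ → (∀ x ∈ R, ∀ y ∈ R, x * y = y * x) →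
      (∀ x ∈ R, x ^ r = 1) → ∃ x ∈ R, x ≠ 1 ∧ ∀ y ∈ R, DS.Nt.Tp p (F.L.ι y) (F.L.ι x)

/-- [MAX] an invariant toral subgroup on which a root is trivial -/
def BoxMax : Prop := ∀ (D : ChevalleyDatum) (l : ℕ) (M : CoxeterMatrix (Fin l)) (hp : IsType D l M)
  (tw : Bool) (p : ℕ) [Fact p.Prime] (G : Type) [Group G] [Finite G] (T H E : Subgroup G) (m f r : ℕ),
    XC D tw T H E m p f r → ∀ (F : XF hp p (p ^ f) T) (A₀ : Subgroup (YY D p)), A₀ ≠ ⊥ → F.L.Inv H A₀ → HasRt hp p A₀ → False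

/-- [TOR] the normaliser of a maximal torus -/
def BoxTor : Prop := ∀ (D : ChevalleyDatum) (l : ℕ) (M : CoxeterMatrix (Fin l)) (hp : IsType D l M)
  (tw : Bool) (p : ℕ) [Fact p.Prime] (G : Type) [Group G] [Finite G] (T H E : Subgroup G) (m f r : ℕ),
    XC D tw T H E m p f r → ∀ (F : XF hp p (p ^ f) T) (A₀ : Subgroup (YY D p)), A₀ ≠ ⊥ → F.L.Inv H A₀ → Toral p A₀ →
      (∀ A₁ : Subgroup (YY D p), A₁ ≠ ⊥ → F.L.Inv H A₁ → ¬ HasRt hp p A₁) → False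

/-- [NT] no invariant toral subgroup -/
def BoxNT : Prop := ∀ (D : ChevalleyDatum) (l : ℕ) (M : CoxeterMatrix (Fin l)) (hp : IsType D l M)
  (tw : Bool) (p : ℕ) [Fact p.Prime] (G : Type) [Group G] [Finite G] (T H E : Subgroup G) (m f r : ℕ),
    XC D tw T H E m p f r → ∀ (F : XF hp p (p ^ f) T),
      (∀ A₀ : Subgroup (YY D p), Toral p A₀ → F.L.Inv H A₀ → A₀ = ⊥) → False

/-! ### assembly -/

/-- the boxes -/
structure Boxes : Prop where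
  frm : BoxFrm
  max : BoxMax
  tor : BoxTor
  nt : BoxNT

theorem Boxes.false (B : Boxes) {D : ChevalleyDatum} {l : ℕ} {M : CoxeterMatrix (Fin l)} (hp : IsType D l M) {tw : Bool}
    {p : ℕ} {G : Type} [Group G] [Finite G] {T H E : Subgroup G} {m f r : ℕ} (C : XC D tw T H E m p f r) : False := by
  have := Fact.mk C.ctx.prime
  obtain ⟨F⟩ := B.frm D l M hp C.typ tw p f G T C.ctx.as C.iso
  by_cases h1 : ∀ A₀ : Subgroup (YY D p), Toral p A₀ → F.L.Inv H A₀ → A₀ = ⊥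
  · exact B.nt D l M hp tw p G T H E m f r C F h1
  · push Not at h1
    obtain ⟨A₀, a1, a2, a3⟩ := h1
    by_cases h2 : ∀ A₁ : Subgroup (YY D p), A₁ ≠ ⊥ → F.L.Inv H A₁ → ¬ HasRt hp p A₁
    · exact B.tor D l M hp tw p G T H E m f r C F A₀ a3 a2 a1 h2
    · push Not at h2
      obtain ⟨A₁, b1, b2, b3⟩ := h2
      exact B.max D l M hp tw p G T H E m f r C F A₁ b1 b2 b3

theorem isoX_of_chev {D : ChevalleyDatum} {k p : ℕ} (hp : p.Prime) {T : Type} [Group T] (h : ChevChar D k p T) :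
    ∃ f, IsoX D false p f T := by
  obtain ⟨F, _, _, _, -, e⟩ := h
  have := Fact.mk hp
  obtain ⟨n, -, hn⟩ := FiniteField.card F p
  exact ⟨n, n.2, F, _, _, inferInstance, Or.inl ⟨rfl, hn, e⟩⟩

theorem isoX_of_tw {p : ℕ} (hp : p.Prime) {T : Type} [Group T]
    (h : ∃ (K : Type) (_ : Field K) (_ : Fintype K) (_ : CharP K p) (q : ℕ), IsPrimePow q ∧
      Fintype.card K = q ^ 2 ∧ Nonempty (T ≃* Cfsg.Lie.twistedE6 K q)) : ∃ f, IsoX chevE6 true p f T := by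
  obtain ⟨F, _, _, _, q, ⟨s, f, hs, hf, rfl⟩, hq, e⟩ := h
  have := Fact.mk hp
  obtain ⟨n, -, hn⟩ := FiniteField.card F p
  have h1 : p ∣ s := by
    refine hp.dvd_of_dvd_pow (n := f * 2) ?_
    rw [pow_mul, ← hq, hn]
    exact dvd_pow_self p n.2.ne'
  obtain rfl : p = s := (Nat.prime_dvd_prime_iff_eq hp hs.nat_prime).1 h1
  exact ⟨f, hf, F, _, _, inferInstance, Or.inr ⟨rfl, rfl, hq, e⟩⟩

theorem Boxes.noAb (B : Boxes) {D : ChevalleyDatum} {l : ℕ} {M : CoxeterMatrix (Fin l)} (hp : IsType D l M) (hD : Typ D) :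
    NoAb fun p T _ => ChevChar D 0 p T := fun _ _ _ _ _ _ _ _ _ c h hr hP => by
  obtain ⟨f, hf⟩ := isoX_of_chev c.prime hP
  exact B.false hp ⟨hD, c, h, hr, hf⟩

theorem Boxes.noAb_F4 (B : Boxes) : NoAb fun p T _ => ChevChar chevF4 0 p T := B.noAb hpF4 (Or.inl rfl)
theorem Boxes.noAb_E6 (B : Boxes) : NoAb fun p T _ => ChevChar chevE6 0 p T := B.noAb hpE6 (Or.inr (Or.inl rfl))
theorem Boxes.noAb_E7 (B : Boxes) : NoAb fun p T _ => ChevChar chevE7 0 p T := B.noAb hpE7 (Or.inr (Or.inr (Or.inl rfl)))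
theorem Boxes.noAb_E8 (B : Boxes) : NoAb fun p T _ => ChevChar chevE8 0 p T := B.noAb hpE8 (Or.inr (Or.inr (Or.inr rfl)))

theorem Boxes.noAb_2E6 (B : Boxes) : NoAb fun p T _ => ∃ (K : Type) (_ : Field K) (_ : Fintype K) (_ : CharP K p) (q : ℕ),
    IsPrimePow q ∧ Fintype.card K = q ^ 2 ∧ Nonempty (T ≃* Cfsg.Lie.twistedE6 K q) := fun _ _ _ _ _ _ _ _ _ c h hr hP => by
  obtain ⟨f, hf⟩ := isoX_of_tw c.prime hP
  exact B.false hpE6 ⟨Or.inr (Or.inl rfl), c, h, hr, hf⟩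

end Cfsg.Agent.TH.Ab
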