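import Cfsg.Agent.TH.Ex.Ab.ZCAlg
import Cfsg.Agent.H795.LangT
import Cfsg.Agent.H900.Fra.Wey

/-!
# S3541, box ZC (helper97)

* `exists_frame` : if `σ` acts on the lattice as `ε u` and `n ∣ ε q - 1`, a conjugate of the group `{h β}` lies in `T`;
* `nil_ind` : induction along the upper central series;
* `boxZC`.
-/

set_option autoImplicit false
set_option linter.unusedSectionVars false

namespace Cfsg.Agent.TH.Ab

open CoxeterSystem Cfsg Cfsg.Lie Cfsg.Lie.ChevalleyDatum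
open Cfsg.Agent.ChevalleyStructure Cfsg.Agent.ChevalleyStructure.Elts Cfsg.Agent.ChevalleyStructure.CoxeterGeom
  Cfsg.Agent.ChevalleyStructure.CoxeterGeomTypes
open Cfsg.Agent.Tits.Roots Cfsg.Agent.Tits.Core Cfsg.Agent.Nodes Cfsg.Agent.Nodes.Reps Cfsg.Agent.Nodes.BNOf
  Cfsg.Agent.Nodes.RGDChev Cfsg.Agent.Nodes.Bruhat
open Cfsg.Agent.KFacts.RgdField Cfsg.Agent.KFacts.RgdChevCoord
open Cfsg.Agent.BpExc Cfsg.Agent.BpExc.TorCent Cfsg.Agent.BpExc.TorChev Cfsg.Agent.BpExc.Tow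
  Cfsg.Agent.BpExc.TowChev Cfsg.Agent.BpExc.Fr Cfsg.Agent.BpExc.LangFr
open Cfsg.Agent.H469.Exc Cfsg.Agent.H795.SetCent Cfsg.Agent.H129.TorusChar Cfsg.Agent.H129.WData Cfsg.Agent.DS.Ex
open Cfsg.Agent.H185.EE Cfsg.Agent.H931.KC Cfsg.Agent.DS.Nt Cfsg.Agent.DS.Ex.Tor
open Cfsg.Agent.H92.NE (bl)
open Cfsg.Agent.SB.Exc (XF)

namespace ZC

/-- induction along the upper central series -/
theorem nil_ind {G : Type*} [Group G] [Finite G] {r : ℕ} [Fact r.Prime] {P R : Subgroup G} (hP : IsPGroup r P) (hR : R ≤ P)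
    (hn : ∀ a ∈ P, ∀ x ∈ R, a * x * a⁻¹ ∈ R) {S : Set G} (h1 : 1 ∈ S)
    (hS : ∀ u ∈ R, (∀ a ∈ P, u * a * u⁻¹ * a⁻¹ ∈ S) → u ∈ S) : ∀ u ∈ R, u ∈ S := by
  have key : ∀ (m : ℕ) (u : P), u ∈ Subgroup.upperCentralSeries P m → (u : G) ∈ R → (u : G) ∈ S := by
    intro m
    induction m with
    | zero =>
      intro u hu _
      rw [Subgroup.upperCentralSeries_zero, Subgroup.mem_bot] at hu
      rw [hu]
      exact h1
    | succ m ih =>
      intro u hu huR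
      refine hS u huR fun a ha => ih _ (Subgroup.mem_upperCentralSeries_succ_iff.1 hu ⟨a, ha⟩) ?_
      show (u : G) * a * (u : G)⁻¹ * a⁻¹ ∈ R
      have e : (u : G) * a * (u : G)⁻¹ * a⁻¹ = u * (a * (u : G)⁻¹ * a⁻¹) := by group
      rw [e]
      exact mul_mem huR (hn a ha _ (inv_mem huR))
  obtain ⟨m, hm⟩ := hP.isNilpotent.nilpotent
  intro u hu
  exact key m ⟨u, hR hu⟩ (hm ▸ Subgroup.mem_top _) hu

theorem exists_conj_le {G : Type*} [Group G] [Finite G] {r : ℕ} [Fact r.Prime] {P B : Subgroup G} (hP : IsPGroup r P)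
    (hi : ¬ r ∣ P.index) (hB : IsPGroup r B) : ∃ c : G, ∀ b ∈ B, c * b * c⁻¹ ∈ P := by
  obtain ⟨Q, hQ⟩ := hB.exists_le_sylow
  obtain ⟨c, hc⟩ := MulAction.exists_smul_eq G Q (hP.toSylow hi)
  refine ⟨c, fun b hb => ?_⟩
  have h1 : c * b * c⁻¹ ∈ (c • Q : Sylow r G) := by
    rw [Sylow.smul_def]
    exact Subgroup.smul_mem_pointwise_smul b (MulAut.conj c) (Q : Subgroup G) (hQ hb)
  rw [hc] at h1
  exact h1

variable {D : ChevalleyDatum} {l : ℕ} {M : CoxeterMatrix (Fin l)} {hp : IsType D l M} {p : ℕ} [Fact p.Prime]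
  {r n : ℕ} {Bm : Mat l} {v : Fin l → ℤ}

/-- **The frame.** -/
theorem exists_frame (hD : Typ D) (K : KD D l r n Bm v) {ζ : KK p} {h : (Fin l → ℤ) → YY D p} (H : HT hp n Bm ζ h) {e : ℕ}
    {σ : MulAut (YY D p)} {g : (Fin l → ℤ) ≃+ (Fin l → ℤ)} (he : 0 < e) (hσ : IsFrob p e σ) (F : FR hp p σ g) {ε : ℤˣ}
    {u : M.Group} (hg : ∀ a, g a = (ε : ℤ) • wa hp u a) (hq : (n : ℤ) ∣ ε * (p ^ e : ℕ) - 1) {J : Subgroup (YY D p)}
    (hJ1 : ∀ y, σ y = y → ∀ x ∈ J, y * x * y⁻¹ ∈ J) (hJ2 : ∀ y, σ y = y → y ^ r ∈ J) :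
    ∃ z : YY D p, ∀ β, z * h β * z⁻¹ ∈ J := by
  obtain ⟨k, hk⟩ := exists_RP hp p u⁻¹
  obtain ⟨z, hz⟩ := lang_all hp M.toCoxeterSystem he hσ F 1 k
  rw [map_one, one_mul] at hz
  have F' : FR hp p (MulAut.conj k * σ) _ := hk.fr.mul F
  have hσ' : IsFrob p e (MulAut.conj k * σ) := hσ.conj_mul k
  set τ := MulAut.conj k * σ with hτ
  have hg' : ∀ a, (g.trans (repAut M.toCoxeterSystem hp.isCartan u⁻¹)) a = (ε : ℤ) • a := fun a => by
    show wa hp u⁻¹ (g a) = _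
    rw [hg, map_smul, rep_inv_apply]
  have hfix : ∀ y, τ y = y → σ (z * y * z⁻¹) = z * y * z⁻¹ := fun y hy => by
    have h1 : k * σ y * k⁻¹ = y := hy
    rw [map_mul, map_mul, map_inv]
    conv_rhs => rw [← h1, hz]
    group
  let J' : Subgroup (YY D p) := J.comap (MulAut.conj z).toMonoidHom
  have hJ : ∀ y, y ∈ J' ↔ z * y * z⁻¹ ∈ J := fun y => Iff.rfl
  have h1 : ∀ y, τ y = y → ∀ x ∈ J', y * x * y⁻¹ ∈ J' := fun y hy x hx => by
    have h2 := hJ1 _ (hfix y hy) _ ((hJ x).1 hx)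
    have e1 : z * y * z⁻¹ * (z * x * z⁻¹) * (z * y * z⁻¹)⁻¹ = z * (y * x * y⁻¹) * z⁻¹ := by group
    rw [e1] at h2
    exact (hJ _).2 h2
  have h2 : ∀ y, τ y = y → y ^ r ∈ J' := fun y hy => by
    have h3 := hJ2 _ (hfix y hy)
    rw [conj_pow] at h3
    exact (hJ _).2 h3
  have h3 : ∀ β, τ (h β) = h β := fun β => cX_inj hp ((F'.tor _).2 (H.mem β)) (H.mem β) fun i => by
    have h4 := cX_sigma hp M.toCoxeterSystem hσ' F' (H.mem β) ((ε : ℤ) • sr i)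
    rw [hg', smul_smul, ← Units.val_mul, Int.units_mul_self, Units.val_one, one_smul] at h4
    rw [h4, H.chr, H.chr, ← zpow_natCast, ← zpow_mul]
    refine zpow_congr H.prim (by have := K.n_ge; omega) ?_
    obtain ⟨c, hc⟩ := hq
    rw [map_zsmul, smul_eq_mul]
    exact ⟨c * bl Bm β (sr i), by linear_combination bl Bm β (sr i) * hc⟩
  obtain ⟨d, B, hB, hd⟩ := exists_invC hp hD
  have h4 : ∀ i, h (sr i) ∈ J' := fun i => by
    obtain ⟨m, hm, hτm⟩ := H795.LangT.exists_fixed_lift hp (locFin p) hB hd he hσ' F' (v := M.toCoxeterSystem.simple i)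
      (fun x => by rw [hg', hg', map_smul])
    have hm' : RP hp p (M.toCoxeterSystem.simple i) m := hm
    obtain ⟨β, hβ⟩ := K.exists_neg (hp := hp) (isRoot_sr _ _ i)
    have h5 : ∀ m', RP hp p (M.toCoxeterSystem.simple i) m' → h (sr i) = m' * h β * m'⁻¹ * (h β)⁻¹ := fun m' hm' => by
      rw [H.conj K hm', ← H.sub K, rep_simple_eq, K.pair, hβ]
      simp
    rcases K.num with ⟨rfl, -⟩ | ⟨rfl, -⟩
    · have h6 := hm'.pow 3
      rw [pow_succ, M.toCoxeterSystem.simple_sq, one_mul] at h6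
      have e2 : m ^ 3 * h β * (m ^ 3)⁻¹ * (h β)⁻¹ = m ^ 3 * (h β * (m ^ 3)⁻¹ * (h β)⁻¹) := by group
      rw [h5 _ h6, e2]
      exact mul_mem (h2 m hτm) (h1 _ (h3 β) _ (inv_mem (h2 m hτm)))
    · have e2 : m * h β * m⁻¹ * (h β)⁻¹ = m ^ 2 * (m⁻¹ * h β) ^ 2 * (h β ^ 2)⁻¹ := by
        simp only [pow_two]
        group
      rw [h5 _ hm', e2]
      exact mul_mem (mul_mem (h2 m hτm) (h2 _ (by rw [map_mul, map_inv, hτm, h3]))) (inv_mem (h2 _ (h3 β)))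
  have h0 : h 0 = 1 := by
    have h5 := H.sub K 0 0
    rwa [sub_self, mul_inv_cancel] at h5
  let A : AddSubgroup (Fin l → ℤ) :=
    { carrier := {β | h β ∈ J'}
      zero_mem' := by
        show h 0 ∈ J'
        rw [h0]
        exact one_mem _
      add_mem' := fun {a b} ha hb => by
        show h (a + b) ∈ J'
        rw [H.add K]
        exact mul_mem ha hb
      neg_mem' := fun {a} ha => by
        show h (-a) ∈ J'
        rw [← zero_sub, H.sub K, h0, one_mul]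
        exact inv_mem ha }
  refine ⟨z, fun β => (hJ _).1 ?_⟩
  show β ∈ A
  rw [IsMC.eq_sum_sr β]
  exact sum_mem fun i _ => zsmul_mem (show sr i ∈ A from h4 i) _

/-- **The case `n ∣ ε q - 1`.** -/
theorem main_split (hD : Typ D) (K : KD D l r n Bm v) (hrp : r ≠ p) {G : Type} [Group G] [Finite G] {ι : G →* YY D p}
    (hι : Function.Injective ι) {e : ℕ} {σ : MulAut (YY D p)} {g : (Fin l → ℤ) ≃+ (Fin l → ℤ)} (he : 0 < e)
    (hσ : IsFrob p e σ) (F : FR hp p σ g) {ε : ℤˣ} {u : M.Group} (hg : ∀ a, g a = (ε : ℤ) • wa hp u a)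
    (hq : (n : ℤ) ∣ ε * (p ^ e : ℕ) - 1) (hJ1 : ∀ y, σ y = y → ∀ x, ∃ x', ι x' = y * ι x * y⁻¹)
    (hJ2 : ∀ y, σ y = y → y ^ r ∈ ι.range) {P R : Subgroup G} (hP : IsPGroup r P) (hi : ¬ r ∣ P.index) (hR : R ≤ P)
    (hn : ∀ a ∈ P, ∀ x ∈ R, a * x * a⁻¹ ∈ R) (hne : R ≠ ⊥) (hc : ∀ x ∈ R, ∀ y ∈ R, x * y = y * x)
    (hr : ∀ x ∈ R, x ^ r = 1) : ∃ x ∈ R, x ≠ 1 ∧ ∀ y ∈ R, Tp p (ι y) (ι x) := by
  have := Fact.mk K.prime
  obtain ⟨j, hj⟩ := K.n_pow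
  have : NeZero (n : KK p) := ⟨by rw [hj, Nat.cast_pow]; exact pow_ne_zero _ (cast_ne_zero K.prime hrp)⟩
  obtain ⟨ζ, hζ⟩ := HasEnoughRootsOfUnity.exists_primitiveRoot (KK p) n
  obtain ⟨h, H⟩ := exists_HT (hp := hp) (Bm := Bm) hD hζ (by have := K.n_ge; omega)
  obtain ⟨z, hz⟩ := exists_frame hD K H he hσ F hg hq (J := ι.range) (by
    rintro y hy _ ⟨x, rfl⟩
    exact hJ1 y hy x) hJ2
  choose b hb using hz
  have hb1 : ∀ β β', b (β - β') = b β * (b β')⁻¹ := fun β β' => hι (by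
    rw [map_mul, map_inv, hb, hb, hb, H.sub K]
    group)
  have hb0 : b 0 = 1 := by
    have h5 := hb1 0 0
    rwa [sub_self, mul_inv_cancel] at h5
  let B : Subgroup G :=
    { carrier := Set.range b
      one_mem' := ⟨0, hb0⟩
      mul_mem' := by
        rintro _ _ ⟨β, rfl⟩ ⟨β', rfl⟩
        exact ⟨β - (0 - β'), by rw [hb1, hb1, hb0, one_mul, inv_inv]⟩
      inv_mem' := by
        rintro _ ⟨β, rfl⟩
        exact ⟨0 - β, by rw [hb1, hb0, one_mul]⟩ }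
  have hB : IsPGroup r B := by
    rintro ⟨_, β, rfl⟩
    refine ⟨j, Subtype.ext (hι ?_)⟩
    show ι (b β ^ r ^ j) = ι 1
    rw [map_pow, hb, ← hj, conj_pow, H.pow K, map_one, mul_one, mul_inv_cancel]
  obtain ⟨c, hc'⟩ := exists_conj_le hP hi hB
  -- the conjugate embedding
  let κ : G →* YY D p := (MulAut.conj (ι c * z)⁻¹).toMonoidHom.comp ι
  have hκ : ∀ x, κ x = (ι c * z)⁻¹ * ι x * (ι c * z)⁻¹⁻¹ := fun x => rfl
  have hκi : Function.Injective κ := (MulAut.conj (ι c * z)⁻¹).injective.comp hι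
  have hκb : ∀ β, κ (c * b β * c⁻¹) = h β := fun β => by
    rw [hκ, map_mul, map_mul, map_inv, hb]
    group
  have hP' : ∀ β, c * b β * c⁻¹ ∈ P := fun β => hc' _ ⟨β, rfl⟩
  obtain ⟨_, ⟨x, hx, rfl⟩, h1, h2⟩ := H.main_alg K (R := R.map κ) (by
      rintro _ ⟨x, hx, rfl⟩ _ ⟨y, hy, rfl⟩
      rw [← map_mul, ← map_mul, hc x hx y hy]) (by
      rintro _ ⟨x, hx, rfl⟩
      rw [← map_pow, hr x hx, map_one]) (by
      rintro β _ ⟨x, hx, rfl⟩
      exact ⟨_, hn _ (hP' β) x hx, by rw [map_mul, map_mul κ _ x, map_inv, hκb]⟩) hrp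
    ((Set.finite_range κ).subset (by
      rintro _ ⟨β, rfl⟩
      exact ⟨_, hκb β⟩)) (fun h0 => hne ((Subgroup.map_eq_bot_iff_of_injective R hκi).1 h0)) (by
      rintro S h1 h2 _ ⟨x, hx, rfl⟩
      refine nil_ind hP hR hn (S := κ ⁻¹' S) (by rwa [Set.mem_preimage, map_one]) (fun y hy h3 => ?_) x hx
      refine h2 _ ⟨y, hy, rfl⟩ fun β => ?_
      have h4 := h3 _ (hP' β)
      rwa [Set.mem_preimage, map_mul, map_mul, map_mul κ y, map_inv, map_inv, hκb] at h4)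
  exact ⟨x, hx, fun h3 => h1 (by rw [h3, map_one]), fun y hy => Tp.of_conj (c := (ι c * z)⁻¹) (h2 _ ⟨y, hy, rfl⟩)⟩

end ZC

open ZC in
/-- **[ZC]** -/
theorem boxZC : BoxZC := by
  intro D l M hp tw p _ f r G _ _ T _ _ hDr hrp F P R hP hi hR hn hne hc hr
  have n67 : chevE6 ≠ chevE7 := fun e => absurd (congrArg ChevalleyDatum.rank e) (by decide)
  obtain ⟨ε, u, hg⟩ : ∃ (ε : ℤˣ) (u : M.Group), ∀ a, F.m.g a = (ε : ℤ) • wa hp u a := by
    obtain ⟨w, h | ⟨-, h⟩⟩ := F.gW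
    · exact ⟨1, w, fun a => by rw [h, Units.val_one, one_smul]⟩
    · exact ⟨-1, w, fun a => by rw [h, Units.val_neg, Units.val_one, neg_smul, one_smul]⟩
  have hσ := F.m.frob
  have hF := F.m.fr
  rw [← F.hσ] at hσ hF
  have hpow : ∀ y, F.L.σ y = y → y ^ r ∈ F.L.ι.range := fun y hy => by
    have h1 := F.L.pow_dd y hy
    rcases F.L.hdd with h2 | ⟨h2, h3⟩ | ⟨h2, h3⟩
    · rw [h2, pow_one] at h1
      exact pow_mem h1 r
    · rcases hDr with ⟨-, rfl⟩ | ⟨h4, -⟩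
      · rwa [h3] at h1
      · exact absurd (h2.symm.trans h4) n67
    · rcases hDr with ⟨h4, -⟩ | ⟨-, rfl⟩
      · exact absurd (h4.symm.trans h2) n67
      · rwa [h3] at h1
  rcases hDr with ⟨rfl, rfl⟩ | ⟨rfl, rfl⟩
  · obtain rfl := (typ_l hp).2.1 rfl
    by_cases hq : ((3 : ℕ) : ℤ) ∣ ε * (p ^ F.m.e : ℕ) - 1
    · exact main_split (Or.inr (Or.inl rfl)) kd6 hrp F.L.inj F.m.he hσ hF hg hq F.L.norm hpow hP hi hR hn hne hc hr
    · obtain ⟨⟨x, hx⟩, h3⟩ := Subgroup.ne_bot_iff_exists_ne_one.1 hne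
      refine ⟨x, hx, fun h => h3 (Subtype.ext h), fun y hy => tp_of_fix kd6 hrp hσ hF hg hq (F.L.fix x) (F.L.fix y) ?_ ?_ ?_⟩
      · rw [← map_pow, hr x hx, map_one]
      · rw [← map_pow, hr y hy, map_one]
      · rw [← map_mul, ← map_mul, hc y hy x hx]
  · obtain rfl := (typ_l hp).2.2.1 rfl
    have hD : Typ chevE7 := Or.inr (Or.inr (Or.inl rfl))
    by_cases hq : ((4 : ℕ) : ℤ) ∣ ε * (p ^ F.m.e : ℕ) - 1
    · exact main_split hD kd7 hrp F.L.inj F.m.he hσ hF hg hq F.L.norm hpow hP hi hR hn hne hc hr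
    · obtain ⟨w₀, hw₀⟩ := H900.Fra.neg_E7 hp
      refine main_split (hp := hp) hD kd7 hrp F.L.inj F.m.he hσ hF (ε := -ε) (u := w₀ * u) (fun a => ?_) ?_ F.L.norm hpow hP hi hR hn
        hne hc hr
      · rw [hg, rep_mul_apply, hw₀, Units.val_neg, neg_smul_neg]
      · have h1 : ¬ 2 ∣ p ^ F.m.e := fun h =>
          hrp ((Nat.prime_dvd_prime_iff_eq Nat.prime_two Fact.out).1 (Nat.prime_two.dvd_of_dvd_pow h))
        generalize p ^ F.m.e = q at hq h1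
        rcases Int.units_eq_one_or ε with rfl | rfl
        · simp only [Units.val_neg, Units.val_one] at hq ⊢
          omega
        · simp only [Units.val_neg, Units.val_one] at hq ⊢
          omega

end Cfsg.Agent.TH.Ab
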