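import Cfsg.Agent.TH.Ex.Ab.Defs
import Cfsg.Agent.SB.Exc.Frm.Main
import Cfsg.Agent.SB.Exc.Frm.MC
import Cfsg.Agent.SB.Exc.Card
import Cfsg.Agent.SB.Exc.Crit.Fix

/-!
# S3541, exceptional groups: frames with the right field (helper73)
-/

set_option autoImplicit false
set_option linter.unusedSectionVars false

namespace Cfsg.Agent.TH.Ab

open CoxeterSystem Cfsg Cfsg.Lie Cfsg.Lie.ChevalleyDatum
open Cfsg.Agent.ChevalleyStructure Cfsg.Agent.ChevalleyStructure.Elts Cfsg.Agent.ChevalleyStructure.CoxeterGeom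
  Cfsg.Agent.ChevalleyStructure.CoxeterGeomTypes
open Cfsg.Agent.Tits.Roots Cfsg.Agent.Tits.Core Cfsg.Agent.Nodes Cfsg.Agent.Nodes.Reps Cfsg.Agent.Nodes.BNOf
  Cfsg.Agent.Nodes.RGDChev Cfsg.Agent.Nodes.Bruhat Cfsg.Agent.Nodes.Coroot
open Cfsg.Agent.KFacts.RgdField Cfsg.Agent.KFacts.RgdChevCoord
open Cfsg.Agent.BpExc Cfsg.Agent.BpExc.TorCent Cfsg.Agent.BpExc.TorChev Cfsg.Agent.BpExc.Tow
  Cfsg.Agent.BpExc.TowChev Cfsg.Agent.BpExc.Fr Cfsg.Agent.BpExc.LangFr Cfsg.Agent.BpExc.Zc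
open Cfsg.Agent.H469.Exc Cfsg.Agent.H316.U6 Cfsg.Agent.H129.TorusChar Cfsg.Agent.DS.Ex Cfsg.Agent.H786.FC
open Cfsg.Agent.SB.Exc (XF HasRt HasFrm ordU nP dM degs)

namespace Frm

theorem two_mul_sub {q d : ℕ} (hq : 2 ≤ q) (hd : d ≠ 0) : q ^ d ≤ 2 * (q ^ d - 1) := by
  have : 2 ≤ q ^ d := hq.trans (Nat.le_self_pow hd q)
  omega

/-- a lower bound for the order polynomial -/
theorem ordU_ge {l q : ℕ} (hl : l = 4 ∨ l = 6 ∨ l = 7 ∨ l = 8) (hq : 2 ≤ q) : q ^ (2 * nP l + l) ≤ 2 ^ l * ordU l q := by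
  have h : ∀ (L : List ℕ), (∀ d ∈ L, d ≠ 0) → q ^ L.sum ≤ 2 ^ L.length * (L.map fun d => q ^ d - 1).prod := by
    intro L
    induction L with
    | nil => simp
    | cons d L ih =>
      intro h0
      rw [List.sum_cons, List.length_cons, List.map_cons, List.prod_cons, pow_add, pow_succ]
      calc q ^ d * q ^ L.sum ≤ (2 * (q ^ d - 1)) * (2 ^ L.length * (L.map fun d => q ^ d - 1).prod) :=
            Nat.mul_le_mul (two_mul_sub hq (h0 d List.mem_cons_self)) (ih fun e he => h0 e (List.mem_cons_of_mem _ he))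
        _ = _ := by ring
  have h1 : (degs l).sum = nP l + l ∧ (degs l).length = l ∧ ∀ d ∈ degs l, d ≠ 0 := by
    rcases hl with rfl | rfl | rfl | rfl <;> decide
  have h2 := h _ h1.2.2
  rw [h1.1, h1.2.1] at h2
  calc q ^ (2 * nP l + l) = q ^ nP l * q ^ (nP l + l) := by ring
    _ ≤ q ^ nP l * (2 ^ l * ((degs l).map fun d => q ^ d - 1).prod) := Nat.mul_le_mul_left _ h2
    _ = _ := by unfold ordU; ring

/-- two powers of `p` which both fit the order are equal -/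
theorem le_of_fit {l p a b t : ℕ} (hl : l = 4 ∨ l = 6 ∨ l = 7 ∨ l = 8) (hp : 2 ≤ p) (ha : 0 < a) (hb : 0 < b)
    (h1 : ordU l (p ^ a) ≤ 3 * t) (h2 : t ≤ 2 * ((p ^ b) ^ (2 * nP l) * (p ^ b + 1) ^ l)) : a ≤ b := by
  by_contra h
  have h3 : 2 * p ^ b ≤ p ^ a := by
    calc 2 * p ^ b ≤ p * p ^ b := Nat.mul_le_mul_right _ hp
      _ = p ^ (b + 1) := by ring
      _ ≤ p ^ a := Nat.pow_le_pow_right (by omega) (by omega)
  have hx : 2 ≤ p ^ b := hp.trans (Nat.le_self_pow hb.ne' p)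
  have hy : 2 ≤ p ^ a := hp.trans (Nat.le_self_pow ha.ne' p)
  generalize p ^ b = x at *
  generalize p ^ a = y at *
  have h4 := ordU_ge hl hy
  have h5 : (x + 1) ^ l ≤ (2 * x) ^ l := Nat.pow_le_pow_left (by omega) l
  have h6 : (2 * x) ^ (2 * nP l + l) ≤ y ^ (2 * nP l + l) := Nat.pow_le_pow_left h3 _
  have h7 : 2 ^ l * 6 < 2 ^ (2 * nP l) := by rcases hl with rfl | rfl | rfl | rfl <;> decide
  have h8 : 0 < x ^ (2 * nP l) * (2 * x) ^ l := by positivity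
  have h9 : (2 * x) ^ (2 * nP l + l) ≤ 2 ^ l * 6 * (x ^ (2 * nP l) * (2 * x) ^ l) := by
    calc (2 * x) ^ (2 * nP l + l) ≤ 2 ^ l * ordU l y := h6.trans h4
      _ ≤ 2 ^ l * (3 * (2 * (x ^ (2 * nP l) * (2 * x) ^ l))) :=
          Nat.mul_le_mul_left _ (h1.trans (Nat.mul_le_mul_left _ (h2.trans
            (Nat.mul_le_mul_left _ (Nat.mul_le_mul_left _ h5)))))
      _ = _ := by ring
  have h10 : (2 * x) ^ (2 * nP l + l) = 2 ^ (2 * nP l) * (x ^ (2 * nP l) * (2 * x) ^ l) := by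
    rw [pow_add, mul_pow 2 x (2 * nP l), mul_assoc]
  rw [h10] at h9
  exact absurd (Nat.le_of_mul_le_mul_right h9 h8) (by omega)

theorem sub_le {q d e : ℕ} : q ^ (d + e) - 1 ≤ q ^ d * (q + 1) ^ e := by
  rw [pow_add]
  exact (Nat.sub_le _ _).trans (Nat.mul_le_mul_left _ (Nat.pow_le_pow_left (Nat.le_succ q) e))

theorem ordU_le {l q : ℕ} (hl : l = 4 ∨ l = 6 ∨ l = 7 ∨ l = 8) : ordU l q ≤ q ^ (2 * nP l) * (q + 1) ^ l := by
  have h : ∀ (L : List ℕ), (L.map fun d => q ^ d - 1).prod ≤ q ^ L.sum := by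
    intro L
    induction L with
    | nil => simp
    | cons d L ih =>
      rw [List.sum_cons, List.map_cons, List.prod_cons, pow_add]
      exact Nat.mul_le_mul (Nat.sub_le _ _) ih
  have h1 : (degs l).sum = nP l + l := by rcases hl with rfl | rfl | rfl | rfl <;> decide
  have h2 := h (degs l)
  rw [h1] at h2
  calc ordU l q ≤ q ^ nP l * q ^ (nP l + l) := Nat.mul_le_mul_left _ h2
    _ = q ^ (2 * nP l) * q ^ l := by ring
    _ ≤ _ := Nat.mul_le_mul_left _ (Nat.pow_le_pow_left (Nat.le_succ q) l)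

variable {D : ChevalleyDatum} {l : ℕ} {M : CoxeterMatrix (Fin l)} {hp : IsType D l M} {p : ℕ} [Fact p.Prime]

theorem rank_cases (hp : IsType D l M) (hD : Typ D) : (D = chevF4 ∧ l = 4) ∨ (D = chevE6 ∧ l = 6) ∨ (D = chevE7 ∧ l = 7) ∨
    (D = chevE8 ∧ l = 8) := by
  have h := rank_eq_of_inList hp.inList
  have h1 := hp.rank_eq
  rcases hD with rfl | rfl | rfl | rfl
  · exact Or.inl ⟨rfl, h1 ▸ h.2.2.2.1 rfl⟩
  · exact Or.inr (Or.inl ⟨rfl, h1 ▸ h.2.2.2.2.1 rfl⟩)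
  · exact Or.inr (Or.inr (Or.inl ⟨rfl, h1 ▸ h.2.2.2.2.2.1 rfl⟩))
  · exact Or.inr (Or.inr (Or.inr ⟨rfl, h1 ▸ h.2.2.2.2.2.2 rfl⟩))

theorem frame_of (hD : Typ D) {G : Type} [Group G] [Finite G] {T : Subgroup G} {f : ℕ} (hf : 0 < f)
    (h : ∃ q, Nonempty (XF hp p q T)) (h1 : ordU l (p ^ f) ≤ 3 * Nat.card T)
    (h2 : Nat.card T ≤ 2 * ((p ^ f) ^ (2 * nP l) * (p ^ f + 1) ^ l)) : Nonempty (XF hp p (p ^ f) T) := by
  obtain ⟨q, ⟨F⟩⟩ := h
  have hl : l = 4 ∨ l = 6 ∨ l = 7 ∨ l = 8 := by rcases rank_cases hp hD with h | h | h | h <;> omega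
  have hq := F.m.hq
  have p2 := (Fact.out : p.Prime).two_le
  have a1 : ordU l (p ^ F.m.e) ≤ 3 * Nat.card T := by
    rw [hq]
    exact F.ord.trans (Nat.mul_le_mul_right _ (by unfold dM; split_ifs <;> norm_num))
  have a2 : Nat.card T ≤ 2 * ((p ^ F.m.e) ^ (2 * nP l) * (p ^ F.m.e + 1) ^ l) := by
    have b1 := SB.Exc.Crit.card_fix_fr hp SB.Exc.boxCard F.m.he F.m.frob F.m.fr
    replace b1 := b1.trans_eq (congrArg (fun n => (p ^ F.m.e) ^ n * (p ^ F.m.e + 1) ^ l) (SB.Exc.Crit.typ_num hp hD).1)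
    have : Finite (DL.fix F.m.σ) := (DL.Ex.amb_of_isFrob (locFin p) F.m.he F.m.frob).finite_fix
    have b2 : Nat.card T ≤ Nat.card (DL.fix F.m.σ) :=
      Nat.card_le_card_of_injective (fun x : T => (⟨F.m.ι x, F.m.fix x⟩ : DL.fix F.m.σ))
        fun x y e => F.m.inj (congrArg Subtype.val e)
    exact (b2.trans b1).trans (Nat.le_mul_of_pos_left _ two_pos)
  have e : F.m.e = f := le_antisymm (le_of_fit hl p2 F.m.he hf a1 h2) (le_of_fit hl p2 hf F.m.he h1 a2)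
  rw [e] at hq
  subst hq
  exact ⟨F⟩

end Frm

open _root_.Cfsg.Agent.TH.Ab.Frm SB.Exc.Frm in
/-- **Frames with the right field.** -/
theorem boxFrm : BoxFrm := by
  intro D l M hp hD tw p _ f G _ _ T hT ⟨hf, F, _, _, _, h⟩
  have hT' : SB.AS T := ⟨hT.normal, hT.simple, hT.nonab, hT.cent⟩
  have hl : l = 4 ∨ l = 6 ∨ l = 7 ∨ l = 8 := by rcases rank_cases hp hD with h | h | h | h <;> omega
  have hu := ordU_le (q := p ^ f) hl
  rcases h with ⟨-, hF, ⟨e⟩⟩ | ⟨-, rfl, hF, ⟨e⟩⟩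
  · have hc := Nat.card_congr e.toEquiv
    have key : ∀ c, 0 < c → c ≤ 3 → c * Nat.card (D.group F) = ordU l (p ^ f) → HasFrm hp p ↥(D.group F) →
        Nonempty (XF hp p (p ^ f) T) := fun c c0 c3 h1 h2 => by
      refine frame_of hD hf (h2 G T hT' ⟨e⟩) ?_ ?_
      · rw [← h1, hc]
        exact Nat.mul_le_mul_right _ c3
      · have : Nat.card (D.group F) ≤ c * Nat.card (D.group F) := Nat.le_mul_of_pos_left _ c0
        omega
    rcases hD with rfl | rfl | rfl | rfl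
    · obtain ⟨rfl, e'⟩ := Sigma.mk.inj_iff.1 (type_of hp hpF4 (Or.inl rfl))
      obtain rfl := eq_of_heq e'
      refine key 1 one_pos (by norm_num) ?_ (boxFrmF4 p F)
      rw [one_mul, S1062.result hF]
      simp [ordU, nP, degs, mul_assoc]
    · obtain ⟨rfl, e'⟩ := Sigma.mk.inj_iff.1 (type_of hp hpE6 (Or.inr (Or.inl rfl)))
      obtain rfl := eq_of_heq e'
      refine key _ (Nat.gcd_pos_of_pos_left (p ^ f - 1) three_pos) (Nat.gcd_le_left _ three_pos) ?_ (boxFrmE6 p F)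
      rw [S1063.result hF]
      simp [ordU, nP, degs, mul_assoc]
    · obtain ⟨rfl, e'⟩ := Sigma.mk.inj_iff.1 (type_of hp hpE7 (Or.inr (Or.inr (Or.inl rfl))))
      obtain rfl := eq_of_heq e'
      refine key _ (Nat.gcd_pos_of_pos_left (p ^ f - 1) two_pos) ((Nat.gcd_le_left _ two_pos).trans (by norm_num)) ?_
        (boxFrmE7 p F)
      rw [S1064.result hF]
      simp [ordU, nP, degs, mul_assoc]
    · obtain ⟨rfl, e'⟩ := Sigma.mk.inj_iff.1 (type_of hp hpE8 (Or.inr (Or.inr (Or.inr rfl))))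
      obtain rfl := eq_of_heq e'
      refine key 1 one_pos (by norm_num) ?_ (boxFrmE8 p F)
      rw [one_mul, S1065.result hF]
      simp [ordU, nP, degs, mul_assoc]
  · obtain ⟨rfl, e'⟩ := Sigma.mk.inj_iff.1 (type_of hp hpE6 (Or.inr (Or.inl rfl)))
    obtain rfl := eq_of_heq e'
    have hq : IsPrimePow (p ^ f) := (Fact.out : p.Prime).isPrimePow.pow hf.ne'
    have hc := Nat.card_congr e.toEquiv
    have h1 := S1066.result hq hF
    have q2 : 2 ≤ p ^ f := hq.two_le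
    rw [← hc] at h1
    refine frame_of hD hf (boxFrm2E6 p F _ hq hF G T hT' ⟨e⟩) ?_ ?_
    · refine le_trans ?_ (Nat.mul_le_mul_right _ (Nat.gcd_le_left (p ^ f + 1) three_pos))
      rw [h1]
      simp only [ordU, nP, degs, List.map_cons, List.map_nil, List.prod_cons, List.prod_nil, mul_one, mul_assoc,
        Nat.reduceEqDiff, if_false, if_true]
      gcongr <;> omega
    · refine (Nat.le_mul_of_pos_left _ (Nat.gcd_pos_of_pos_left (p ^ f + 1) three_pos)).trans ?_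
      rw [h1]
      generalize p ^ f = q at q2
      have b5 : q ^ 5 + 1 ≤ q ^ 4 * (q + 1) := by
        have : 1 ≤ q ^ 4 := Nat.one_le_pow _ _ (by omega)
        nlinarith
      have b9 : q ^ 9 + 1 ≤ q ^ 8 * (q + 1) := by
        have : 1 ≤ q ^ 8 := Nat.one_le_pow _ _ (by omega)
        nlinarith
      calc q ^ 36 * (q ^ 2 - 1) * (q ^ 5 + 1) * (q ^ 6 - 1) * (q ^ 8 - 1) * (q ^ 9 + 1) * (q ^ 12 - 1)
          ≤ q ^ 36 * (q ^ 1 * (q + 1) ^ 1) * (q ^ 4 * (q + 1)) * (q ^ 5 * (q + 1) ^ 1) * (q ^ 7 * (q + 1) ^ 1) *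
            (q ^ 8 * (q + 1)) * (q ^ 11 * (q + 1) ^ 1) := by
            gcongr
            · exact sub_le (d := 1) (e := 1)
            · exact sub_le (d := 5) (e := 1)
            · exact sub_le (d := 7) (e := 1)
            · exact sub_le (d := 11) (e := 1)
        _ = q ^ (2 * nP 6) * (q + 1) ^ 6 := by
            show _ = q ^ (2 * 36) * (q + 1) ^ 6
            ring
        _ ≤ _ := Nat.le_mul_of_pos_left _ two_pos

end Cfsg.Agent.TH.Ab
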