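import Cfsg.Agent.TH.Ex.Ab.CompIf

/-!
# S3541, `BoxComp2` from the quasi-split case (helper10)
-/

set_option autoImplicit false
set_option linter.unusedSectionVars false

namespace Cfsg.Agent.TH.Ab.Cmp

open CoxeterSystem Cfsg.Agent.ChevalleyStructure.CoxeterGeom Cfsg.Agent.Tits.Roots Cfsg.Agent.Nodes.Reps
  Cfsg.Agent.Nodes.BNOf Cfsg.Agent.Nodes.Coroot Cfsg.Agent.DL.Base Cfsg.Agent.DL Cfsg.Agent.BpExc.Zc
  Cfsg.Agent.SB.Exc.Max

attribute [local instance] fintypeSmp decSmp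

theorem tr {p : ℕ} {Y : Type} [Group Y] {L L' : Subgroup Y} (h : L = L') {Q : Prop}
    (H : ∀ E : Subgroup L, IsComponent E → FixBN.HasSplit p (↥E ⧸ Subgroup.center ↥E) ∨ Q) :
    ∀ E : Subgroup L', IsComponent E → FixBN.HasSplit p (↥E ⧸ Subgroup.center ↥E) ∨ Q := by
  subst h
  exact H

theorem boxComp2_of (h : BoxRt) : BoxComp2 := by
  intro p _ k _ _ _ Y _ N _ _ ρ σ G D e Z he hex cz hZ hF h2
  obtain ⟨y, hy, hy', hq⟩ := (D.sub hZ hF rfl).exists_qs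
  have h3 := h p k Y N ρ σ _ ((D.sub hZ hF rfl).conj hy hy') e ⟨hq, he, fun a ha => hex _ (io_mem hZ hF rfl ha).1,
    commZ_conj (commZ_sub hZ hF rfl cz) hy hy', fun a b ha hb =>
      (cpr_io hZ hF rfl a hb).ge.trans (h2 _ (io_mem hZ hF rfl ha) _ (io_mem hZ hF rfl hb))⟩
  have h4 : LL ((D.sub hZ hF rfl).conj hy hy') = PE p σ (D.S (D.Sz Z)) :=
    congrArg (PE p σ) ((conj_S_roots hy hy').trans (sub_S_roots hZ hF rfl))
  intro E hE
  refine (tr h4 h3 E hE).imp_right ?_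
  rintro ⟨h5, a, b, ha, hb, h6, h7, h8⟩
  refine ⟨h5, _, io_mem hZ hF rfl ha, _, io_mem hZ hF rfl hb, fun e => h6 (D.io_injective Z e),
    (cpr_io hZ hF rfl a hb).trans h7, fun c hc => ?_⟩
  obtain ⟨c, hc', rfl⟩ := exists_io hZ hF rfl hc
  refine (h8 c hc').imp (fun h => ⟨(cpr_io hZ hF rfl c ha).trans h.1, (cpr_io hZ hF rfl c hb).trans h.2⟩) ?_
  rintro ⟨i, j, e⟩
  exact ⟨i, j, (congrArg (D.io Z) e).trans (by rw [map_add, map_zsmul, map_zsmul])⟩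

end Cfsg.Agent.TH.Ab.Cmp
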