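import Cfsg.Agent.TH.Ex.Ab.GrpC
import Cfsg.Agent.H85.RelStr
import Cfsg.Agent.Schreier.BNUse
import Cfsg.Agent.CpQuot.Congr
import Cfsg.Agent.S1260

/-!
# S3541, [COMP], group half: relative root data (helper60)

`D : Rel R S G ι`; `XP D i` the root groups of `G`, `LG p G` the subgroup generated by the `p`-elements of `G`,
`CnR D J` the connected components of the relative diagram.  `comp_rel` : the components of `LG p G`.
-/

set_option autoImplicit false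
set_option linter.unusedSectionVars false

namespace Cfsg.Agent.TH.Ab.Grp

open Cfsg Cfsg.Agent.FixBN Cfsg.Agent.Schreier.BNSch Cfsg.Agent.LieExceptional Cfsg.Agent.BpExc.TitsRed
  Cfsg.Agent.LieRecognition.FeitHigmanGroup
open Cfsg.Agent.LieExceptional.BNPairCore (C mem_C len)
open scoped Pointwise

section Abs

variable {K : Type*} [Group K] {P : BNPair K} {p : ℕ} {U : Subgroup K} {X : K → Subgroup K}

theorem span_of (D : Dat P U X)
    (node : ∀ s ∈ P.S, ∃ V, Node P U s V ∧ (∀ u ∈ U, ∃ x ∈ X s, ∃ v ∈ V, u = x * v) ∧ ∀ x ∈ X s, x ∈ V → x = 1)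
    (cases : ∀ m ∈ P.N, ∀ s ∈ P.S, (∀ x ∈ X s, m⁻¹ * x * m ∈ U) ∨ ∀ x ∈ X s, m⁻¹ * (s * x * s⁻¹) * m ∈ U)
    (opp : ∃ g ∈ P.N, ∀ u ∈ U, g⁻¹ * u * g ∈ P.B → u = 1) : U ≤ DJ X P.S := by
  have hn := DJ_normal X P.S
  have key : ∀ l : List K, (∀ s ∈ l, s ∈ P.S) → l.length = len P l.prod → ∀ u ∈ U, ∃ r ∈ DJ X P.S, ∃ u' ∈ U,
      u = r * u' ∧ l.prod * u' * l.prod⁻¹ ∈ U := by
    intro l
    induction l with
    | nil => exact fun _ _ u hu => ⟨1, one_mem _, u, hu, (one_mul u).symm, by simpa using hu⟩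
    | cons s l ih =>
      intro hl h1 u hu
      have hs := hl s List.mem_cons_self
      have hl' : ∀ x ∈ l, x ∈ P.S := fun x hx => hl x (List.mem_cons_of_mem _ hx)
      have hm := BNPairCore.prod_mem_N hl'
      rw [List.prod_cons, List.length_cons] at h1
      have h2 := BNPairCore.len_mul_left_le hs hm
      have h3 := BNPairCore.len_prod_le hl'
      obtain ⟨r, hr, u', hu', rfl, h4⟩ := ih hl' (by omega) u hu
      obtain ⟨V, hV, a1, -⟩ := node s hs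
      rcases cases _ hm s hs with hc | hc
      · obtain ⟨x, hx, v, hv, e⟩ := a1 _ h4
        have a2 : l.prod⁻¹ * x * l.prod⁻¹⁻¹ ∈ DJ X P.S := hn.conj_mem x (le_DJ hs hx) _
        refine ⟨r * (l.prod⁻¹ * x * l.prod⁻¹⁻¹), mul_mem hr a2, (l.prod⁻¹ * x * l.prod)⁻¹ * u',
          mul_mem (inv_mem (hc x hx)) hu', by group, ?_⟩
        have e2 : (s :: l).prod * ((l.prod⁻¹ * x * l.prod)⁻¹ * u') * (s :: l).prod⁻¹ =
            (s * s) * (s⁻¹ * (x⁻¹ * (l.prod * u' * l.prod⁻¹)) * s) * (s * s)⁻¹ := by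
          rw [List.prod_cons]; group
        rw [e2, e, inv_mul_cancel_left]
        exact hV.le (hV.conj_B _ (P.sq_mem s hs) _ (hV.conj_s v hv))
      · exfalso
        obtain ⟨y, hy, hyV⟩ := hV.ne
        obtain ⟨x, hx, v, hv, rfl⟩ := a1 y hy
        have a2 : s ∈ P.parabolic {s} := mem_parabolic_self P s
        have a3 : s * x * s⁻¹ ∈ P.parabolic {s} :=
          mul_mem (mul_mem a2 (B_le_parabolic P _ (D.U_le (D.le s hs hx)))) (inv_mem a2)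
        rcases mem_parabolic_singleton P hs a3 with a4 | ⟨b, hb, b', hb', e⟩
        · refine hyV (mul_mem (hV.stab x (D.le s hs hx) ?_) hv)
          have e2 : s⁻¹ * x * s = (s * s)⁻¹ * (s * x * s⁻¹) * (s * s) := by group
          rw [e2]
          exact mul_mem (mul_mem (inv_mem (P.sq_mem s hs)) a4) (P.sq_mem s hs)
        · have a4 := BNPairCore.mul_mem_C_of_le hs hm hb' (by omega)
          have a5 : s * b' * l.prod ∈ C P l.prod :=
            mem_C.2 ⟨b⁻¹, inv_mem hb, _, D.U_le (hc x hx), by rw [e]; group⟩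
          exact BNPairCore.not_C_mul_left_eq hs hm (BNPairCore.C_eq_of_mem_mem a4 a5)
  obtain ⟨g, hg, h1⟩ := opp
  obtain ⟨l, a1, a2, a3⟩ := BNPairCore.exists_reduced (P := P) (inv_mem hg)
  intro u hu
  obtain ⟨r, hr, u', hu', e, h2⟩ := key l a2 (a1.trans (BNPairCore.len_congr a3).symm) _ (D.norm _ a3 u hu)
  have h3 := h1 _ (D.norm _ (inv_mem a3) u' hu') (by
    have e2 : g⁻¹ * ((l.prod⁻¹ * g⁻¹)⁻¹ * u' * (l.prod⁻¹ * g⁻¹)⁻¹⁻¹) * g = l.prod * u' * l.prod⁻¹ := by group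
    rw [e2]
    exact D.U_le h2)
  rw [conj_eq_one_iff] at h3
  rw [h3, mul_one] at e
  have h4 := hn.conj_mem r hr (l.prod⁻¹ * g⁻¹)⁻¹
  rw [← e] at h4
  have e3 : (l.prod⁻¹ * g⁻¹)⁻¹ * (l.prod⁻¹ * g⁻¹ * u * (l.prod⁻¹ * g⁻¹)⁻¹) * (l.prod⁻¹ * g⁻¹)⁻¹⁻¹ = u := by group
  rwa [e3] at h4

theorem SX.pel [Finite K] [hp : Fact p.Prime] (D : SX P p U X) {y : K} {j : ℕ} (hy : y ^ p ^ j = 1) :
    y ∈ Subgroup.normalClosure (U : Set K) := by
  have hB : Subgroup.normalizer (U : Set K) = P.B := by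
    refine normalizer_eq P _ D.U_le D.norm fun s hs => ?_
    obtain ⟨V, hV, -⟩ := D.node s hs
    obtain ⟨u, hu, huV⟩ := hV.ne
    exact ⟨u, hu, fun h => huV (hV.stab u hu h)⟩
  obtain ⟨S, hS⟩ := Schreier.BNUse.exists_sylow U D.isP (by
    rw [hB]
    intro h
    have hn : (U.subgroupOf P.B).Normal := ⟨fun u hu b => D.norm b b.2 u hu⟩
    obtain ⟨x, hx⟩ := exists_prime_orderOf_dvd_card' (G := P.B ⧸ U.subgroupOf P.B) p h
    obtain ⟨m, hm, h1⟩ := D.tor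
    induction x using QuotientGroup.induction_on with
    | H b =>
      refine hm (hx ▸ orderOf_dvd_of_pow_eq_one ?_)
      obtain ⟨u, hu, t, ht, e⟩ := D.cover' b.2
      obtain ⟨v, hv, e2⟩ := D.pow_eq hu ht.1 m
      rw [← QuotientGroup.mk_pow, QuotientGroup.eq_one_iff]
      show (b : K) ^ m ∈ U
      rw [e, e2, h1 t ht.1 ht.2, mul_one]
      exact hv)
  have h1 : IsPGroup p (Subgroup.zpowers y) := by
    rintro ⟨_, k, rfl⟩
    refine ⟨j, Subtype.ext ?_⟩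
    show (y ^ k) ^ p ^ j = 1
    rw [← zpow_natCast, ← zpow_mul, mul_comm, zpow_mul, zpow_natCast, hy, one_zpow]
  obtain ⟨S', hS'⟩ := h1.exists_le_sylow
  obtain ⟨g, rfl⟩ := MulAction.exists_smul_eq K S S'
  have h2 := hS' (Subgroup.mem_zpowers y)
  rw [Sylow.coe_subgroup_smul, Subgroup.mem_smul_pointwise_iff_exists] at h2
  obtain ⟨u, hu, rfl⟩ := h2
  exact Subgroup.normalClosure_normal.conj_mem u (Subgroup.subset_normalClosure (hS ▸ hu)) g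

end Abs

open CoxeterSystem Cfsg.Agent.ChevalleyStructure.CoxeterGeom Cfsg.Agent.Tits.Roots Cfsg.Agent.Tits.Core
  Cfsg.Agent.Nodes.Reps Cfsg.Agent.Nodes.BNOf Cfsg.Agent.Nodes.Bruhat Cfsg.Agent.Nodes.OppDec
  Cfsg.Agent.Nodes.NormalForm Cfsg.Agent.BpExc.Zc Cfsg.Agent.BpExc.RelBN Cfsg.Agent.BpExc.SubBN Cfsg.Agent.H85.RelStr

variable {I W Y : Type*} [Fintype I] [DecidableEq I] [Group W] [Group Y] {M : CoxeterMatrix I}
  {cs : CoxeterSystem M W} {A : I → I → ℤ} {h : IsCartan M A} {p : ℕ} {T : Subgroup Y} {n : I → Y}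
  {X : (I → ℤ) → Subgroup Y}
  {R : RGD cs h p T n X} {S : Set (I → ℤ)} {G : Subgroup Y} {ι : Type*} (D : Rel R S G ι) [Finite W]

/-- the root group of `G` at the wall `i` -/
def XP (i : ι) : Subgroup Y := RGD.Sup X (cl S (D.f i)) ⊓ G

/-- the subgroup generated by the `p`-elements of `G` -/
def LG (p : ℕ) (G : Subgroup Y) : Subgroup Y := Subgroup.closure {y | y ∈ G ∧ ∃ j : ℕ, y ^ p ^ j = 1}

/-- connected components of the relative diagram -/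
structure CnR (J : Set ι) : Prop where
  ne : J.Nonempty
  cl : ∀ i ∈ J, ∀ j ∉ J, D.w i * D.w j = D.w j * D.w i
  irr : ∀ J' ⊆ J, J'.Nonempty → (J \ J').Nonempty → ∃ i ∈ J', ∃ j ∈ J \ J', D.w i * D.w j ≠ D.w j * D.w i

omit D in
theorem LG_le : LG p G ≤ G := (Subgroup.closure_le _).2 fun _ hy => hy.1

theorem mem_T {g : ↥G} (h1 : g ∈ D.bn.B) (h2 : g ∈ D.bn.N) : (g : Y) ∈ T := by
  obtain ⟨v, -, hv⟩ := D.bn_N_le h2
  obtain rfl := R.eq_one_of_mem_B hv (D.bn_B_le h1)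
  exact hv.mem_of_one

theorem mem_B_iff_one {g : ↥G} {v : W} (hv : Rp cs R.nsys v (g : Y)) : g ∈ D.bn.B ↔ v = 1 :=
  ⟨fun h1 => R.eq_one_of_mem_B hv (D.bn_B_le h1), fun e => Subgroup.mem_sup_right (by subst e; exact hv.mem_of_one)⟩

theorem comm_iff (i j : ι) : D.kk i * D.kk j * (D.kk i)⁻¹ * (D.kk j)⁻¹ ∈ D.bn.B ↔ D.w i * D.w j = D.w j * D.w i := by
  rw [mem_B_iff_one D ((((D.rp i).mul (D.rp j)).mul (D.rp i).inv).mul (D.rp j).inv), mul_inv_eq_one,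
    mul_inv_eq_iff_eq_mul]

theorem exists_NG {v : W} (hv : v ∈ WR D) : ∃ g ∈ D.bn.N, Rp cs R.nsys v (g : Y) := by
  unfold WR at hv
  induction hv using Subgroup.closure_induction with
  | mem x hx =>
    obtain ⟨i, rfl⟩ := hx
    exact ⟨D.kk i, D.bn.subset ⟨i, rfl⟩, D.rp i⟩
  | one => exact ⟨1, one_mem _, rp_one⟩
  | mul x y _ _ h1 h2 =>
    obtain ⟨a, ha, h1⟩ := h1
    obtain ⟨b, hb, h2⟩ := h2
    exact ⟨a * b, mul_mem ha hb, h1.mul h2⟩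
  | inv x _ h1 =>
    obtain ⟨a, ha, h1⟩ := h1
    exact ⟨a⁻¹, inv_mem ha, h1.inv⟩

theorem card_Xs (i : ι) : Nat.card (BpExc.FixGood.Xs D (D.kk i)) = Nat.card (XP D i) := by
  rw [BpExc.FixGood.Xs_kk, ← Subgroup.inf_subgroupOf_right]
  exact Nat.card_congr (Subgroup.subgroupOfEquivOfLe inf_le_right).toEquiv

theorem rp_alt (k : ℕ) : ∀ i j : ι, Rp cs R.nsys (alt k (D.w i) (D.w j)) ((alt k (D.kk i) (D.kk j) : ↥G) : Y) := by
  induction k with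
  | zero => exact fun _ _ => rp_one
  | succ k ih => exact fun i j => (D.rp i).mul (ih j i)

variable [Finite ↥G] [Fact p.Prime] (hZ : CommZ cs h X) (hS : ZClosed cs h S)
  (hT : ∀ a ∈ T, ∀ b ∈ T, a * b = b * a) (hm : ∃ m : ℕ, ¬ p ∣ m ∧ ∀ t ∈ T, t ∈ G → t ^ m = 1)
  (hopp : ∃ v ∈ WR D, ∀ a ∈ Sp S, rep cs h v a ≤ 0)

include hZ hS in
theorem node_rel (i : ι) : ∃ V, Node D.bn ((RGD.Sup X (Sp S)).subgroupOf G) (D.kk i) V ∧
    (∀ u ∈ (RGD.Sup X (Sp S)).subgroupOf G, ∃ x ∈ BpExc.FixGood.Xs D (D.kk i), ∃ v ∈ V, u = x * v) ∧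
    ∀ x ∈ BpExc.FixGood.Xs D (D.kk i), x ∈ V → x = 1 := by
  rw [BpExc.FixGood.Xs_kk]
  have hk : ∀ v ∈ RGD.Sup X (cp S (D.f i)), D.k i * v * (D.k i)⁻¹ ∈ RGD.Sup X (cp S (D.f i)) := fun v hv =>
    conj_mem_Sup R (D.rp i) (S := cp S (D.f i)) (S' := cp S (D.f i)) (fun a ha => D.root a ha.1)
      (fun a ha => D.w_cp i ha) hv
  have hk' : ∀ v ∈ RGD.Sup X (cp S (D.f i)), (D.k i)⁻¹ * v * D.k i ∈ RGD.Sup X (cp S (D.f i)) := fun v hv =>
    conj_mem_Sup' R (D.rp i) (S := cp S (D.f i)) (S' := cp S (D.f i)) (fun a ha => D.root a ha.1)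
      (fun a ha => by rw [D.w_inv]; exact D.w_cp i ha) hv
  have hB : ∀ v ∈ RGD.Sup X (cp S (D.f i)), v ∈ RGD.B cs h T X := fun v hv =>
    RGD.U_le_B (D.Sup_le_U (RGD.Sup_mono (D.cp_sub i) hv))
  have free : ∀ x ∈ RGD.Sup X (cl S (D.f i)), x ∈ RGD.Sup X (cp S (D.f i)) → x = 1 := fun x hx hv => by
    by_contra h1
    exact D.not_le i hx h1 (hB _ (hk x hv))
  have hU : ∀ u ∈ RGD.Sup X (Sp S), ∀ v ∈ RGD.Sup X (cp S (D.f i)), u * v * u⁻¹ ∈ RGD.Sup X (cp S (D.f i)) := by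
    have h1 : RGD.Sup X (Sp S) ≤ Subgroup.normalizer (RGD.Sup X (cp S (D.f i)) : Set Y) := by
      refine iSup_le ?_
      rintro ⟨a, ha⟩
      refine le_normalizerZ R hZ (D.root a ha.1) fun y hy => ⟨D.root y hy.1, Or.inr ⟨fun e => ?_, fun z hz =>
        ⟨hS.btw a ha.1 y hy.1 z hz, hz.nonneg' ha.2 hy.2.1, hz.symm.pos _ hy.2.2 (D.fpos i a ha.1 ha.2)⟩⟩⟩
      exact (D.root a ha.1).not_pos_neg ha.2 (by rw [show a = -y from e]; exact neg_nonpos.2 hy.2.1)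
    exact fun u hu v hv => (Subgroup.mem_normalizer_iff.1 (h1 hu) v).1 hv
  refine ⟨(RGD.Sup X (cp S (D.f i))).subgroupOf G, ⟨Subgroup.comap_mono (RGD.Sup_mono (D.cp_sub i)), ?_, ?_,
    fun v hv => hk' v hv, ?_⟩, ?_, fun x hx hv => Subtype.ext (free x hx hv)⟩
  · obtain ⟨x, hx, hxG, hx1⟩ := D.ne i
    exact ⟨⟨x, hxG⟩, RGD.Sup_mono (D.cl_sub i) hx, fun hv => hx1 (free x hx hv)⟩
  · intro b hb v hv
    obtain ⟨u, hu, -, t, ht, -, e⟩ := D.mem_bn_B.1 hb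
    show (b : Y) * v * (b : Y)⁻¹ ∈ RGD.Sup X (cp S (D.f i))
    have e2 : (b : Y) * v * (b : Y)⁻¹ = u * (t * v * t⁻¹) * u⁻¹ := by rw [e]; group
    rw [e2]
    exact hU u hu _ (D.T_norm ht (fun a ha => D.root a ha.1) hv)
  · intro u hu h1
    obtain ⟨v, hv, x, hx, -, e⟩ := D.dec i u hu u.2
    have h2 : (D.k i)⁻¹ * (u : Y) * D.k i ∈ RGD.B cs h T X := D.bn_B_le h1
    have h3 : x = 1 := by
      by_contra h4
      refine D.not_le i hx h4 ?_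
      have e2 : D.k i * x * (D.k i)⁻¹ = (D.k i * D.k i) * (((D.k i)⁻¹ * v * D.k i)⁻¹ * ((D.k i)⁻¹ * (u : Y) * D.k i)) *
          (D.k i * D.k i)⁻¹ := by rw [e]; group
      rw [e2]
      exact mul_mem (mul_mem (RGD.T_le_B (D.sq i)) (mul_mem (inv_mem (hB _ (hk' v hv))) h2))
        (inv_mem (RGD.T_le_B (D.sq i)))
    show (u : Y) ∈ RGD.Sup X (cp S (D.f i))
    rwa [e, h3, mul_one]
  · intro u hu
    obtain ⟨v, hv, x, hx, hxG, e⟩ := D.dec i u hu u.2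
    refine ⟨⟨x, hxG⟩, hx, (⟨x, hxG⟩ : ↥G)⁻¹ * u, ?_, by group⟩
    show x⁻¹ * (u : Y) ∈ RGD.Sup X (cp S (D.f i))
    have e2 : x⁻¹ * (u : Y) = x⁻¹ * v * x⁻¹⁻¹ := by rw [e]; group
    rw [e2]
    exact hU _ (inv_mem (RGD.Sup_mono (D.cl_sub i) hx)) v hv

include hZ hS hT hm hopp

/-- **The split (B, N)-pair of `G`.** -/
theorem sx : SX D.bn p ((RGD.Sup X (Sp S)).subgroupOf G) (BpExc.FixGood.Xs D) := by
  obtain ⟨v, hv, h2⟩ := hopp
  obtain ⟨g, hg, h1⟩ := exists_NG D hv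
  have hD := BpExc.FixGood.dat D hZ hS (Group.isSolvable_of_comm fun a b => Subtype.ext (hT a a.2 b b.2))
    ⟨v, g, h1, g.2, h2⟩
  have node : ∀ s ∈ D.bn.S, ∃ V, Node D.bn ((RGD.Sup X (Sp S)).subgroupOf G) s V ∧
      (∀ u ∈ (RGD.Sup X (Sp S)).subgroupOf G, ∃ x ∈ BpExc.FixGood.Xs D s, ∃ v ∈ V, u = x * v) ∧
      ∀ x ∈ BpExc.FixGood.Xs D s, x ∈ V → x = 1 := by
    rintro _ ⟨i, rfl⟩
    exact node_rel D hZ hS i
  have opp : ∃ g ∈ D.bn.N, ∀ u ∈ (RGD.Sup X (Sp S)).subgroupOf G, g⁻¹ * u * g ∈ D.bn.B → u = 1 := by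
    refine ⟨g⁻¹, inv_mem hg, fun u hu h3 => ?_⟩
    rw [inv_inv] at h3
    have h4 : (g : Y) * (u : Y) * (g : Y)⁻¹ ∈ UN cs h X :=
      conj_mem_Sup R h1 (S := Sp S) (S' := Neg cs h) (fun a ha => D.root a ha.1)
        (fun a ha => ⟨(D.root a ha.1).act _, h2 a ha⟩) hu
    exact Subtype.ext (conj_eq_one_iff.1 (eq_one_of_mem_UN_of_mem_B R h4 (D.bn_B_le h3)))
  refine
    { toDat := hD
      isP := (R.isPGroup_of_pos (S := Sp S) fun a ha => ⟨D.root a ha.1, ha.2⟩).comap_subtype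
      cover := ?_
      tor := ?_
      node := node
      rep := ?_
      HX := ?_
      span := span_of hD node ?_ opp
      opp := opp }
  · intro b hb
    obtain ⟨u, hu, huG, t, ht, -, e⟩ := D.mem_bn_B.1 hb
    refine ⟨⟨u, huG⟩, hu, Subgroup.mem_sup_right ?_⟩
    show u⁻¹ * (b : Y) ∈ T
    rwa [e, inv_mul_cancel_left]
  · obtain ⟨m, a1, a2⟩ := hm
    exact ⟨m, a1, fun t b1 b2 => Subtype.ext (a2 t (mem_T D b1 b2) t.2)⟩
  · rintro _ ⟨i, rfl⟩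
    change ∃ t ∈ D.bn.B ⊓ D.bn.N, t * D.kk i ∈ Subgroup.normalClosure (BpExc.FixGood.Xs D (D.kk i) : Set ↥G)
    rw [BpExc.FixGood.Xs_kk]
    obtain ⟨x, hx, hxG, hx1⟩ := D.ne i
    have a1 : D.k i * x * (D.k i)⁻¹ ∈ RGD.Sup X (clN S (D.f i)) :=
      conj_mem_Sup R (D.rp i) (S := cl S (D.f i)) (S' := clN S (D.f i)) (fun a ha => D.root a ha.1)
        (fun a ha => D.w_cl i ha) hx
    obtain ⟨u, hu, huG, t, ht, htG, v, hv, hvG, e⟩ :=
      D.rk i _ a1 (mul_mem (mul_mem (D.kG i) hxG) (inv_mem (D.kG i))) fun e => hx1 (conj_eq_one_iff.1 e)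
    refine ⟨⟨t, htG⟩, ⟨Subgroup.mem_sup_right ht, Subgroup.mem_sup_right ht⟩, ?_⟩
    have e2 : ⟨t, htG⟩ * D.kk i = (⟨u, huG⟩ : ↥G)⁻¹ * (D.kk i * ⟨x, hxG⟩ * (D.kk i)⁻¹) * (⟨v, hvG⟩ : ↥G)⁻¹ := by
      apply Subtype.ext
      show t * D.k i = u⁻¹ * (D.k i * x * (D.k i)⁻¹) * v⁻¹
      rw [e]; group
    rw [e2]
    exact mul_mem (mul_mem (inv_mem (Subgroup.subset_normalClosure hu))
      (Subgroup.normalClosure_normal.conj_mem (⟨x, hxG⟩ : ↥G) (Subgroup.subset_normalClosure hx) _))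
      (inv_mem (Subgroup.subset_normalClosure hv))
  · rintro _ ⟨i, rfl⟩ t ht x hx
    change x ∈ BpExc.FixGood.Xs D (D.kk i) at hx
    change _ ∈ BpExc.FixGood.Xs D (D.kk i)
    rw [BpExc.FixGood.Xs_kk] at hx ⊢
    exact D.T_norm (mem_T D ht.1 ht.2) (fun a ha => D.root a ha.1) hx
  · rintro m hm _ ⟨i, rfl⟩
    change (∀ x ∈ BpExc.FixGood.Xs D (D.kk i), _) ∨ ∀ x ∈ BpExc.FixGood.Xs D (D.kk i), m⁻¹ * (D.kk i * x * (D.kk i)⁻¹) * m ∈ _
    rw [BpExc.FixGood.Xs_kk]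
    exact (D.toRootData.root_cases m hm i).imp_right fun hc x hx => hc _ (D.toRootData.conj_n_X i x hx)

theorem LG_eq : (LG p G).subgroupOf G = Subgroup.normalClosure ((RGD.Sup X (Sp S)).subgroupOf G : Set ↥G) := by
  have E := sx D hZ hS hT hm hopp
  apply le_antisymm
  · have h1 : LG p G ≤ (Subgroup.normalClosure ((RGD.Sup X (Sp S)).subgroupOf G : Set ↥G)).map G.subtype := by
      refine (Subgroup.closure_le _).2 ?_
      rintro y ⟨hy, j, hj⟩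
      exact ⟨⟨y, hy⟩, E.pel (j := j) (Subtype.ext hj), rfl⟩
    intro x hx
    obtain ⟨y, hy, e⟩ := h1 hx
    rwa [← Subtype.ext e]
  · unfold Subgroup.normalClosure
    rw [Subgroup.closure_le]
    intro y hy
    obtain ⟨x, hx, hxy⟩ := Group.mem_conjugatesOfSet_iff.1 hy
    obtain ⟨g, rfl⟩ := isConj_iff.1 hxy
    obtain ⟨j, hj⟩ := E.isP ⟨x, hx⟩
    have hj' : x ^ p ^ j = 1 := congrArg Subtype.val hj
    refine Subgroup.subset_closure ⟨(g * x * g⁻¹).2, j, ?_⟩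
    rw [← map_pow, conj_pow, hj', mul_one, mul_inv_cancel, map_one]

/-- `LG p G` lies in every subgroup normalised by `G` which contains the unipotent group -/
theorem LG_le_of {L : Subgroup Y} (h1 : ∀ g ∈ G, ∀ x ∈ L, g * x * g⁻¹ ∈ L)
    (h2 : ∀ u ∈ RGD.Sup X (Sp S), u ∈ G → u ∈ L) : LG p G ≤ L := by
  have hn : (L.subgroupOf G).Normal := ⟨fun x hx g => h1 g g.2 x hx⟩
  have h3 : (LG p G).subgroupOf G ≤ L.subgroupOf G := by
    rw [LG_eq D hZ hS hT hm hopp]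
    exact Subgroup.normalClosure_le_normal fun u hu => h2 u hu u.2
  exact fun x hx => h3 (show (⟨x, LG_le hx⟩ : ↥G) ∈ (LG p G).subgroupOf G from hx)

/-- **The components of `LG p G`.** -/
theorem comp_rel (E : Subgroup ↥(LG p G)) (hE : IsComponent E) : ∃ J, CnR D J ∧
    ((∀ i ∈ J, XP D i ≤ ⁅LG p G, LG p G⁆) → HasSplit p (↥E ⧸ Subgroup.center ↥E)) ∧
    (∀ i, J = {i} → 4 ≤ Nat.card (XP D i) ∧
      (Nat.card (XP D i) = 8 → ∃ t ∈ T, t ∈ G ∧ ∃ x ∈ XP D i, t ^ 3 * x ≠ x * t ^ 3)) ∧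
    (∀ i j, J = {i, j} → Nat.card (XP D i) = 2 → Nat.card (XP D j) = 2 → orderOf (D.w i * D.w j) = 4 →
      Nat.card (↥E ⧸ Subgroup.center ↥E) ∣ 720) := by
  have F := sx D hZ hS hT hm hopp
  have hL := LG_eq D hZ hS hT hm hopp
  have hinj := BpExc.FixGood.kk_injective D
  set e := (Subgroup.subgroupOfEquivOfLe (LG_le (p := p) (G := G))).symm with he
  set f : ↥(LG p G) →* ↥G := ((LG p G).subgroupOf G).subtype.comp e.toMonoidHom with hf
  have hfi : Function.Injective f := Subtype.val_injective.comp e.injective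
  have hn : ((LG p G).subgroupOf G).Normal := by rw [hL]; infer_instance
  have h1 : (E.map f).IsSubnormal := by
    rw [hf, ← Subgroup.map_map]
    exact (hE.1.map e.surjective).trans' hn.isSubnormal
  have ε := E.equivMapOfInjective f hfi
  obtain ⟨J, hJ, a1, a2, a3⟩ := F.comp (E.map f) h1 (S1260.isQuasisimple_of_mulEquiv ε hE.2) (by
    rw [← hL]
    rintro _ ⟨x, -, rfl⟩
    exact (e x).2)
  have hJe : J = D.kk '' (D.kk ⁻¹' J) := (Set.image_preimage_eq_of_subset hJ.sub).symm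
  refine ⟨D.kk ⁻¹' J, ⟨?_, fun i hi j hj => (comm_iff D i j).1 (hJ.cl _ hi _ ⟨⟨j, rfl⟩, hj⟩), ?_⟩, fun hc => ?_,
    fun i hi => ?_, fun i j hij b1 b2 b3 => ?_⟩
  · obtain ⟨s, hs⟩ := hJ.ne
    obtain ⟨i, rfl⟩ := hJ.sub hs
    exact ⟨i, hs⟩
  · intro J' hJ' b1 b2
    obtain ⟨_, ⟨i, hi, rfl⟩, t, ht, hc⟩ := hJ.irr (D.kk '' J') (Set.image_subset_iff.2 hJ') (b1.image _) (by
      obtain ⟨j, hj, hj'⟩ := b2
      exact ⟨D.kk j, hj, fun h2 => hj' (hinj.mem_set_image.1 h2)⟩)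
    obtain ⟨j, rfl⟩ := hJ.sub ht.1
    exact ⟨i, hi, j, ⟨ht.1, fun h2 => ht.2 ⟨j, h2, rfl⟩⟩, fun h2 => hc ((comm_iff D i j).2 h2)⟩
  · refine Transport.hasSplit_congr (CpQuot.Congr.cq ε).symm (a3 fun s hs x hx => ?_)
    obtain ⟨i, rfl⟩ := hJ.sub hs
    change x ∈ BpExc.FixGood.Xs D (D.kk i) at hx
    rw [BpExc.FixGood.Xs_kk] at hx
    have b1 := hc i hs (show (x : Y) ∈ XP D i from ⟨hx, x.2⟩)
    rw [← Subgroup.map_subgroupOf_eq_of_le (LG_le (p := p) (G := G)), ← Subgroup.map_commutator, hL] at b1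
    obtain ⟨y, hy, b2⟩ := b1
    rwa [← Subtype.ext b2]
  · rw [hi, Set.image_singleton] at hJe
    subst hJe
    obtain ⟨b1, b2⟩ := F.rank_one hJ a1
    rw [card_Xs] at b1 b2
    refine ⟨b1, fun h8 => ?_⟩
    obtain ⟨t, ht, x, hx, hc⟩ := b2 h8
    rw [BpExc.FixGood.Xs_kk] at hx
    exact ⟨t, mem_T D ht.1 ht.2, t.2, x, ⟨hx, x.2⟩, fun h2 => hc (Subtype.ext h2)⟩
  · rw [hij, Set.image_pair] at hJe
    subst hJe
    have hi := D.w_sq i
    have hj := D.w_sq j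
    have c1 : ∀ k, (alt k (D.kk i) (D.kk j))⁻¹ * alt k (D.kk j) (D.kk i) ∈ D.bn.B ↔
        (alt k (D.w i) (D.w j))⁻¹ * alt k (D.w j) (D.w i) = 1 := fun k =>
      mem_B_iff_one D ((rp_alt D k i j).inv.mul (rp_alt D k j i))
    have ii := D.w_inv i
    have ij := D.w_inv j
    rw [Nat.card_congr (CpQuot.Congr.cq ε).toEquiv]
    refine a2.trans (F.rank_two hJ (fun h2 => ?_) ((card_Xs D i).trans b1) ((card_Xs D j).trans b2) (fun h2 => ?_)
      ((c1 4).2 ?_))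
    · rw [hinj h2, hj, orderOf_one] at b3
      omega
    · have c2 := (c1 3).1 h2
      have c3 : (D.w i * D.w j) ^ 3 = 1 := by
        rw [← c2]
        simp only [alt, mul_one, mul_inv_rev, ii, ij, pow_succ, pow_zero, one_mul, mul_assoc]
      have c4 := orderOf_dvd_of_pow_eq_one c3
      rw [b3] at c4
      omega
    · have c3 : ((D.w i * D.w j) ^ 4)⁻¹ = 1 := by rw [← b3, pow_orderOf_eq_one, inv_one]
      rw [← c3]
      simp only [alt, mul_one, mul_inv_rev, ii, ij, pow_succ, pow_zero, one_mul, mul_assoc]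

end Cfsg.Agent.TH.Ab.Grp
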