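import Cfsg.Agent.TH.Ex.Ab.CompIf
import Cfsg.Agent.TH.Ex.Ab.Grp

/-!
# S3541, `BoxRel`: the relative diagram of a quasi-split datum (helper60)

`pm` : the permutation of the root lattice; `wall_Op`, `exists_of_wall` : the walls are the sets `Op D i`;
`fr`, `cz_lev`, `gf_eq`, `fx` : the frame at a finite level; `boxRel`.
-/

set_option autoImplicit false
set_option linter.unusedSectionVars false
set_option linter.unusedVariables false

namespace Cfsg.Agent.TH.Ab.Cmp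

open CoxeterSystem Cfsg.Agent.ChevalleyStructure.CoxeterGeom Cfsg.Agent.Tits.Roots Cfsg.Agent.Nodes.Reps
  Cfsg.Agent.Nodes.BNOf Cfsg.Agent.Nodes.Bruhat Cfsg.Agent.LangThm Cfsg.Agent.Nodes.SubComb
  Cfsg.Agent.Nodes.Coroot Cfsg.Agent.Nodes.Slope Cfsg.Agent.Nodes.NormalForm Cfsg.Agent.DL.Base Cfsg.Agent.DL
  Cfsg.Agent.BpExc.Zc Cfsg.Agent.SB.Exc.Max Cfsg.Agent.BpExc Cfsg.Agent.BpExc.RelBN Cfsg.Agent.BpExc.SubBN
open scoped Pointwise commutatorElement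

namespace Rl

section Refl

variable {I W : Type} [Fintype I] [DecidableEq I] [Group W] [Finite W] {M : CoxeterMatrix I}
  {cs : CoxeterSystem M W} {A : I → I → ℤ} {h : IsCartan M A}

theorem WS_comm {S S' : Set (I → ℤ)} (H : ∀ a ∈ S, ∀ b ∈ S', IsRoot cs h a → IsRoot cs h b → cpr cs h a b = 0)
    {v v' : W} (hv : v ∈ WS cs h S) (hv' : v' ∈ WS cs h S') : v * v' = v' * v := by
  have h1 : WS cs h S ≤ Subgroup.centralizer (WS cs h S' : Set W) := by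
    refine (Subgroup.closure_le _).2 ?_
    rintro _ ⟨u, j, hj, rfl⟩
    have h2 : WS cs h S' ≤ Subgroup.centralizer {rfl' cs u j} := by
      refine (Subgroup.closure_le _).2 ?_
      rintro _ ⟨u', j', hj', rfl⟩
      refine Subgroup.mem_centralizer_singleton_iff.2 (rep_injective cs h (LinearMap.ext fun x => ?_))
      have r1 := (isRoot_sr cs h j).act u
      have r2 := (isRoot_sr cs h j').act u'
      have e1 := H _ hj _ hj' r1 r2
      have e2 := (cpr_zero_comm cs h r1 r2).1 e1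
      rw [rep_mul_apply, rep_mul_apply]
      simp only [rep_rfl'_eq, cpr_sub, cpr_smul', e1, e2, mul_zero, sub_zero]
      abel
    exact fun y hy => Subgroup.mem_centralizer_singleton_iff.1 (h2 hy)
  exact (h1 hv v' hv').symm

include h in
theorem pairing_nonpos {c : I → ℤ} (hc : 0 ≤ c) {i : I} (hi : c i = 0) : pairing A i c ≤ 0 := by
  refine Finset.sum_nonpos fun j _ => ?_
  by_cases e : i = j
  · rw [← e, hi, mul_zero]
  · refine mul_nonpos_of_nonpos_of_nonneg ?_ (hc j)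
    have := h.rel i j e
    omega

theorem cpr_sr_nonpos {c : I → ℤ} (hr : IsRoot cs h c) (hc : 0 ≤ c) {i : I} (hi : c i = 0) : cpr cs h (sr i) c ≤ 0 := by
  by_contra h1
  have h2 := (cpr_pos_comm (isRoot_sr cs h i) hr).1 (not_le.1 h1)
  rw [cpr_sr] at h2
  exact not_le.2 h2 (pairing_nonpos (h := h) hc hi)

end Refl

variable {p : ℕ} [Fact p.Prime] {k : Type} [Field k] [CharP k p] {Y : Type} [Group Y] {N : Type} [Fintype N]
  [DecidableEq N] {ρ : Y →* GL N k} {F : MulAut Y} {G : Subgroup Y} [IsAlgClosed k] {D : Datum p ρ F G} {e : ℕ}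

variable (D) in
/-- the permutation of the root lattice -/
noncomputable def pm : (D.I → ℤ) ≃+ (D.I → ℤ) where
  toFun x j := x (D.σ.symm j)
  invFun x j := x (D.σ j)
  left_inv x := funext fun j => by simp
  right_inv x := funext fun j => by simp
  map_add' _ _ := rfl

theorem pm_apply (x : D.I → ℤ) (j : D.I) : pm D x j = x (D.σ.symm j) := rfl

theorem pm_sr (i : D.I) : pm D (sr i) = sr (D.σ i) := by
  funext j
  rw [pm_apply]
  by_cases h : j = D.σ i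
  · rw [h, Equiv.symm_apply_apply, sr_self, sr_self]
  · rw [sr_ne h, sr_ne fun e => h (by rw [← e, Equiv.apply_symm_apply])]

theorem g_eq (H : Cx D e) {a : D.I → ℤ} (ha : D.Rt a) : D.g a = pm D a := by
  apply D.ψ_injective
  rw [ψ_g' H.ex ha]
  symm
  refine FixRel.ext_sr (f := D.ψ.comp (pm D).toAddMonoidHom) (g := ((p : ℤ) ^ e) • AddMonoidHom.id _) (fun i => ?_) a
  show D.ψ (pm D (sr i)) = ((p : ℤ) ^ e) • sr i
  rw [pm_sr, ← H.qs.g_sr, ψ_g' H.ex (isRoot_sr _ _ i)]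

theorem so_iff (H : Cx D e) {i j : D.I} : So D i j ↔ D.σ.SameCycle i j := by
  have key : ∀ n : ℕ, D.g^[n] (sr i) = sr ((D.σ ^ n) i) := fun n => by
    induction n with
    | zero => rfl
    | succ n ih => rw [Function.iterate_succ_apply', ih, H.qs.g_sr, pow_succ', Equiv.Perm.mul_apply]
  constructor
  · rintro ⟨n, hn⟩
    refine ⟨n, ?_⟩
    rw [zpow_natCast]
    by_contra h
    have := congrFun ((key n).symm.trans hn) j
    rw [sr_self, sr_ne fun e => h e.symm] at this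
    exact zero_ne_one this
  · intro h
    obtain ⟨n, hn⟩ := h.exists_nat_pow_eq
    exact ⟨n, by rw [key, hn]⟩

theorem so_refl (i : D.I) : So D i i := ⟨0, rfl⟩

theorem so_symm (H : Cx D e) {i j : D.I} (h : So D i j) : So D j i := (so_iff H).2 ((so_iff H).1 h).symm

theorem so_trans (H : Cx D e) {i j l : D.I} (h : So D i j) (h' : So D j l) : So D i l :=
  (so_iff H).2 (((so_iff H).1 h).trans ((so_iff H).1 h'))

theorem so_σ (H : Cx D e) {i j : D.I} : So D i (D.σ j) ↔ So D i j := by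
  rw [so_iff H, so_iff H, Equiv.Perm.sameCycle_apply_right]

theorem iv_sr (H : Cx D e) {f : (D.I → ℤ) →+ ℤ} (hf : f ∈ Iv (pm D).toAddMonoidHom) {i j : D.I} (h : So D i j) :
    f (sr j) = f (sr i) := by
  obtain ⟨n, hn⟩ := h
  rw [← hn]
  clear hn
  induction n with
  | zero => rfl
  | succ n ih =>
    rw [Function.iterate_succ_apply', g_eq H (D.iterate_g_root n (isRoot_sr _ _ i)), ← ih]
    exact hf _

theorem ht_apply (x : D.I → ℤ) : htHom x = ∑ j, x j := rfl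

theorem ht_iv : htHom ∈ Iv (pm D).toAddMonoidHom := fun x => Equiv.sum_comp D.σ.symm x

theorem ht_sr (i : D.I) : htHom (sr i : D.I → ℤ) = 1 := by
  rw [ht_apply]
  simp [sr]

theorem ht_pos : ∀ a ∈ Sp {a | D.Rt a}, 0 < htHom a := fun a ha => D.ht_pos_of_pos a ⟨ha.1, ha.2⟩

theorem iv_supp (H : Cx D e) {f : (D.I → ℤ) →+ ℤ} (hf : f ∈ Iv (pm D).toAddMonoidHom) {i : D.I} {a : D.I → ℤ}
    (ha : ∀ j, ¬ So D i j → a j = 0) : f a = htHom a * f (sr i) := by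
  rw [D.map_eq_sum f, ht_apply, Finset.sum_mul]
  refine Finset.sum_congr rfl fun j _ => ?_
  by_cases h : So D i j
  · rw [iv_sr H hf h]
  · rw [ha j h, zero_mul, zero_mul]

open Classical in
variable (D) in
/-- the functional of an orbit -/
noncomputable def fO (i : D.I) : (D.I → ℤ) →+ ℤ where
  toFun x := ∑ j, if So D i j then 0 else x j
  map_zero' := by simp
  map_add' x y := by
    rw [← Finset.sum_add_distrib]
    exact Finset.sum_congr rfl fun j _ => by split_ifs <;> simp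

open Classical in
theorem fO_apply (i : D.I) (x : D.I → ℤ) : fO D i x = ∑ j, if So D i j then 0 else x j := rfl

theorem fO_iv (H : Cx D e) (i : D.I) : fO D i ∈ Iv (pm D).toAddMonoidHom := fun x => by
  show fO D i (pm D x) = _
  rw [fO_apply, fO_apply, ← Equiv.sum_comp D.σ]
  refine Finset.sum_congr rfl fun j _ => ?_
  by_cases h : So D i j
  · rw [if_pos h, if_pos ((so_σ H).2 h)]
  · rw [if_neg h, if_neg (mt (so_σ H).1 h), pm_apply, Equiv.symm_apply_apply]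

theorem fO_nonneg (i : D.I) {x : D.I → ℤ} (hx : 0 ≤ x) : 0 ≤ fO D i x :=
  Finset.sum_nonneg fun j _ => by split_ifs; exacts [le_rfl, hx j]

theorem fO_eq_zero (i : D.I) {x : D.I → ℤ} (hx : 0 ≤ x) : fO D i x = 0 ↔ ∀ j, ¬ So D i j → x j = 0 := by
  rw [fO_apply, Finset.sum_eq_zero_iff_of_nonneg fun j _ => by split_ifs; exacts [le_rfl, hx j]]
  exact ⟨fun h j hj => by simpa [hj] using h j (Finset.mem_univ j), fun h j _ => by
    split_ifs with hj; exacts [rfl, h j hj]⟩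

theorem Op_eq (i : D.I) : Op D i = cl {a | D.Rt a} (fO D i) := by
  ext a
  exact ⟨fun h => ⟨h.1, h.2.1, (fO_eq_zero i h.2.1).2 h.2.2⟩, fun h => ⟨h.1, h.2.1, (fO_eq_zero i h.2.1).1 h.2.2⟩⟩

theorem sr_mem_Op {i j : D.I} : sr j ∈ Op D i ↔ So D i j :=
  ⟨fun h => by_contra fun h1 => one_ne_zero ((sr_self j).symm.trans (h.2.2 j h1)), fun h =>
    ⟨isRoot_sr _ _ j, sr_nonneg j, fun l hl => sr_ne fun e => hl (e ▸ h)⟩⟩

theorem Op_eq_iff (H : Cx D e) {i j : D.I} : Op D i = Op D j ↔ So D i j := by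
  refine ⟨fun h => sr_mem_Op.1 (h ▸ sr_mem_Op.2 (so_refl j)), fun h => ?_⟩
  ext a
  exact ⟨fun ha => ⟨ha.1, ha.2.1, fun l hl => ha.2.2 l fun h1 => hl (so_trans H (so_symm H h) h1)⟩,
    fun ha => ⟨ha.1, ha.2.1, fun l hl => ha.2.2 l fun h1 => hl (so_trans H h h1)⟩⟩

theorem wall_Op (H : Cx D e) (i : D.I) : FixRel.Wall {a | D.Rt a} (pm D) htHom (Op D i) :=
  ⟨⟨_, sr_mem_Op.2 (so_refl i)⟩, fO D i, fO_iv H i, fun a ha => fO_nonneg i ha.2, Op_eq i, fun a ha b hb f hf => by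
    rw [iv_supp H hf ha.2.2, iv_supp H hf hb.2.2]; ring⟩

theorem exists_of_wall (H : Cx D e) {c : Set (D.I → ℤ)} (hc : FixRel.Wall {a | D.Rt a} (pm D) htHom c) :
    ∃ i, Op D i = c := by
  obtain ⟨⟨a, ha⟩, f, hf, hf0, rfl, hpar⟩ := hc
  obtain ⟨i, hi⟩ := Function.ne_iff.1 (IsRoot.ne_zero ha.1)
  have h0 : ∀ j, 0 ≤ f (sr j) := fun j => hf0 _ ⟨isRoot_sr _ _ j, sr_nonneg j⟩
  have h1 : f (sr i) = 0 := by
    have h2 := ha.2.2
    rw [D.map_eq_sum f, Finset.sum_eq_zero_iff_of_nonneg fun j _ => mul_nonneg (ha.2.1 j) (h0 j)] at h2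
    exact (mul_eq_zero.1 (h2 i (Finset.mem_univ i))).resolve_left hi
  refine ⟨i, Set.ext fun b => ⟨fun hb => ⟨hb.1, hb.2.1, by rw [iv_supp H hf hb.2.2, h1, mul_zero]⟩, fun hb => ?_⟩⟩
  have h2 := hpar b hb (sr i) ⟨isRoot_sr _ _ i, sr_nonneg i, h1⟩ _ (fO_iv H i)
  rw [ht_sr, mul_one, (fO_eq_zero i (sr_nonneg i)).2 (sr_mem_Op.2 (so_refl i)).2.2, zero_mul] at h2
  exact ⟨hb.1, hb.2.1, (fO_eq_zero i hb.2.1).1 h2⟩

theorem g_mem_Op (H : Cx D e) {i : D.I} {a : D.I → ℤ} (ha : a ∈ Op D i) : D.g a ∈ Op D i :=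
  ⟨D.g_root a ha.1, H.qs a ha.1 ha.2.1, fun j hj => by
    rw [g_eq H ha.1, pm_apply]
    exact ha.2.2 _ fun h => hj (by rwa [← so_σ H, Equiv.apply_symm_apply] at h)⟩

theorem uni_Op (i : D.I) : D.Uni (Op D i) := by
  refine D.uni_of_subset_pos ⟨fun _ h => h.1, fun x hx y hy z hz => ?_⟩ fun a ha => ⟨ha.1, ha.2.1⟩
  exact ⟨hz.1, (D.cl_pos.btw x ⟨hx.1, hx.2.1⟩ y ⟨hy.1, hy.2.1⟩ z hz).2, fun j hj =>
    btwn_zero' hz (Pi.evalAddMonoidHom (fun _ => ℤ) j) (hx.2.2 j hj) (hy.2.2 j hj)⟩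

theorem uni_neg {A : Set (D.I → ℤ)} (hA : D.Uni A) : D.Uni {a | -a ∈ A} := by
  obtain ⟨lam, hl⟩ := hA.pos
  refine ⟨⟨fun a ha => neg_neg a ▸ (hA.root _ ha).neg, fun x hx y hy z hz => hA.cl.btw _ hx _ hy _ ?_⟩, -lam,
    fun a ha => by rw [AddMonoidHom.neg_apply, ← map_neg]; exact hl _ ha⟩
  obtain ⟨h1, m, i, j, hm, hi, hj, h2⟩ := hz
  exact ⟨h1.neg, m, i, j, hm, hi, hj, by rw [smul_neg, h2, smul_neg, smul_neg, neg_add]⟩

theorem exists_fix_neg (H : Cx D e) (i : D.I) : ∃ y ∈ D.S {a | -a ∈ Op D i}, F y = y ∧ y ≠ 1 := by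
  have hU := uni_neg (uni_Op (D := D) i)
  have hl : ∀ a ∈ {a | -a ∈ Op D i}, 0 < (-htHom) a := fun a ha => by
    rw [AddMonoidHom.neg_apply, ← map_neg]
    exact D.ht_pos_of_pos _ ⟨ha.1, ha.2.1⟩
  have hg : ∀ a ∈ {a | -a ∈ Op D i}, D.g a ∈ {a | -a ∈ Op D i} := fun a ha => by
    show -D.g a ∈ Op D i
    rw [← D.g_neg (hU.root a ha)]
    exact g_mem_Op H ha
  obtain ⟨κ, K⟩ := exists_crd (crel_cz H.cz) (A := {a | -a ∈ Op D i}) (B := {a | -a ∈ Op D i ∧ htHom a = -1}) hU.root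
    (-htHom) hl (fun _ h => h.1) fun a ha a' ha' _ c hc => ⟨hU.cl.btw a ha a' ha' c hc.1.btwn, fun h => by
      obtain ⟨m, n, hm, hn, h1⟩ := hc.1.map htHom
      have h2 := hl a ha
      have h3 := hl a' ha'
      rw [AddMonoidHom.neg_apply] at h2 h3
      rw [h.2] at h1
      nlinarith⟩
  have hb : -sr i ∈ {a | -a ∈ Op D i ∧ htHom a = -1} :=
    ⟨by rw [neg_neg]; exact sr_mem_Op.2 (so_refl i), by rw [map_neg, ht_sr]⟩
  obtain ⟨C, hC, h1⟩ := K.exists_orbit H.ex hg (fun a ha => ⟨hg a ha.1, by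
    rw [ht_g H.ex H.qs (hU.root a ha.1), ha.2]⟩) hb
  obtain ⟨s, hs, hs0⟩ := exists_sol_ne (p := p) hC
    (Nat.mul_pos H.he (Function.minimalPeriod_pos_of_mem_periodicPts (periodic (isRoot_sr D.cs D.h i).neg)))
  obtain ⟨y, hy, h2, h3, -⟩ := h1 s hs
  exact ⟨y, hy, h2, fun h => hs0 (by rw [← h3, h, K.one hb])⟩

/-! ### the finite level -/

variable {d E : ℕ}

theorem fix_le (L : D.Split d E) {y : Y} (hy : F y = y) : y ∈ lev p ρ E := by
  rw [← L.fix_eq]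
  exact fix_le_fix_pow d hy

theorem F_lev (L : D.Split d E) {y : Y} (hy : y ∈ lev p ρ E) : F y ∈ lev p ρ E := by
  rw [← L.fix_eq] at hy ⊢
  rw [mem_fix] at hy ⊢
  rw [← MulAut.mul_apply, ← pow_succ, pow_succ', MulAut.mul_apply, hy]

theorem fr (H : Cx D e) (L : D.Split d E) : FixRel.Fr L.rgd {a | D.Rt a} F (pm D) where
  tor t ht := ⟨D.F_mem_T ht.1, F_lev L ht.2⟩
  root a ha := g_eq H ha ▸ D.g_root a ha
  map a ha u hu := ⟨g_eq H ha ▸ D.F_mem_X ha hu.1, F_lev L hu.2⟩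
  rp v g hg := ⟨_, D.rp_lev L.e_pos L.dvd (D.rp_of_lev L.e_pos L.dvd hg).mapF (F_lev L (by
    have h1 : g ∈ G ⊓ lev p ρ E := L.G_inf_lev ▸ NN_le_GG L.rgd ⟨v, hg⟩
    exact h1.2))⟩
  mem a ha := by
    show D.Rt (pm D a)
    exact g_eq H ha ▸ D.g_root a ha
  pos a ha h0 := g_eq H ha ▸ H.qs a ha h0

theorem cz_lev (H : Cx D e) (L : D.Split d E) : CommZ D.cs D.h (D.Xe E) := by
  intro x y hx hy h1 h2 a ha b hb
  have h3 := H.cz x y hx hy h1 h2 a ha.1 b hb.1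
  have h4 : ⁅a, b⁆ ∈ lev p ρ E := by
    rw [commutatorElement_def]
    exact mul_mem (mul_mem (mul_mem ha.2 hb.2) (inv_mem ha.2)) (inv_mem hb.2)
  obtain ⟨lam, hl⟩ := (D.uni_btwn hx hy h1 h2).pos
  obtain ⟨l, c1, c2⟩ := exists_conv (cs := D.cs) (h := D.h) (S := {z | ZB D.cs D.h x y z}) (fun _ h => h.1) lam
    fun z hz => hl z (ZB.btwn hz)
  have c3 : ∀ z ∈ l, D.Rt z ∧ 0 < lam z := fun z hz => ⟨((c2 z).1 hz).1, hl z (ZB.btwn ((c2 z).1 hz))⟩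
  obtain ⟨c, -, h5⟩ := exists_lp_cr (crel_cz H.cz) lam c1 c3 (A := {z | ZB D.cs D.h x y z}) (by
    rintro _ ⟨-, i, j, hi, hj, rfl⟩ _ ⟨-, i', j', hi', hj', rfl⟩ - z ⟨⟨hz, m, n, hm, hn, rfl⟩, -⟩
    exact ⟨hz, m * i + n * i', m * j + n * j', by positivity, by positivity, by module⟩) (fun z hz => (c2 z).2 hz) h3
  rw [h5] at h4 ⊢
  rw [← L.fix_eq, mem_fix, L.lp fun z hz => (c3 z hz).1] at h4
  refine D.lp_mem (fun z hz => (c3 z hz).1) fun z hz _ => ?_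
  exact RGD.le_Sup (X := D.Xe E) ((c2 z).1 hz)
    ⟨D.x_mem (c3 z hz).1 _, (L.x_mem_lev (c3 z hz).1).2 (D.lp_inj lam c1 c3 h4 z hz)⟩

theorem gf_eq (L : D.Split d E) : FixRel.Gf (D.Te E) (D.Xe E) {a | D.Rt a} F = GF F G := by
  have h1 : GS (D.Te E) (D.Xe E) {a | D.Rt a} = G ⊓ lev p ρ E := by rw [L.G_inf_lev, GS, GG, sup_comm]
  ext y
  rw [FixRel.mem_Gf, h1, mem_GF]
  exact ⟨fun h => ⟨h.1.1, h.2⟩, fun h => ⟨⟨h.1, fix_le L h.2⟩, h.2⟩⟩

theorem fx (H : Cx D e) (L : D.Split d E) : FixRel.Fx (D.Xe E) {a | D.Rt a} F (pm D) htHom := by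
  intro c hc
  obtain ⟨i, rfl⟩ := exists_of_wall H hc
  obtain ⟨y, hy, h1, h2⟩ := exists_fix_neg H i
  exact ⟨y, L.S_inf_lev (uni_neg (uni_Op i)) ▸ Subgroup.mem_inf.2 ⟨hy, fix_le L h1⟩, h1, h2⟩

theorem zcl : ZClosed D.cs D.h {a | D.Rt a} := ⟨fun _ h => h, fun _ _ _ _ _ hz => hz.1⟩

/-- the relative root data and the dictionary -/
theorem exists_rel (H : Cx D e) (L : D.Split d E) : ∃ (ι : Type) (R : Rel L.rgd {a | D.Rt a} (GF F G) ι) (o : D.I → ι),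
    Function.Surjective o ∧ (∀ i, cl {a | D.Rt a} (R.f (o i)) = Op D i) ∧
    (∀ i, R.w (o i) ∈ WS D.cs D.h {a | D.Rt a ∧ ∀ j, ¬ So D i j → a j = 0}) ∧
    ∃ v ∈ H85.RelStr.WR R, ∀ a ∈ Sp {a | D.Rt a}, rep D.cs D.h v a ≤ 0 := by
  rw [← gf_eq L]
  have hn : ∀ a ∈ {a | D.Rt a}, -a ∈ {a | D.Rt a} := fun _ h => IsRoot.neg h
  have hs := FixRel.specW (fr H L) (cz_lev H L) zcl hn ht_iv ht_pos (fx H L)
  obtain ⟨v, hv, -, -, -, h1⟩ := FixRel.exists_opp (fr H L) (cz_lev H L) zcl hn ht_iv ht_pos (fx H L)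
  refine ⟨_, FixRel.rel (fr H L) (cz_lev H L) zcl hn ht_iv ht_pos (fx H L), fun i => ⟨Op D i, wall_Op H i⟩, fun c => ?_,
    fun i => (hs ⟨Op D i, wall_Op H i⟩).2.2.1.symm, fun i => WS_mono ?_ (hs ⟨Op D i, wall_Op H i⟩).2.2.2.1, v, hv, h1⟩
  · obtain ⟨i, hi⟩ := exists_of_wall H c.2
    exact ⟨i, Subtype.ext hi⟩
  · intro a ha
    refine ⟨ha.1, ?_⟩
    have h2 := (hs ⟨Op D i, wall_Op H i⟩).2.2.1
    rcases IsRoot.pos_or_neg ha.1 with h3 | h3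
    · have h4 : a ∈ Op D i := h2.ge ⟨ha.1, h3, ha.2⟩
      exact h4.2.2
    · have h4 : -a ∈ Op D i := h2.ge ⟨hn a ha.1, neg_nonneg.2 h3, by rw [map_neg, ha.2, neg_zero]⟩
      exact fun j hj => neg_eq_zero.1 (h4.2.2 j hj)

section Dict

variable (H : Cx D e) (L : D.Split d E) {ι : Type} (R : Rel L.rgd {a | D.Rt a} (GF F G) ι) {o : D.I → ι}
  (hc : ∀ i, cl {a | D.Rt a} (R.f (o i)) = Op D i)
  (hw : ∀ i, R.w (o i) ∈ WS D.cs D.h {a | D.Rt a ∧ ∀ j, ¬ So D i j → a j = 0})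

include H hc in
theorem o_eq_iff {i j : D.I} : o i = o j ↔ So D i j := by
  rw [← Op_eq_iff H, ← hc, ← hc]
  exact ⟨fun h => by rw [h], R.injc _ _⟩

include hc in
theorem XP_eq (i : D.I) : Grp.XP R (o i) = XO D i := by
  rw [Grp.XP, hc, ← L.S_inf_lev (uni_Op i), XO]
  ext y
  exact ⟨fun h => ⟨h.1.1, h.2.2⟩, fun h => ⟨⟨h.1, fix_le L h.2⟩, D.S_le_G (uni_Op i).root h.1, h.2⟩⟩

include hw in
theorem comm_of_orth {i j : D.I} (h : ∀ i' j', So D i i' → So D j j' → cpr D.cs D.h (sr i') (sr j') = 0) :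
    R.w (o i) * R.w (o j) = R.w (o j) * R.w (o i) := by
  refine WS_comm (fun a ha b hb _ _ => ?_) (hw i) (hw j)
  rw [← el_apply, D.map_eq_sum]
  refine Finset.sum_eq_zero fun i' _ => ?_
  by_cases h1 : So D i i'
  · rw [el_apply, (cpr_zero_comm D.cs D.h hb.1 (isRoot_sr _ _ i')).1 ?_, mul_zero]
    rw [← el_apply, D.map_eq_sum]
    refine Finset.sum_eq_zero fun j' _ => ?_
    by_cases h2 : So D j j'
    · rw [el_apply, (cpr_zero_comm D.cs D.h (isRoot_sr _ _ i') (isRoot_sr _ _ j')).1 (h i' j' h1 h2), mul_zero]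
    · rw [hb.2 j' h2, zero_mul]
  · rw [ha.2 i' h1, zero_mul]

include H hc hw in
theorem orth_of_comm {i j : D.I} (hij : ¬ So D i j) (h : R.w (o i) * R.w (o j) = R.w (o j) * R.w (o i)) :
    cpr D.cs D.h (sr i) (sr j) = 0 := by
  have cp' : ∀ c ∈ Op D i, 0 ≤ rep D.cs D.h (R.w (o j)) c := fun c hc' => by
    refine (R.w_cp (o j) ⟨hc'.1, hc'.2.1, (R.fpos _ c hc'.1 hc'.2.1).lt_of_ne' fun h0 => ?_⟩).2.1
    have h1 : c ∈ Op D j := (hc j).le ⟨hc'.1, hc'.2.1, h0⟩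
    refine IsRoot.ne_zero hc'.1 (funext fun l => ?_)
    by_cases h2 : So D i l
    · exact h1.2.2 l fun h3 => hij (so_trans H h2 (so_symm H h3))
    · exact hc'.2.2 l h2
  have ng : ∀ l c, c ∈ Op D l → -rep D.cs D.h (R.w (o l)) c ∈ Op D l := fun l c h0 => by
    have h1 := R.w_cl (o l) ((hc l).ge h0)
    exact (hc l).le ⟨IsRoot.neg h1.1, neg_nonneg.2 h1.2.1, by rw [map_neg, h1.2.2, neg_zero]⟩
  have hi := sr_mem_Op.2 (so_refl (D := D) i)
  have h1 : rep D.cs D.h (R.w (o j)) (sr i) ∈ Op D i := by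
    rw [← hc, ← R.NgS_w]
    refine ⟨⟨(isRoot_sr _ _ i).act _, cp' _ hi⟩, ?_⟩
    have h2 := cp' _ (ng i _ hi)
    rw [map_neg, ← rep_mul_apply, ← h, rep_mul_apply] at h2
    exact neg_nonneg.1 h2
  have h2 : rep D.cs D.h (R.w (o j)) (sr i) = sr i := funext fun l => by
    by_cases h3 : So D j l
    · have h4 : ¬ So D i l := fun h4 => hij (so_trans H h4 (so_symm H h3))
      rw [h1.2.2 l h4, hi.2.2 l h4]
    · exact WS_f (f := Pi.evalAddMonoidHom (fun _ => ℤ) l) (fun a ha => ha.2 l h3) (hw j) (sr i)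
  have h3 := ng j _ (sr_mem_Op.2 (so_refl j))
  have h4 := cpr_sr_nonpos h3.1 h3.2.1 (h3.2.2 i fun h5 => hij (so_symm H h5))
  rw [cpr_neg_right _ _ _ ((isRoot_sr _ _ j).act _)] at h4
  conv_lhs at h4 => rw [← h2, cpr_rep _ _ _ _ (isRoot_sr _ _ j)]
  have h5 := cpr_sr_nonpos (isRoot_sr D.cs D.h j) (sr_nonneg j) (i := i) (sr_ne fun e => hij (e ▸ so_refl i))
  omega

end Dict

end Rl

open Rl in
/-- [REL] -/
theorem boxRel : BoxRel := by
  intro p _ k _ _ _ Y _ N _ _ ρ F G D e H E hE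
  obtain ⟨d, m, L⟩ := D.exists_split'
  obtain ⟨ι, R, o, ho, hc, hw, hopp⟩ := exists_rel H L
  have := D.amb.finite_GF G
  have hT : ∀ a ∈ D.Te m, ∀ b ∈ D.Te m, a * b = b * a := fun a ha b hb => D.T_comm ha.1 hb.1
  have hm : ∃ n : ℕ, ¬ p ∣ n ∧ ∀ t ∈ D.Te m, t ∈ GF F G → t ^ n = 1 := by
    have h1 : 1 ≤ p ^ m := Nat.one_le_pow _ _ (Fact.out : p.Prime).pos
    refine ⟨p ^ m - 1, fun h => (Fact.out : p.Prime).not_dvd_one ?_, fun t ht h => ?_⟩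
    · exact (Nat.dvd_sub_iff_right h1 (dvd_pow_self p L.e_pos.ne')).1 h
    · have h2 := L.T ht.1
      rw [pow_fix h.2] at h2
      refine mul_right_cancel (b := t) ?_
      rw [← pow_succ, Nat.sub_add_cancel h1, ← h2, one_mul]
  have hL : LL D = Grp.LG p (GF F G) := by
    refine le_antisymm (Subgroup.closure_mono fun y hy => ⟨⟨D.S_le_G (fun _ h => h) hy.1, hy.2.1⟩, hy.2.2⟩)
      (Grp.LG_le_of R (cz_lev H L) zcl hT hm hopp (fun g hg x hx => ?_) fun u hu h => ?_)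
    · have h1 : LL D ≤ (LL D).comap (MulAut.conj g).toMonoidHom := by
        refine (Subgroup.closure_le _).2 ?_
        rintro y ⟨h1, h2, j, h3⟩
        refine mem_LL (y := g * y * g⁻¹) (conj_mem_roots hg.1 y h1) ?_ (j := j) ?_
        · rw [map_mul, map_mul, map_inv, (mem_GF.1 hg).2, h2]
        · rw [conj_pow, h3, mul_one, mul_inv_cancel]
      exact h1 hx
    · exact mem_LL_U (D.Sup_Xe_le m _ hu) h.2
  have key : ∀ K : Subgroup Y, K = Grp.LG p (GF F G) → ∀ E : Subgroup ↥K, IsComponent E → ∃ J, Grp.CnR R J ∧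
      ((∀ i ∈ J, Grp.XP R i ≤ ⁅K, K⁆) → FixBN.HasSplit p (↥E ⧸ Subgroup.center ↥E)) ∧
      ∀ i, J = {i} → 4 ≤ Nat.card (Grp.XP R i) ∧
        (Nat.card (Grp.XP R i) = 8 → ∃ t ∈ D.Te m, t ∈ GF F G ∧ ∃ x ∈ Grp.XP R i, t ^ 3 * x ≠ x * t ^ 3) := by
    rintro _ rfl E hE
    obtain ⟨J, hJ, a1, a2, -⟩ := Grp.comp_rel R (cz_lev H L) zcl hT hm hopp E hE
    exact ⟨J, hJ, a1, a2⟩
  obtain ⟨J, hJ, a1, a2⟩ := key _ hL E hE
  refine ⟨o ⁻¹' J, ⟨?_, fun i hi j h => ?_, fun i hi j hj => ?_, fun J' h1 h2 h3 h4 => ?_⟩, fun h => a1 fun c hc' => ?_,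
    fun i h => ?_⟩
  · obtain ⟨c, hc'⟩ := hJ.ne
    obtain ⟨i, rfl⟩ := ho c
    exact ⟨i, hc'⟩
  · show o j ∈ J
    rw [← (o_eq_iff H L R hc).2 h]
    exact hi
  · exact orth_of_comm H L R hc hw (fun h => hj (show o j ∈ J from (o_eq_iff H L R hc).2 h ▸ hi)) (hJ.cl _ hi _ hj)
  · have b1 : ∀ j, o j ∈ o '' J' → j ∈ J' := by
      rintro j ⟨i, hi, h⟩
      exact h2 i hi j ((o_eq_iff H L R hc).1 h)
    obtain ⟨j, hj⟩ := h4
    obtain ⟨_, ⟨i, hi, rfl⟩, c, hc', b2⟩ := hJ.irr (o '' J') (by rintro _ ⟨i, hi, rfl⟩; exact h1 hi) (h3.image o)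
      ⟨o j, hj.1, fun h => hj.2 (b1 j h)⟩
    obtain ⟨l, rfl⟩ := ho c
    by_contra b3
    push Not at b3
    refine b2 (comm_of_orth L R hw fun i' j' b4 b5 => b3 i' (h2 i hi i' b4) j' ⟨?_, fun b6 => hc'.2 ?_⟩)
    · show o j' ∈ J
      rw [← (o_eq_iff H L R hc).2 b5]
      exact hc'.1
    · exact ⟨j', b6, ((o_eq_iff H L R hc).2 b5).symm⟩
  · obtain ⟨i, rfl⟩ := ho c
    rw [XP_eq L R hc]
    exact h i hc'
  · have b1 : J = {o i} := by
      refine hJ.ne.subset_singleton_iff.1 fun c hc' => ?_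
      obtain ⟨j, rfl⟩ := ho c
      exact ((o_eq_iff H L R hc).2 (h j hc')).symm
    obtain ⟨b2, b3⟩ := a2 _ b1
    rw [XP_eq L R hc] at b2 b3
    refine ⟨b2, fun b4 => ?_⟩
    obtain ⟨t, ht, b5, b6⟩ := b3 b4
    exact ⟨t, ht.1, b5.2, b6⟩

end Cfsg.Agent.TH.Ab.Cmp
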