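import Cfsg.Agent.TH.Ex.Ab.NCDefs
import Cfsg.Agent.SB.Exc.Max.FFour
import Cfsg.Agent.SB.Exc.Max.Shape
import Cfsg.Agent.SignalizersComponents.Components

/-!
# S3541, `BoxMax` : the property `HE` of the invariant subsystem subgroups (helper64)

`Sit0.he_of`, `Sit0.he_odd`; `Sit2.dc`, `Sit2.heP`, `Sit2.he`; `ncA`, `ncB`, `ncC`.
-/

set_option autoImplicit false
set_option linter.unusedSectionVars false

namespace Cfsg.Agent.TH.Ab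

open CoxeterSystem Cfsg Cfsg.Agent.ChevalleyStructure.CoxeterGeom Cfsg.Agent.Tits.Roots Cfsg.Agent.Nodes.Reps
  Cfsg.Agent.Nodes.BNOf Cfsg.Agent.Nodes.Bruhat Cfsg.Agent.LangThm Cfsg.Agent.Nodes.SubComb
  Cfsg.Agent.Nodes.Coroot Cfsg.Agent.Nodes.Slope Cfsg.Agent.Nodes.NormalForm Cfsg.Agent.DL.Base Cfsg.Agent.DL
  Cfsg.Agent.BpExc.Zc
open Cfsg.Agent.SB.Exc.Max

variable {p : ℕ} [Fact p.Prime] {k : Type} [Field k] [CharP k p] {Y : Type} [Group Y] {N : Type} [Fintype N]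
  [DecidableEq N] {ρ : Y →* GL N k} {σ : MulAut Y} [IsAlgClosed k]
  {D : Datum p ρ σ ⊤} {e : ℕ} {Γ : Subgroup (MulAut Y)} {K R : Subgroup Y}

theorem eq_two_of_pow {e : ℕ} (he : 0 < e) (h : p ^ e = 2) : p = 2 :=
  (Nat.prime_dvd_prime_iff_eq Fact.out Nat.prime_two).1 (h ▸ dvd_pow_self p he.ne')

theorem solvable_NN (h : Group.IsSolvable D.W) : Group.IsSolvable D.NN := by
  have : Group.IsSolvable D.T := Group.isSolvable_of_comm fun a b => Subtype.ext (D.T_comm a.2 b.2)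
  exact Group.isSolvable_of_ker_le_range (Subgroup.inclusion D.T_le_NN)
    (MonoidHom.mk' (fun m : D.NN => D.pr m) fun a b => D.pr_mul a.2 b.2)
    fun m hm => ⟨⟨m, (D.pr_eq_one_iff m.2).1 hm⟩, rfl⟩

theorem Sit0.he_of (H : Sit0 D e Γ K R) (hC : BoxComp2) {Z : Set Y} (hZ : Z ⊆ D.T) (hF : ∀ a ∈ D.Sz Z, D.g a ∈ D.Sz Z)
    (hI : Inv Γ (D.S (D.Sz Z))) (hK : ¬ K ≤ D.S (D.Sz Z))
    (h : ∀ E : Subgroup ↥(PE p σ (D.S (D.Sz Z))), IsComponent E → p = 2 → ∀ a ∈ D.Sz Z, ∀ b ∈ D.Sz Z, a ≠ b →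
      cpr D.cs D.h a b = 2 →
        ¬ ∀ c ∈ D.Sz Z, (cpr D.cs D.h c a = 0 ∧ cpr D.cs D.h c b = 0) ∨ ∃ i j : ℤ, c = i • a + j • b) :
    HE p σ (D.S (D.Sz Z)) :=
  H.gc.he0 _ hI hK fun E hE => by
    rcases hC p k Y N ρ σ ⊤ D e Z H.hyp.he H.hyp.ex H.hyp.cz hZ hF (fun a ha b hb => H.fx.le_two a b ha.1 hb.1) E hE with
      h1 | ⟨h1, a, ha, b, hb, h2, h3, h4⟩
    · exact H.gc.nc _ hI hK E hE h1
    · exact h E hE (eq_two_of_pow H.hyp.he h1) a ha b hb h2 h3 h4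

theorem Sit0.he_odd (H : Sit0 D e Γ K R) (hC : BoxComp2) (hp : p ≠ 2) {Z : Set Y} (hZ : Z ⊆ D.T)
    (hF : ∀ a ∈ D.Sz Z, D.g a ∈ D.Sz Z) (hI : Inv Γ (D.S (D.Sz Z))) (hK : ¬ K ≤ D.S (D.Sz Z)) : HE p σ (D.S (D.Sz Z)) :=
  H.he_of hC hZ hF hI hK fun _ _ h => absurd h hp

namespace Sit2

variable {Z : Subgroup Y} (H : Sit2 D e Γ K R Z) (hC : BoxComp2)
include H hC

open FFour in
/-- **(A)** -/
theorem dc : DC D.cs D.h D.X := by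
  rcases H.hyp.typ with h0 | ⟨hp, h4, hΓ⟩
  · exact h0
  exfalso
  obtain ⟨z, hz, hz1⟩ := exists_zl hp H.hyp.ir h4 (iso H.hyp.ex boxLoc H.hyp.he H.hyp.cz H.le (fun _ => H.g_mem)
    (H.toSit0.he_odd hC hp H.le (fun _ => H.g_mem) H.inv_M H.not_le_M) hp h4)
  have hZ : Zl D Z ⊆ D.T := fun _ ht => ht.1
  have hs : ∀ b, D.Rt b → Lg D.cs D.h b ∨ b ∈ D.Sz Z → b ∈ D.Sz (Zl D Z) := fun b hb h1 => ⟨hb, fun t ht => ht.2 b hb h1⟩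
  have hI : Inv Γ (D.S (D.Sz (Zl D Z))) := by
    refine H.inv_of (E := fun ex => ∃ j, ∀ a, D.Rt a → ex a = j) ⟨e, H.hyp.ex⟩ (fun φ hφ => ?_) (fun c hc m hm => ?_) ?_
    · obtain ⟨n, j, h1⟩ := hΓ φ hφ
      exact ⟨n, _, ⟨j, fun _ _ => rfl⟩, h1⟩
    · have h1 : c ∈ D.S (D.Sz (Zl D Z)) := RGD.Sup_mono (fun b hb => hs b hb.1 (Or.inr hb)) hc
      exact mul_mem (mul_mem h1 hm) (inv_mem h1)
    · rintro β g ex ⟨j, hj⟩ hβ hZ' m hm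
      exact hβ.dat.F_mem_S D.Sz_root (fun a ha => hβ.dat.g_mem_Sz hZ
        (zl_F (D := hβ.dat) hj fun a ha => hβ.dat.g_mem_Sz H.le hZ' ha) ha) hm
  have hF : ∀ a ∈ D.Sz (Zl D Z), D.g a ∈ D.Sz (Zl D Z) := fun a ha =>
    D.g_mem_Sz hZ (zl_F H.hyp.ex fun _ => H.g_mem) ha
  have hE := H.toSit0.he_odd hC hp hZ hF hI
    (H.gc.not_le hz1 fun m hm => D.cen_le_centralizer hZ (D.S_le_cen _ hm) z hz)
  obtain ⟨b, b', hb, hb', l, l', h1⟩ := h4.pair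
  have h2 : b' ∈ Nb D.cs D.h (D.Sz (Zl D Z)) b :=
    ⟨hs b' hb' (Or.inl l'), fun e => by rw [e, cpr_self _ _ hb] at h1; omega, by omega⟩
  rw [nb_long H.hyp.ex boxLoc H.hyp.he H.hyp.cz hZ hF hE hp (hs b hb (Or.inl l)) l] at h2
  exact h2

open PerpL

omit hC in
theorem zc_g : ∀ a ∈ D.Sz (Zc D (D.Sz Z)), D.g a ∈ D.Sz (Zc D (D.Sz Z)) := by
  rw [sz_zc D.Sz_root]
  exact perp_g D.Sz_root fun _ => H.g_mem

/-- the rational `p`-elements of the orthogonal subsystem subgroup normalise the torus -/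
theorem key {y : Y} (hy : y ∈ D.S (D.Sz (Zc D (D.Sz Z)))) (hσ : σ y = y) (hp : ∃ j : ℕ, y ^ p ^ j = 1) :
    y ∈ (D.sub zc_le H.zc_g rfl).NN := by
  have e1 : D.Sz (Zc D (D.Sz Z)) = Perp D (D.Sz Z) := sz_zc D.Sz_root
  have h4 := H.gc.conj_mem y (H.gc.inv _ (H.inv_perp (H.dc hC)) (H.not_le_perp (H.dc hC)) y (by rwa [← e1])
    (H.gc.pel y hσ hp))
  refine mem_NN_of_norm (D := D.sub zc_le H.zc_g rfl) H.le (Set.eq_empty_of_forall_notMem fun c hc => ?_)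
    (D.S_le_cen _ hy) (H.inv _ h4) fun z hz => ?_
  · have h5 := io_mem zc_le H.zc_g rfl hc.1
    rw [e1] at h5
    have h6 := h5.2 _ ⟨h5.1, hc.2⟩
    rw [cpr_self _ _ h5.1] at h6
    omega
  · have := H.inv _ (inv_mem h4) z hz
    rwa [MulAut.conj_inv_apply] at this

theorem he_zc : HE p σ (D.S (D.Sz (Zc D (D.Sz Z)))) := by
  have e1 : D.Sz (Zc D (D.Sz Z)) = Perp D (D.Sz Z) := sz_zc D.Sz_root
  refine H.toSit0.he_of hC zc_le H.zc_g (e1 ▸ H.inv_perp (H.dc hC)) (e1 ▸ H.not_le_perp (H.dc hC))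
    fun E hE _ a ha b hb h1 h2 _ => SignalizersComponents.Components.quasisimple_not_isSolvable hE.2 ?_
  have := solvable_NN (H.dbl ⟨a, b, ha.1, hb.1, h1, h2⟩)
  have h3 : PE p σ (D.S (D.Sz (Zc D (D.Sz Z)))) ≤ D.NN := (Subgroup.closure_le _).2 fun y hy =>
    ((D.sub_NN zc_le H.zc_g rfl).le (H.key hC hy.1 hy.2.1 hy.2.2)).1
  exact Group.isSolvable_of_isSolvable_injective (f := (Subgroup.inclusion h3).comp E.subtype)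
    ((Subgroup.inclusion_injective h3).comp E.subtype_injective)

/-- **(B)** -/
theorem heP : ∃ Zc : Set Y, Zc ⊆ D.T ∧ D.Sz Zc = Perp D (D.Sz Z) ∧ (∀ a ∈ D.Sz Zc, D.g a ∈ D.Sz Zc) ∧
    HE p σ (D.S (Perp D (D.Sz Z))) :=
  ⟨_, zc_le, sz_zc D.Sz_root, H.zc_g, sz_zc (D := D) D.Sz_root ▸ H.he_zc hC⟩

/-- **(C)** -/
theorem he : HE p σ (D.S (D.Sz Z)) := by
  refine H.toSit0.he_of hC H.le (fun _ => H.g_mem) H.inv_M H.not_le_M fun _ _ hp a ha b hb h1 h2 h3 => ?_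
  have h4 : ∀ {c r}, D.Rt c → cpr D.cs D.h c a = 0 → cpr D.cs D.h c b = 0 → (∃ i j : ℤ, r = i • a + j • b) →
      cpr D.cs D.h r c = 0 := by
    rintro c _ hc c1 c2 ⟨i, j, rfl⟩
    rw [cpr_add', cpr_smul', cpr_smul', (cpr_zero_comm _ _ hc ha.1).1 c1, (cpr_zero_comm _ _ hc hb.1).1 c2]
    simp
  by_cases h5 : ∃ c ∈ D.Sz Z, cpr D.cs D.h c a = 0 ∧ cpr D.cs D.h c b = 0
  · obtain ⟨c, hc, c1, c2⟩ := h5
    obtain ⟨r, hr, r1, r2, i, j, m, r3⟩ := H.fx.ext a b c ha.1 hb.1 hc.1 h1 h2 c1 c2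
    have h6 : r ∈ D.Sz Z := ⟨hr, fun z hz => by
      have h7 : D.χ ((2 : ℤ) • r) z = 1 := by
        rw [r3, D.χ_add, D.χ_add, D.χ_zsmul, D.χ_zsmul, D.χ_zsmul, ha.2 z hz, hb.2 z hz, hc.2 z hz]
        simp
      subst hp
      rw [D.χ_zsmul, zpow_ofNat, sq_eq_one_iff, CharTwo.neg_eq, or_self] at h7
      exact h7⟩
    rcases h3 r h6 with h7 | h7
    · exact r1.elim (fun h => h h7.1) fun h => h h7.2
    · exact r2 (h4 hc.1 c1 c2 h7)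
  · obtain ⟨a', b', r1, r2, r3, r4, r5, r6, r7, r8⟩ := H.fx.perp a b ha.1 hb.1 h1 h2
    have h6 : ∀ c, D.Rt c → cpr D.cs D.h c a = 0 → cpr D.cs D.h c b = 0 → c ∈ D.Sz (Zc D (D.Sz Z)) := fun c hc c1 c2 => by
      rw [sz_zc D.Sz_root]
      exact ⟨hc, fun r hr => (cpr_zero_comm _ _ hr.1 hc).1
        (h4 hc c1 c2 ((h3 r hr).resolve_left fun h => h5 ⟨r, hr, h⟩))⟩
    obtain ⟨-, h7, -⟩ := boxShape p k Y N ρ σ ⊤ D e _ H.hyp.he H.hyp.ex H.hyp.cz zc_le H.zc_g (H.he_zc hC)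
      (dcon_of_dc (H.dc hC) D.Sz_root)
    have := h7.one b' (h6 b' r2 r7 r8) a' ⟨h6 a' r1 r5 r6, r3, by omega⟩
    omega

end Sit2

theorem ncA (h : BoxComp2) : NcA := fun _ _ _ _ _ _ _ _ _ _ _ _ _ _ _ _ _ _ _ H => H.dc h

theorem ncB (h : BoxComp2) : NcB := fun _ _ _ _ _ _ _ _ _ _ _ _ _ _ _ _ _ _ _ H => H.heP h

theorem ncC (h : BoxComp2) : NcC := fun _ _ _ _ _ _ _ _ _ _ _ _ _ _ _ _ _ _ _ H => H.he h

end Cfsg.Agent.TH.Ab
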