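import Cfsg.Agent.TH.Ex.Ab.MaxAsm
import Cfsg.Agent.TH.Ex.Ab.NCA
import Cfsg.Agent.TH.Ex.Ab.NCD

/-!
# S3541, `BoxMax` from `BoxComp2` (helper10)
-/

namespace Cfsg.Agent.TH.Ab

theorem boxMax_of (h : BoxComp2) : BoxMax := Mx.boxMax_nc (ncA h) (ncB h) (ncC h) ncD

end Cfsg.Agent.TH.Ab
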