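import Cfsg.Agent.TH.Ex.Ab.CompRt
import Cfsg.Agent.TH.Ex.Ab.CompRel
import Cfsg.Agent.TH.Ex.Ab.CompRed
import Cfsg.Agent.TH.Ex.Ab.Max

/-!
# S3541, local examples: `BoxComp2` and `BoxMax` (helper37)
-/

set_option autoImplicit false

namespace Cfsg.Agent.TH.Ab

theorem boxComp2 : BoxComp2 := Cmp.boxComp2_of (Cmp.boxRt_of Cmp.boxRel)

theorem boxMax : BoxMax := boxMax_of boxComp2

end Cfsg.Agent.TH.Ab
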