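import Cfsg.Agent.TH.Sv.Sieve
import Cfsg.Agent.TH.Sv.Nec
import Cfsg.Agent.TH.Ex.Si.Cls
import Cfsg.Agent.Transfer.ElemAbAut

/-!
# S3541, local examples in `F₄, E₆, ²E₆, E₇, E₈` without invariant toral subgroup: the numerical part (helper70)

`chk Y r c k` : the kernel test for `|H ⊓ T| ∣ r ^ c |GL_k(r)|`, `r ∣ d`, and all fields; `num_false`.
-/

set_option autoImplicit false

namespace Cfsg.Agent.TH.Ab.NT

open Cfsg.Agent.H902 Cfsg.Agent.H290.ElTab Cfsg.Agent.H290.ElCross Cfsg.Agent.H252.EN Cfsg.Agent.TH.Sv Cfsg.Agent.TH.Ex.Si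
open Subgroup (centralizer)

/-- the order of `GL_k(r)` -/
def glN (r : ℕ) : ℕ → ℕ
  | 0 => 1
  | k + 1 => (r ^ (k + 1) - 1) * r ^ k * glN r k

theorem prod_eq (r k : ℕ) : ∏ i : Fin k, (r ^ k - r ^ (i : ℕ)) = glN r k := by
  induction k with
  | zero => rfl
  | succ k ih =>
    rw [Fin.prod_univ_succ, glN, ← ih, mul_assoc]
    congr 1
    rw [← Fin.prod_const k r, ← Finset.prod_mul_distrib, Fin.prod_const]
    exact Finset.prod_congr rfl fun i _ => by rw [Fin.val_succ, pow_succ', pow_succ', Nat.mul_sub]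

theorem glN_dvd (r : ℕ) {j k : ℕ} (h : j ≤ k) : glN r j ∣ glN r k := by
  induction k, h using Nat.le_induction with
  | base => exact dvd_rfl
  | succ k _ ih => exact ih.mul_left _

/-- the parameters of the sieve -/
def par (Y : Art.Sh) (r NB p f N b : ℕ) : Par where
  N := N
  p := p
  outT := ouN Y p f
  c := (p ^ f) ^ e1 Y
  NB := NB
  low := Nat.gcd N (r ^ 64)
  cA := fun a _ => bif Nat.beq (a % p) 0 then (p ^ f) ^ e1 Y else N / b
  fa := fun _ n1 => Nat.beq (n1 % r) 0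
  flt := fun a _ d => Nat.beq (d % r) 0 && allL [2, 3, 5, 7, 11, 13, 31] fun s =>
    Nat.beq s p || (!Nat.beq (a % s) 0 || (Nat.beq (d % s) 0 || Nat.ble N (Nat.gcd a d * a * b)))

/-- the test for one field -/
def chk1 (Y : Art.Sh) (r NB p f : ℕ) : Bool :=
  Nat.blt ((NB * ouN Y p f) ^ 2) ((p ^ f) ^ e1 Y) ||
    frc ((p ^ f) ^ Art.NN Y * Art.num Y (p ^ f) / Art.dd Y (p ^ f)) fun N => frc (bY Y (p ^ f)) fun b =>
      sieveG (par Y r NB p f N b)

/-- the test for all fields -/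
def chk (Y : Art.Sh) (r c k : ℕ) : Bool :=
  frc (r ^ c * glN r k) fun NB => Nat.blt (36 * NB ^ 2) (300 ^ (e1 Y - 2)) &&
    allL (List.range 300) fun p => Nat.beq p r || (!(allL (List.range p) fun j => Nat.blt j 2 || !Nat.beq (p % j) 0) ||
      (Nat.blt p 2 || allL (List.range 9) fun f => Nat.beq f 0 || chk1 Y r NB p f))

theorem chk_F4_3 : chk .F4 3 4 3 = true := by decide +kernel
theorem chk_E6_3 : chk .E6 3 7 3 = true := by decide +kernel
theorem chk_TE6_3 : chk .TE6 3 7 3 = true := by decide +kernel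
theorem chk_E8_5 : chk .E8 5 10 3 = true := by decide +kernel
theorem chk_E8_2 : chk .E8 2 22 5 = true := by decide +kernel
theorem chk_F4_2 : chk .F4 2 3 3 = true := by decide +kernel
theorem chk_E6_2 : chk .E6 2 4 4 = true := by decide +kernel
theorem chk_TE6_2 : chk .TE6 2 4 4 = true := by decide +kernel
theorem chk_E7_2 : chk .E7 2 11 7 = true := by decide +kernel
theorem chk_E7_3 : chk .E7 3 3 3 = true := by decide +kernel
theorem chk_E8_2' : chk .E8 2 13 6 = true := by decide +kernel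
theorem chk_E8_3 : chk .E8 3 7 7 = true := by decide +kernel

theorem ouN_le {Y : Art.Sh} (hY : Y ∈ Zs) (p f : ℕ) : ouN Y p f ≤ 6 * f := by
  have h1 : Nat.gcd 3 (p ^ f - 1) ≤ 3 := Nat.gcd_le_left _ (by norm_num)
  have h2 : Nat.gcd 2 (p ^ f - 1) ≤ 2 := Nat.gcd_le_left _ (by norm_num)
  have h3 : Nat.gcd 3 (p ^ f + 1) ≤ 3 := Nat.gcd_le_left _ (by norm_num)
  simp only [Zs, List.mem_cons, List.not_mem_nil, or_false] at hY
  rcases hY with rfl | rfl | rfl | rfl | rfl <;> simp only [ouN]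
  · exact Nat.mul_le_mul_right _ (by split_ifs <;> omega)
  · exact Nat.mul_le_mul_right _ (by omega)
  · exact Nat.mul_le_mul_right _ (by omega)
  · exact Nat.mul_le_mul_right _ (by omega)
  · omega

theorem two_le_e1 (Y : Art.Sh) : 2 ≤ e1 Y := by
  cases Y <;> simp [e1]

theorem f_le {Y : Art.Sh} (hY : Y ∈ Zs) {p f g O : ℕ} (h : Art.Real Y p f O) (h' : Art.Real Y p g O) (h0 : 0 < O) :
    g ≤ f := by
  by_contra h1
  have h2 : 2 * p ^ f ≤ p ^ g := by
    refine le_trans ?_ (Nat.pow_le_pow_right h.hp.pos (show f + 1 ≤ g by omega))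
    rw [pow_succ']
    exact Nat.mul_le_mul_right _ h.hp.two_le
  have h3 := (show ∀ Z ∈ Zs, Z ∈ Ys ∧ 2 ≤ Art.NN Z by decide) Y hY
  have h4 := Nat.mul_le_mul (Nat.pow_le_pow_left h2 (Art.NN Y)) (num_mono h3.1 (show p ^ f ≤ p ^ g by omega))
  rw [← h'.eq, mul_pow, mul_assoc, ← h.eq] at h4
  have h5 := Nat.mul_le_mul (Nat.pow_le_pow_right two_pos h3.2) (Nat.le_mul_of_pos_left O (real_pos h))
  have h6 := Nat.mul_le_mul_right O (dd_le h3.1 (p ^ g))
  omega

variable {G : Type} [Group G] [Finite G] {T H : Subgroup G} {m : ℕ} {Y : Art.Sh} {p f r : ℕ}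

omit [Finite G] in
theorem cent_sub (x : T) : (centralizer ({(x : G)} : Set G)).subgroupOf T = centralizer {x} := by
  ext y
  rw [Subgroup.mem_subgroupOf, Subgroup.mem_centralizer_singleton_iff, Subgroup.mem_centralizer_singleton_iff]
  exact ⟨fun h => Subtype.ext h, fun h => congrArg Subtype.val h⟩

omit [Finite G] in
/-- the classes of the semisimple elements of prime order -/
theorem card_le_cls (hd : Dat Y p f T) {x : G} (hx : x ∈ T) (h1 : (orderOf x).Prime) (h2 : orderOf x ≠ p) :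
    Nat.card T ≤ (centralizer {x}).relIndex T * bY Y (p ^ f) := by
  have h3 : orderOf (⟨x, hx⟩ : T) = orderOf x := Subgroup.orderOf_mk x hx
  have h4 := (hd.cent ⟨x, hx⟩ (h3 ▸ h1) (h3 ▸ h2)).trans (bS_le _ _ _)
  rw [← cent_sub] at h4
  rw [← ((centralizer {x}).subgroupOf T).index_mul_card]
  exact Nat.mul_le_mul_left _ h4

theorem chk1_false (hT : AS T) (hH : Half H m) (hp : p ∣ H.index) (hd : Dat Y p f T) (ho : T.index ∣ ouN Y p f)
    (hr : r.Prime) (hrd : r ∣ Nat.card H / m) {NB : ℕ} (h0 : 0 < NB * ouN Y p f) (ha : Nat.card ↥(H ⊓ T) ∣ NB)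
    (h : chk1 Y r NB p f = true) : False := by
  have h1 : (p ^ f) ^ Art.NN Y * Art.num Y (p ^ f) / Art.dd Y (p ^ f) = Nat.card T := by
    rw [← hd.real.eq, Nat.mul_div_cancel_left _ (real_pos hd.real)]
  rw [chk1, frc_eq, frc_eq, h1, Bool.or_eq_true, Nat.blt_eq] at h
  rcases h with h | h
  · have h2 := hT.sigma_index hH hd.idx
    have h3 := hH.one_lt
    have h4 : Nat.card H ≤ NB * ouN Y p f := by
      rw [hT.card_eq_mul hH]
      exact Nat.le_of_dvd h0 (Nat.mul_dvd_mul ha ho)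
    have h5 : (Nat.card H - 1) ^ 2 ≤ (NB * ouN Y p f) ^ 2 := Nat.pow_le_pow_left (by omega) 2
    have h6 : (p ^ f) ^ e1 Y ≤ (m - 1) * (p ^ f) ^ e1 Y := Nat.le_mul_of_pos_left _ (by omega)
    omega
  have hG : ∀ x : G, x ≠ 1 → (p ^ f) ^ e1 Y ≤ (centralizer {x}).relIndex T := fun x hx =>
    le_relIndex hd.idx (not_le_centralizer hT hx)
  refine false_of_sieveG boxNecX hT hH _ h rfl rfl rfl hp ho (le_index hT hH hd.idx) ha ?_ (fun x _ => hG x)
    (fun x hx h2 => ?_) (fun _ _ _ hP h2 _ => le_relIndex hd.idx (not_le_normalizer hT hH hP h2))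
    (fun _ _ _ h2 => absurd rfl h2) (fun _ _ _ h2 => absurd rfl h2) ?_ ?_
  · have h2 : Nat.Coprime (Nat.gcd (Nat.card T) (r ^ 64)) H.index :=
      ((hr.coprime_iff_not_dvd.2 (hH.not_dvd_index hr hrd)).pow_left 64).coprime_dvd_left (Nat.gcd_dvd_right _ _)
    refine h2.dvd_of_dvd_mul_right ?_
    rw [hT.card_inf_mul hH]
    exact Nat.gcd_dvd_left _ _
  · show (bif Nat.beq (Nat.card ↥(H ⊓ T) % p) 0 then (p ^ f) ^ e1 Y else Nat.card T / bY Y (p ^ f)) ≤ _
    rw [Bool.cond_eq_ite]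
    split_ifs with h3
    · exact hG x h2
    · obtain ⟨s, hs, h4⟩ := Nat.exists_prime_and_dvd (mt orderOf_eq_one_iff.1 h2)
      have h5 : orderOf (x ^ (orderOf x / s)) = s := orderOf_pow_orderOf_div (orderOf_pos x).ne' h4
      have h6 := card_le_cls hd (pow_mem hx.2 (orderOf x / s)) (h5.symm ▸ hs) (by
        rw [h5]
        rintro rfl
        exact h3 (Nat.beq_eq ▸ Nat.mod_eq_zero_of_dvd (h4.trans (Subgroup.orderOf_dvd_natCard _ hx))))
      refine (Nat.div_le_of_le_mul (by rwa [mul_comm] at h6)).trans ?_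
      refine Subgroup.relIndex_le_of_le_left (fun y hy => ?_) Subgroup.index_ne_zero_of_finite
      rw [Subgroup.mem_centralizer_singleton_iff] at hy ⊢
      exact ((show Commute y x from hy).pow_right _)
  · exact Nat.beq_eq ▸ Nat.mod_eq_zero_of_dvd (hrd.trans hH.d_dvd)
  · refine Bool.and_eq_true_iff.2 ⟨Nat.beq_eq ▸ Nat.mod_eq_zero_of_dvd hrd, (allL_iff _ _).2 fun s hs => ?_⟩
    have hs' : s.Prime := by
      revert s
      decide
    simp only [Bool.or_eq_true, Nat.beq_eq, Bool.not_eq_true', ← Bool.not_eq_true, Nat.ble_eq, or_iff_not_imp_left, not_not]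
    intro h2 h3 h4
    have := Fact.mk hs'
    obtain ⟨x, hx⟩ := exists_prime_orderOf_dvd_card' (G := ↥(H ⊓ T)) s (Nat.dvd_of_mod_eq_zero h3)
    rw [← Subgroup.orderOf_coe] at hx
    have hn : ∀ a ∈ H, ∀ y ∈ H ⊓ T, a * y * a⁻¹ ∈ H ⊓ T := fun a ha y hy =>
      ⟨H.mul_mem (H.mul_mem ha hy.1) (H.inv_mem ha), hT.normal.conj_mem _ hy.2 a⟩
    have h5 := boxEl G T H (H ⊓ T) (H ⊓ T) m s 1 x hT hH hs' (fun h5 => h4 (Nat.mod_eq_zero_of_dvd h5)) inf_le_left hn le_rfl
      (fun a ha => hn a ha.1) x.2 (by rw [hx, pow_one])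
    have h6 : (clsIn T H x).ncard ≤ Nat.card ↥(H ⊓ T) := by
      refine Set.ncard_le_ncard (t := ((H ⊓ T : Subgroup G) : Set G)) ?_
      rintro y ⟨h6, t, ht, rfl⟩
      exact ⟨h6, T.mul_mem (T.mul_mem (T.inv_mem ht) x.2.2) ht⟩
    exact (card_le_cls hd x.2.2 (hx ▸ hs') (hx ▸ h2)).trans
      (Nat.mul_le_mul_right _ (h5.trans (Nat.mul_le_mul (min_le_left _ _) h6)))

/-- **the numerical contradiction** -/
theorem num_false (hT : AS T) (hH : Half H m) (hp : p ∣ H.index) (hd : Dat Y p f T) (ho : T.index ∣ ouN Y p f)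
    (h0 : 0 < ouN Y p f) (hr : r.Prime) (hrp : r ≠ p) (hrd : r ∣ Nat.card H / m) {c k : ℕ}
    (ha : Nat.card ↥(H ⊓ T) ∣ r ^ c * glN r k) (hk : 0 < glN r k) (h : chk Y r c k = true) : False := by
  rw [chk, frc_eq, Bool.and_eq_true, Nat.blt_eq, allL_iff] at h
  have hp' := hd.real.hp
  have hf := hd.real.hf
  have h1 : 0 < r ^ c * glN r k * ouN Y p f := Nat.mul_pos (Nat.mul_pos (pow_pos hr.pos c) hk) h0
  generalize r ^ c * glN r k = NB at *
  by_cases hq : 300 ≤ p ^ f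
  · refine chk1_false hT hH hp hd ho hr hrd h1 ha (Bool.or_eq_true_iff.2 (Or.inl (Nat.blt_eq.mpr ?_)))
    have h2 : ouN Y p f ≤ 6 * p ^ f := (ouN_le hd.mem p f).trans (Nat.mul_le_mul_left 6 (Nat.lt_pow_self hp'.one_lt).le)
    have h3 : 300 ^ (e1 Y - 2) ≤ (p ^ f) ^ (e1 Y - 2) := Nat.pow_le_pow_left hq _
    calc (NB * ouN Y p f) ^ 2 ≤ (NB * (6 * p ^ f)) ^ 2 := Nat.pow_le_pow_left (Nat.mul_le_mul_left _ h2) 2
      _ = 36 * NB ^ 2 * (p ^ f) ^ 2 := by ring
      _ < (p ^ f) ^ (e1 Y - 2) * (p ^ f) ^ 2 := Nat.mul_lt_mul_of_pos_right (h.1.trans_le h3) (by positivity)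
      _ = _ := by rw [← pow_add, Nat.sub_add_cancel (two_le_e1 Y)]
  · have h2 : p < 300 := by
      have := Nat.le_self_pow (show f ≠ 0 by omega) p
      omega
    have h3 : f < 9 := by
      by_contra h3
      have h4 : 2 ^ 9 ≤ p ^ f := (Nat.pow_le_pow_left hp'.two_le 9).trans (Nat.pow_le_pow_right hp'.pos (by omega))
      omega
    have h4 := h.2 p (List.mem_range.2 h2)
    have h5 : (allL (List.range p) fun j => Nat.blt j 2 || !Nat.beq (p % j) 0) = true := (allL_iff _ _).2 fun j hj => by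
      simp only [Bool.or_eq_true, Nat.beq_eq, Bool.not_eq_true', ← Bool.not_eq_true, Nat.blt_eq, or_iff_not_imp_left]
      intro h5 h6
      have h7 := List.mem_range.1 hj
      rcases (Nat.dvd_prime hp').1 (Nat.dvd_of_mod_eq_zero h6) with h8 | h8 <;> omega
    have h6 := hp'.two_le
    rw [h5] at h4
    simp only [Bool.or_eq_true, Nat.beq_eq, Nat.blt_eq, Bool.not_true, Bool.false_eq_true, false_or, allL_iff] at h4
    have h7 := ((h4.resolve_left hrp.symm).resolve_left (by omega)) f (List.mem_range.2 h3)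
    exact chk1_false hT hH hp hd ho hr hrd h1 ha (h7.resolve_left (by omega))

end Cfsg.Agent.TH.Ab.NT
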