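import Cfsg.Agent.TH.Ex.Ab.Defs
import Cfsg.Agent.TH.Ex.Ab.NTNum
import Cfsg.Agent.SB.Exc.NT.Main

/-!
# S3541, local examples in `F₄, E₆, ²E₆, E₇, E₈` without invariant toral subgroup (helper70)

`|H ⊓ T|` divides `r ^ c |GL_k(r)|` (`caseA`, `caseB`); `boxNT_of`.
-/

set_option autoImplicit false
set_option linter.unusedSectionVars false

namespace Cfsg.Agent.TH.Ab.NT

open CoxeterSystem Cfsg Cfsg.Lie Cfsg.Lie.ChevalleyDatum
open Cfsg.Agent.ChevalleyStructure Cfsg.Agent.Nodes.RGDChev Cfsg.Agent.KFacts.RgdChevCoord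
open Cfsg.Agent.H469.Exc Cfsg.Agent.H316.U6 Cfsg.Agent.DS.Ex Cfsg.Agent.H786.FC
open Cfsg.Agent.H902 Cfsg.Agent.H252.EN Cfsg.Agent.H889.Enum Cfsg.Agent.TH.Ex.Si
open Cfsg.Agent.DS.Nt hiding Ctx
open Cfsg.Agent.SB.Exc (XF)
open Cfsg.Agent.SB.Exc.NT (low_bound exists_rp cen_bound ea_of_el f4_mul e7_inv neE6_F4 neE6_E7 neE6_E8 neE7_E8
  isPGroup_of_prime)

/-! ### the data of the socle -/

/-- the shape of the order -/
def Shp (D : ChevalleyDatum) (Y : Art.Sh) : Prop :=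
  (D = chevF4 → Y = .F4) ∧ (D = chevE6 → Y = .E6 ∨ Y = .TE6) ∧ (D = chevE7 → Y = .E7) ∧ (D = chevE8 → Y = .E8)

section Dat

variable {G : Type} [Group G] [Finite G] {T : Subgroup G} {p f : ℕ} [Fact p.Prime]

theorem index_dvd (hT : AS T) {o : ℕ} (h : Nat.card (MulAut T) = o * Nat.card T) : T.index ∣ o := by
  have := hT.normal
  have h1 : Nat.card G ∣ Nat.card (MulAut T) :=
    Subgroup.card_dvd_of_injective (MulAut.conjNormal : G →* MulAut T) (by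
      rw [injective_iff_map_eq_one]
      intro g hg
      have h2 : g ∈ Subgroup.centralizer (T : Set G) := fun t ht => by
        have h3 := congrArg (fun σ : MulAut T => ((σ ⟨t, ht⟩ : T) : G)) hg
        simp only [MulAut.conjNormal_apply, MulAut.one_apply] at h3
        exact (mul_inv_eq_iff_eq_mul.1 h3).symm
      rwa [hT.cent] at h2)
  rw [h, ← T.index_mul_card] at h1
  exact Nat.dvd_of_mul_dvd_mul_right Nat.card_pos h1

theorem dat_of (hT : AS T) {K : Type} [Group K] (e : T ≃* K) {Y : Art.Sh} {g : OrdDiv.Grp} (hg : Names.IsLie g Y p f)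
    (h1 : OrdDiv.Real g T) (h2 : Art.Real Y p f (Nat.card K)) (h3 : IsSimpleGroup K → ∃ f', Dat Y p f' K) :
    Dat Y p f T ∧ T.index ∣ ouN Y p f ∧ 0 < ouN Y p f := by
  have := hT.simple
  obtain ⟨f', h4⟩ := h3 e.symm.isSimpleGroup
  have h5 := h4.congr e
  rw [← Nat.card_congr e.toEquiv] at h2
  obtain rfl : f = f' := le_antisymm (f_le h5.mem h5.real h2 Nat.card_pos) (f_le h5.mem h2 h5.real Nat.card_pos)
  have h6 := aut_ouN (fun h => hT.nonab ⟨⟨h⟩⟩) hg h1 h2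
  exact ⟨h5, index_dvd hT h6, Nat.pos_of_mul_pos_right (h6 ▸ Nat.card_pos)⟩

theorem exists_dat {D : ChevalleyDatum} {tw : Bool} (hD : Typ D) (hT : AS T) (h : IsoX D tw p f ↥T) :
    ∃ Y, Shp D Y ∧ Dat Y p f T ∧ T.index ∣ ouN Y p f ∧ 0 < ouN Y p f := by
  obtain ⟨hf, F, _, _, _, ⟨-, hF, ⟨e⟩⟩ | ⟨-, rfl, hF, ⟨e⟩⟩⟩ := h
  · rcases hD with rfl | rfl | rfl | rfl
    · exact ⟨.F4, ⟨fun _ => rfl, fun h => absurd h neE6_F4, fun h => absurd h.symm neF4_E7,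
        fun h => absurd h (ne_of_rank (by decide))⟩,
        dat_of hT e (.f4 p f) ⟨F, _, _, hF, ⟨e⟩⟩ (real_f4 hf hF) dat_F4⟩
    · exact ⟨.E6, ⟨fun h => absurd h.symm neE6_F4, fun _ => Or.inl rfl, fun h => absurd h.symm neE6_E7,
        fun h => absurd h.symm neE6_E8⟩, dat_of hT e (.e6 p f) ⟨F, _, _, hF, ⟨e⟩⟩ (real_e6 hf hF) dat_E6⟩
    · exact ⟨.E7, ⟨fun h => absurd h neF4_E7, fun h => absurd h neE6_E7, fun _ => rfl, fun h => absurd h.symm neE7_E8⟩,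
        dat_of hT e (.e7 p f) ⟨F, _, _, hF, ⟨e⟩⟩ (real_e7 hf hF) dat_E7⟩
    · exact ⟨.E8, ⟨fun h => absurd h (ne_of_rank (by decide)), fun h => absurd h neE6_E8, fun h => absurd h neE7_E8,
        fun _ => rfl⟩, dat_of hT e (.e8 p f) ⟨F, _, _, hF, ⟨e⟩⟩ (real_e8 hf hF) dat_E8⟩
  · exact ⟨.TE6, ⟨fun h => absurd h.symm neE6_F4, fun _ => Or.inr rfl, fun h => absurd h.symm neE6_E7,
      fun h => absurd h.symm neE6_E8⟩, dat_of hT e (.te6 p f) ⟨F, _, _, hF, ⟨e⟩⟩ (real_te6 hf hF)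
        (dat_TE6 ((Fact.out : p.Prime).isPrimePow.pow hf.ne') hF)⟩

end Dat

/-! ### the order of `H ⊓ T` -/

/-- the list of the bounds -/
def Bd (D : ChevalleyDatum) (r a : ℕ) : Prop :=
  D = chevF4 ∧ (r = 3 ∧ a ∣ 3 ^ 4 * glN 3 3 ∨ r = 2 ∧ a ∣ 2 ^ 3 * glN 2 3) ∨
  D = chevE6 ∧ (r = 3 ∧ a ∣ 3 ^ 7 * glN 3 3 ∨ r = 2 ∧ a ∣ 2 ^ 4 * glN 2 4) ∨
  D = chevE7 ∧ (r = 2 ∧ a ∣ 2 ^ 11 * glN 2 7 ∨ r = 3 ∧ a ∣ 3 ^ 3 * glN 3 3) ∨
  D = chevE8 ∧ (r = 5 ∧ a ∣ 5 ^ 10 * glN 5 3 ∨ r = 2 ∧ a ∣ 2 ^ 22 * glN 2 5 ∨ r = 2 ∧ a ∣ 2 ^ 13 * glN 2 6 ∨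
    r = 3 ∧ a ∣ 3 ^ 7 * glN 3 7)

variable {D : ChevalleyDatum} {l : ℕ} {M : CoxeterMatrix (Fin l)} {hp : IsType D l M} {p : ℕ} [Fact p.Prime]
  {G : Type} [Group G] [Finite G] {T H E : Subgroup G} {L : Lift hp p T} {r : ℕ}

theorem card_dvd (hL : DS.Loc T H E r) {c k : ℕ} (h1 : IsPGroup r ↥(Subgroup.centralizer (E : Set G) ⊓ T))
    (h2 : Nat.card ↥(Subgroup.centralizer (E : Set G) ⊓ T) ≤ r ^ c) (h3 : Nat.card E ≤ r ^ k) :
    Nat.card ↥(H ⊓ T) ∣ r ^ c * glN r k := by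
  have := Fact.mk hL.prime
  have hpow : ∀ x : E, x ^ r = 1 := fun x => Subtype.ext (hL.pow x x.2)
  obtain ⟨j, hj⟩ := IsPGroup.iff_card.1 (show IsPGroup r E from fun x => ⟨1, by rw [pow_one, hpow]⟩)
  obtain ⟨i, hi⟩ := IsPGroup.iff_card.1 h1
  rw [hi, Nat.pow_le_pow_iff_right hL.prime.one_lt] at h2
  rw [hj, Nat.pow_le_pow_iff_right hL.prime.one_lt] at h3
  have h4 := Transfer.ElemAbAut.card_mulAut r j (fun x y : E => Subtype.ext (hL.comm x x.2 y y.2)) hpow hj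
  let φ : ↥(H ⊓ T) →* MulAut E := E.normalizerMonoidHom.comp (Subgroup.inclusion (inf_le_left.trans hL.norm.ge))
  rw [← φ.ker.card_mul_index, Subgroup.index_ker]
  refine Nat.mul_dvd_mul ?_ ((Subgroup.card_subgroup_dvd_card _).trans (by rw [h4, prod_eq]; exact glN_dvd r h3))
  refine Dvd.dvd.trans ?_ (pow_dvd_pow r h2)
  rw [← hi, ← Subgroup.card_map_of_injective (H ⊓ T).subtype_injective]
  refine Subgroup.card_dvd_of_le ?_
  rintro _ ⟨x, hx, rfl⟩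
  refine ⟨Subgroup.mem_centralizer_iff.2 fun e he => ?_, x.2.2⟩
  have h5 := congrArg (fun β : MulAut E => ((β ⟨e, he⟩ : E) : G)) (MonoidHom.mem_ker.1 hx)
  exact (mul_inv_eq_iff_eq_mul.1 h5).symm

theorem dataA (N : DS.Nt.Ctx L H) (hL : DS.Loc T H E r) (hE : EA p r (im L E))
    {A : Subgroup (YY D p)} (hA : A ≤ im L E) (hT : Toral p A)
    (hF : Module.finrank (KK p) (Fx p (A : Set (YY D p))) = l) (hc : Nat.card E ≤ r * Nat.card A) {j n c : ℕ}
    (hW : ¬ r ^ (j + 1) ∣ Nat.card M.Group) (hn : Nat.card E ≤ r ^ n)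
    (hb : ∀ b, b ≤ r ^ l → (r = 3 → b ^ 2 ≤ 3 ^ l) → b * r ^ j ≤ r ^ c) : Nat.card ↥(H ⊓ T) ∣ r ^ c * glN r n := by
  have hI : L.Inv H (im L E) := inv_im hL.normal hL.norm.ge
  obtain ⟨B, h1, h2⟩ := exists_rp hp (hE.mono hA).el hA hT hF
  have h3 := N.noT B h1 fun φ hφ y hy => by
    obtain ⟨a1, m, a2, a3⟩ := (h2 y).1 hy
    exact (h2 _).2 ⟨fun e he => comm_app φ (a1 _ (hI φ⁻¹ (π_inv hφ) e he)), m, a2, by rw [← map_pow, a3, map_one]⟩
  have h0 : ∀ y : YY D p, (∀ e ∈ im L E, y * e = e * y) → ∀ m : ℕ, r.Coprime m → y ^ m = 1 → y = 1 :=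
    fun y a1 m a2 a3 => Subgroup.mem_bot.1 (h3.le ((h2 y).2 ⟨a1, m, a2, a3⟩))
  obtain ⟨hfin, b, h4, h5, h6⟩ := cen_bound hp N.typ hE hA hT hF (N.not_toral hL) (by rwa [card_im hL.le_S]) h0 hW
  refine card_dvd hL (isPGroup_of_prime fun x hx => ?_) (le_trans ?_ (h4.trans (hb b h5 h6))) hn
  · by_contra h7
    obtain ⟨y, hy⟩ : ∃ y : T, (y : G) = (x : G) := ⟨⟨x.1, x.2.2⟩, rfl⟩
    have h9 : (x : G) ^ orderOf x = 1 := congrArg Subtype.val (pow_orderOf_eq_one x)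
    have h8 := h0 (L.ι y) (fun e he => ι_comm (hy ▸ x.2.1) he) _ ((Nat.coprime_primes hL.prime hx).2 (Ne.symm h7)) (by
      rw [← map_pow, show y ^ orderOf x = 1 from Subtype.ext (by rw [Subgroup.coe_pow, hy]; exact h9), map_one])
    rw [← map_one L.ι] at h8
    rw [show x = 1 from Subtype.ext (hy.symm.trans (congrArg Subtype.val (L.inj h8))), orderOf_one] at hx
    exact Nat.not_prime_one hx
  · rw [← card_im (L := L) (inf_le_right : Subgroup.centralizer (E : Set G) ⊓ T ≤ T)]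
    refine Subgroup.card_le_of_le ?_
    rintro _ ⟨x, hx, rfl⟩
    exact Subgroup.mem_centralizer_iff.2 fun e he => (ι_comm hx.1 he).symm

theorem caseA (N : DS.Nt.Ctx L H) (hL : DS.Loc T H E r) (hE : EA p r (im L E)) (h : OutA L E r) :
    Bd D r (Nat.card ↥(H ⊓ T)) := by
  obtain ⟨⟨A, hA, hT, hF⟩, h1⟩ := h
  have hW := card_W hp
  have hl := typ_l hp
  rcases h1 with ⟨rfl, rfl, h2⟩ | ⟨rfl, rfl, -⟩ | ⟨rfl, rfl, h2⟩ | ⟨rfl, rfl, h2⟩
  · obtain rfl := hl.1 rfl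
    have h3 := low_bound hp nrF4 (hE.mono hA).el hF (d := 16) fun e he h1 =>
      (((iso_F4 hE.prime (N.iso hL hE (hA he) h1)).resolve_left fun h => absurd h.1 (by norm_num)).2).ge
    refine Or.inl ⟨rfl, Or.inl ⟨rfl, dataA N hL hE hA hT hF (by omega) (j := 2) (by rw [hW.1 rfl]; norm_num) h2
      fun b _ h6 => ?_⟩⟩
    have h8 := h6 rfl
    nlinarith
  · obtain rfl := hl.2.1 rfl
    have hd : ∀ e ∈ im L E, e ≠ 1 → dd p e = 24 := fun e he h1 =>
      ((iso_E6 hE.prime (N.iso hL hE he h1)).resolve_left fun h => absurd h.1 (by norm_num)).2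
    have h3 := low_bound hp nrE6 (hE.mono hA).el hF (d := 24) fun e he h1 => (hd e (hA he) h1).ge
    have h2 : Nat.card E ≤ 3 ^ 3 := by
      have a1 := pure_eq hp hE.el hd
      have e : ((6 + chevE6.nroots : ℕ) : ℤ) = 78 := by
        rw [nrE6]
        norm_num
      rw [e, mul_assoc, card_im hL.le_S] at a1
      have a2 : (0 : ℤ) ≤ (Nat.card E : ℤ) * Module.finrank (KK p) (Fx p (im L E : Set (YY chevE6 p))) :=
        mul_nonneg (Int.natCast_nonneg _) (Int.natCast_nonneg _)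
      omega
    refine Or.inr (Or.inl ⟨rfl, Or.inl ⟨rfl, dataA N hL hE hA hT hF (by omega) (j := 4) (by rw [hW.2.1 rfl]; norm_num) h2
      fun b _ h6 => ?_⟩⟩)
    have h8 := h6 rfl
    nlinarith
  · obtain rfl := hl.2.2.2 rfl
    have h3 := low_bound hp nrE8 (hE.mono hA).el hF (d := 48) fun e he h1 =>
      ((((iso_E8 hE.prime (N.iso hL hE (hA he) h1)).resolve_left fun h => absurd h.1 (by norm_num)).resolve_left
        fun h => absurd h.1 (by norm_num)).2).ge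
    exact Or.inr (Or.inr (Or.inr ⟨rfl, Or.inl ⟨rfl, dataA N hL hE hA hT hF (by omega) (j := 2)
      (by rw [hW.2.2.2 rfl]; norm_num) h2 fun b h5 _ => by omega⟩⟩))
  · obtain rfl := hl.2.2.2 rfl
    have h3 := low_bound hp nrE8 (hE.mono hA).el hF (d := 120) fun e he h1 => by
      rcases (((iso_E8 hE.prime (N.iso hL hE (hA he) h1)).resolve_right fun h =>
        h.elim (fun h => absurd h.1 (by norm_num)) fun h => absurd h.1 (by norm_num)).2) with h | h <;> omega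
    exact Or.inr (Or.inr (Or.inr ⟨rfl, Or.inr (Or.inl ⟨rfl, dataA N hL hE hA hT hF (by omega) (j := 14)
      (by rw [hW.2.2.2 rfl]; norm_num) h2 fun b h5 _ => by omega⟩)⟩))

theorem dataB (hL : DS.Loc T H E r) (hE : EA p r (im L E)) {d : ℕ} {J : YY D p → Subgroup (YY D p)}
    (h : DOut L E r d J) : ∃ B : Subgroup (YY D p), EL p r B ∧ L.Inv H B ∧ Nat.card E ≤ Nat.card B ∧
      ∀ c k, Nat.card B ≤ r ^ c → Nat.card E ≤ r ^ k → Nat.card ↥(H ⊓ T) ∣ r ^ c * glN r k := by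
  refine ⟨im L (Subgroup.centralizer (E : Set G) ⊓ T), ⟨hE.prime, hE.ne, finite_im _ _, ?_, ?_⟩,
    inv_im hL.normal (le_normalizer_of_conj fun s hs x hx => ⟨?_, hL.normal.conj_mem _ hx.2 s⟩), ?_, fun c k h1 h2 => ?_⟩
  · rintro _ ⟨x, hx, rfl⟩ _ ⟨y, hy, rfl⟩
    rw [← map_mul, ← map_mul, show x * y = y * x from Subtype.ext (h.comm x hx y hy)]
  · rintro _ ⟨x, hx, rfl⟩
    rw [← map_pow, show x ^ r = 1 from Subtype.ext (h.pow x hx), map_one]
  · refine Subgroup.mem_centralizer_iff.2 fun e he => ?_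
    have h1 := Subgroup.mem_centralizer_iff.1 hx.1 _ ((Subgroup.mem_normalizer_iff.1 (hL.norm.ge (inv_mem hs)) e).1 he)
    calc e * (s * x * s⁻¹) = s * (s⁻¹ * e * s⁻¹⁻¹ * x) * s⁻¹ := by group
      _ = _ := by rw [h1]; group
  · rw [card_im inf_le_right]
    exact Subgroup.card_le_of_le (le_inf (fun c hc => Subgroup.mem_centralizer_iff.2 fun x hx => hL.comm x hx c hc) hL.le_S)
  · rw [card_im inf_le_right] at h1
    exact card_dvd hL (fun x => ⟨1, Subtype.ext (by rw [pow_one]; exact h.pow x x.2)⟩) h1 h2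

theorem caseB (N : DS.Nt.Ctx L H) (hL : DS.Loc T H E r) (hE : EA p r (im L E)) (h : OutB L E r) :
    Bd D r (Nat.card ↥(H ⊓ T)) := by
  obtain ⟨⟨i, d, J, -, -, hD⟩, h1⟩ := h
  obtain ⟨B, hB, hI, hEB, hc⟩ := dataB hL hE hD
  clear hD
  have hl := typ_l hp
  rcases h1 with ⟨rfl, rfl, -⟩ | ⟨rfl, rfl, h0⟩ | ⟨rfl, rfl, h0⟩ | ⟨rfl, rfl, h0⟩ | ⟨rfl, rfl, h0⟩ | ⟨rfl, rfl, h0⟩
  · obtain rfl := hl.1 rfl
    have hB' := ea_of_el hp N.typ hB (fun h => absurd h.2 (by norm_num)) fun h => neF4_E7 h.1.symm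
    have hi : ∀ e ∈ B, e ≠ 1 → dd p e = 36 ∨ dd p e = 24 := fun e he h1 =>
      ((iso_F4 hB.prime (N.iso' hI hB' he h1)).resolve_right fun h => absurd h.1 (by norm_num)).2.imp_right And.left
    let K : Subgroup (YY chevF4 p) :=
      { carrier := {x | x ∈ B ∧ (x = 1 ∨ dd p x = 36)}
        one_mem' := ⟨one_mem _, Or.inl rfl⟩
        mul_mem' := by
          rintro x y ⟨hx, rfl | h1⟩ ⟨hy, h2⟩
          · rw [one_mul]
            exact ⟨hy, h2⟩
          rcases h2 with rfl | h2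
          · rw [mul_one]
            exact ⟨hx, Or.inr h1⟩
          by_cases h3 : x * y = 1
          · exact ⟨mul_mem hx hy, Or.inl h3⟩
          · exact ⟨mul_mem hx hy, Or.inr ((hi _ (mul_mem hx hy) h3).resolve_right
              (f4_mul hp hB.ne (hB'.tp x hx y hy) (hB.pow x hx) (hB.pow y hy) h1 h2))⟩
        inv_mem' := by
          rintro x ⟨hx, h1⟩
          rw [show x⁻¹ = x from inv_eq_of_mul_eq_one_left (by rw [← pow_two, hB.pow x hx])]
          exact ⟨hx, h1⟩ }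
    have hK := N.noT K (P4.boxP4 p K (hB'.mono fun x hx => hx.1) fun e he h1 => he.2.resolve_left h1)
      fun φ hφ x hx => ⟨hI φ hφ x hx.1, hx.2.imp (fun h => by rw [h, map_one])
        fun h => by rw [dd_app (fun _ => hB.ne.symm) hB' φ hx.1, h]⟩
    have h2 := card_le_of_dvd hB (k := 3) (pure_dvd hp hB fun e he h1 => (hi e he h1).resolve_left fun h =>
      h1 (Subgroup.mem_bot.1 (hK.le ⟨he, Or.inr h⟩))) (by rw [nrF4]; decide)
    exact Or.inl ⟨rfl, Or.inr ⟨rfl, hc 3 3 h2 (hEB.trans h2)⟩⟩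
  · obtain rfl := hl.2.1 rfl
    have hB' := ea_of_el hp N.typ hB (fun h => absurd h.2 (by norm_num)) fun h => neE6_E7 h.1.symm
    have h2 := card_le_of_dvd hB (k := 4) (pure_dvd hp hB fun e he h1 =>
      ((iso_E6 hB.prime (N.iso' hI hB' he h1)).resolve_right fun h => absurd h.1 (by norm_num)).2.1)
      (by rw [nrE6]; decide)
    exact Or.inr (Or.inl ⟨rfl, Or.inr ⟨rfl, hc 4 4 h2 h0⟩⟩)
  · obtain rfl := hl.2.2.1 rfl
    have h2 := card_le_of_dvd hB (k := 11) (dvd_two hp hB {-7, 5, 25} fun e he h1 => by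
      rw [nrE7]
      rcases e7_inv hp hB.ne (hB.pow e he) h1 with h | h | h <;> rw [h] <;> decide) (by rw [nrE7]; decide)
    exact Or.inr (Or.inr (Or.inl ⟨rfl, Or.inl ⟨rfl, hc 11 7 h2 h0⟩⟩))
  · obtain rfl := hl.2.2.1 rfl
    have hB' := ea_of_el hp N.typ hB (fun h => neE6_E7 h.1) fun h => absurd h.2 (by norm_num)
    have h2 := card_le_of_dvd hB (k := 3) (pure_dvd hp hB fun e he h1 =>
      ((iso_E7 hB.prime (N.iso' hI hB' he h1)).resolve_left fun h => absurd h.1 (by norm_num)).2.1)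
      (by rw [nrE7]; decide)
    exact Or.inr (Or.inr (Or.inl ⟨rfl, Or.inr ⟨rfl, hc 3 3 h2 h0⟩⟩))
  · obtain rfl := hl.2.2.2 rfl
    have hB' := ea_of_el hp N.typ hB (fun h => neE6_E8 h.1) fun h => neE7_E8 h.1
    have h2 := card_le_of_dvd hB (k := 13) (dvd_two hp hB {-8, 24} fun e he h1 => by
      rw [nrE8]
      rcases ((iso_E8 hB.prime (N.iso' hI hB' he h1)).resolve_right fun h =>
        h.elim (fun h => absurd h.1 (by norm_num)) fun h => absurd h.1 (by norm_num)).2 with h | ⟨h, -⟩ <;>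
        rw [h] <;> decide) (by rw [nrE8]; decide)
    exact Or.inr (Or.inr (Or.inr ⟨rfl, Or.inr (Or.inr (Or.inl ⟨rfl, hc 13 6 h2 h0⟩))⟩))
  · obtain rfl := hl.2.2.2 rfl
    have hB' := ea_of_el hp N.typ hB (fun h => neE6_E8 h.1) fun h => neE7_E8 h.1
    have h2 := card_le_of_dvd hB (k := 7) (dvd_three hp hB {-4, 5} fun e he h1 => by
      rw [nrE8]
      rcases (((iso_E8 hB.prime (N.iso' hI hB' he h1)).resolve_left fun h => absurd h.1 (by norm_num)).resolve_right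
        fun h => absurd h.1 (by norm_num)).2 with h | ⟨h, -⟩
      · exact ⟨-4, by simp, by rw [h]; norm_num⟩
      · exact ⟨5, by simp, by rw [h]; norm_num⟩) (by rw [nrE8]; decide)
    exact Or.inr (Or.inr (Or.inr ⟨rfl, Or.inr (Or.inr (Or.inr ⟨rfl, hc 7 7 h2 h0⟩))⟩))

end Cfsg.Agent.TH.Ab.NT

namespace Cfsg.Agent.TH.Ab

open Cfsg.Agent.DS.Ex Cfsg.Agent.TH.Ab.NT
open Cfsg.Agent.DS.Nt hiding Ctx

/-- **No invariant toral subgroup.** -/
theorem boxNT_of (hZ : BoxZC) : BoxNT := by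
  intro D l M hp tw p _ G _ _ T H E m f r C F hA
  have hT := C.ctx.as
  have hH := C.ctx.half
  have hn := C.ctx.toLieCtx.dvd_index
  have hr := C.loc.prime
  have := Fact.mk hr
  have hEH : E ≤ H := C.loc.norm ▸ Subgroup.le_normalizer
  have hE : IsPGroup r E := fun x => ⟨1, Subtype.ext (by rw [pow_one]; exact C.loc.pow x x.2)⟩
  have hrd := hH.dvd_d_of_normal C.loc.ne_bot hEH C.loc.norm.ge hE
  have N : DS.Nt.Ctx F.L H := ⟨C.typ, C.loc.toSetup, ⟨F.m.g, by rw [F.hσ]; exact F.m.fr⟩, fun Q h1 h2 h3 => by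
    by_contra h4
    have h5 : Subgroup.normalizer (Q : Set G) = H := by
      by_contra h5
      have h6 : Q.Normal := Subgroup.normalizer_eq_top_iff.1 (hH.max.2 _ (lt_of_le_of_ne h3 (Ne.symm h5)))
      have := hT.simple
      rcases (h6.subgroupOf T).eq_bot_or_eq_top with h7 | h7
      · exact h4 (by rw [← Subgroup.map_subgroupOf_eq_of_le h1, h7, Subgroup.map_bot])
      · obtain rfl : Q = T := le_antisymm h1 (Subgroup.subgroupOf_eq_top.1 h7)
        have := h2.isNilpotent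
        exact hT.nonab ⟨⟨IsSimpleGroup.comm_iff_isSolvable.2 inferInstance⟩⟩
    exact h4 (hH.eq_bot_of_isPGroup hn (h5 ▸ Subgroup.le_normalizer) h3 h2), hA⟩
  rcases rad_cases N hr C.loc.ne_bot C.loc.le_S C.loc.norm.ge hE with ⟨E', -, hL, hE', -⟩ | ⟨h1, h2, h3, h4⟩
  · have hB := (loc_struct N hL hE').elim (caseA N hL hE') (caseB N hL hE')
    obtain ⟨Y, hY, hd, ho, h0⟩ := exists_dat C.typ hT C.iso
    have key := fun c k => num_false (c := c) (k := k) hT hH hn hd ho h0 hr C.ne hrd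
    rcases hB with ⟨h, hB⟩ | ⟨h, hB⟩ | ⟨h, hB⟩ | ⟨h, hB⟩
    · obtain rfl := hY.1 h
      rcases hB with ⟨rfl, hB⟩ | ⟨rfl, hB⟩
      exacts [key _ _ hB (by decide +kernel) chk_F4_3, key _ _ hB (by decide +kernel) chk_F4_2]
    · rcases hY.2.1 h with rfl | rfl <;> rcases hB with ⟨rfl, hB⟩ | ⟨rfl, hB⟩
      exacts [key _ _ hB (by decide +kernel) chk_E6_3, key _ _ hB (by decide +kernel) chk_E6_2, key _ _ hB (by decide +kernel) chk_TE6_3,
        key _ _ hB (by decide +kernel) chk_TE6_2]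
    · obtain rfl := hY.2.2.1 h
      rcases hB with ⟨rfl, hB⟩ | ⟨rfl, hB⟩
      exacts [key _ _ hB (by decide +kernel) chk_E7_2, key _ _ hB (by decide +kernel) chk_E7_3]
    · obtain rfl := hY.2.2.2 h
      rcases hB with ⟨rfl, hB⟩ | ⟨rfl, hB⟩ | ⟨rfl, hB⟩ | ⟨rfl, hB⟩
      exacts [key _ _ hB (by decide +kernel) chk_E8_5, key _ _ hB (by decide +kernel) chk_E8_2, key _ _ hB (by decide +kernel) chk_E8_2',
        key _ _ hB (by decide +kernel) chk_E8_3]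
  · have hR : IsPGroup r ((E.subgroupOf T).subgroupOf (H.subgroupOf T)) := fun x =>
      ⟨1, Subtype.ext (Subtype.ext (Subtype.ext (by rw [pow_one]; exact h3 _ x.2)))⟩
    obtain ⟨P, hP⟩ := hR.exists_le_sylow
    have hc : ∀ a : T, (a : G) ∈ H → ∀ x ∈ E.subgroupOf T, a * x * a⁻¹ ∈ E.subgroupOf T := fun a ha x hx =>
      (Subgroup.mem_normalizer_iff.1 (C.loc.norm.ge ha) x).1 hx
    obtain ⟨x, hx, hx1, h5⟩ := hZ D l M hp tw p f r G T hT C.iso (h4.imp (fun h => ⟨h.1, h.2.1⟩) fun h => ⟨h.1, h.2.1⟩)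
      C.ne F ((P : Subgroup (H.subgroupOf T)).map (H.subgroupOf T).subtype) (E.subgroupOf T) (P.isPGroup'.map _)
      (by
        rw [Subgroup.index_map_subtype, hr.dvd_mul, not_or]
        exact ⟨P.not_dvd_index, fun h => hH.not_dvd_index hr hrd (hT.relIndex_eq hH ▸ h)⟩)
      (fun y hy => ⟨⟨y, hEH hy⟩, hP hy, rfl⟩) (by
        rintro _ ⟨a, -, rfl⟩
        exact hc a a.2)
      (fun h => C.loc.ne_bot (by rw [← Subgroup.map_subgroupOf_eq_of_le C.loc.le_S, h, Subgroup.map_bot]))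
      (fun x hx y hy => Subtype.ext (h2 x hx y hy)) fun x hx => Subtype.ext (h3 x hx)
    refine hx1 (F.L.inj ?_)
    rw [map_one]
    refine h1 _ ⟨ι_mem_im.2 hx, ?_, ?_⟩ ?_
    · rw [← map_pow, show x ^ r = 1 from Subtype.ext (h3 x hx), map_one]
    · rintro _ ⟨y, hy, rfl⟩
      rw [← map_mul, ← map_mul, show y * x = x * y from Subtype.ext (h2 y hy x hx)]
    · rintro _ ⟨⟨y, hy, rfl⟩, -⟩
      exact h5 y hy

end Cfsg.Agent.TH.Ab
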