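import Cfsg.Agent.TH.Ex.Si.Cls
import Cfsg.Agent.H172.S3Tw
import Cfsg.Agent.H554.RGIdx
import Cfsg.Agent.KFacts.RgdFiltChev
import Cfsg.Agent.KFacts.RgdFiltTwAll
import Cfsg.Agent.H851.SimsRgd
import Cfsg.Agent.H523.FpfChev
import Cfsg.Agent.H804.KB.AbChev
import Cfsg.Agent.H493.NCRow.OutTwE6
import Cfsg.Agent.H384.AsOut
import Cfsg.Agent.H902.Facts
import Cfsg.Agent.S2122

/-!
# S3541, `F₄, E₆, ²E₆, E₇, E₈` : classes, normalisers of unipotent subgroups, outer automorphisms (helper77)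

`Md Y p f T` : the facts on the models.
-/

set_option autoImplicit false
set_option linter.unusedSectionVars false

namespace Cfsg.Agent.TH.Ab.Dat

section Par

open CoxeterSystem Cfsg.Agent.ChevalleyStructure.CoxeterGeom Cfsg.Agent.Tits.Roots Cfsg.Agent.Tits.Core
  Cfsg.Agent.Tits.Exchange Cfsg.Agent.Nodes.Reps Cfsg.Agent.Nodes.BNOf Cfsg.Agent.Nodes.StabComb
  Cfsg.Agent.Nodes.Bruhat Cfsg.Agent.Nodes.OppDec Cfsg.Agent.Nodes.LeviDec
open Cfsg.Agent.H523.DspRgd

variable {I W Y : Type*} [Fintype I] [DecidableEq I] [Group W] [Group Y] {M : CoxeterMatrix I}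
  {cs : CoxeterSystem M W} {A : I → I → ℤ} {h : IsCartan M A} {p : ℕ} {T : Subgroup Y} {n : I → Y}
  {X : (I → ℤ) → Subgroup Y}

/-- the index of a proper parabolic subgroup -/
theorem le_index_PJ (R : RGD cs h p T n X) [Finite W] [Finite Y] (hG : GG cs h T X = ⊤) {N : ℕ}
    (hN : ∀ i : I, ∃ ω : List I, Path A (Pi.single i 1) ω ∧ N ≤ (ω.map fun j => Nat.card ↥(X (sr j))).prod)
    {J : Set I} (hJ : J ≠ Set.univ) : N ≤ (PJ cs h T X J).index := by
  classical
  have := Fintype.ofFinite W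
  obtain ⟨i, hi⟩ : ∃ i, i ∉ J := by
    by_contra hcon
    push Not at hcon
    exact hJ (Set.eq_univ_of_forall hcon)
  obtain ⟨ω, h1, h2⟩ := hN i
  obtain ⟨h3, h4⟩ := Path.one cs h (l := Pi.single i 1) (fun k => by
    rw [Pi.single_apply]
    split_ifs <;> norm_num) h1
  have h5 : J ⊆ {k | (Pi.single i 1 : I → ℤ) k = 0} := fun k hk =>
    Pi.single_eq_of_ne (fun e : k = i => hi (e ▸ hk)) _
  refine le_trans ?_ (Subgroup.index_antitone (H851.SimsRgd.PJ_mono R h5))
  rw [H554.RG.index_PJ R hG]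
  refine h2.trans (le_trans (le_of_eq ?_) (Finset.single_le_sum (f := fun w : {w : W // IsMinR cs _ w} =>
    Nat.card (RGD.Sup X (Nodes.NormalForm.NW cs h (w : W)⁻¹))) (fun _ _ => Nat.zero_le _)
    (Finset.mem_univ ⟨(cs.wordProd ω)⁻¹, (isMinR_inv_iff cs).2 h3⟩)))
  rw [inv_inv, H81.PJSum.card_word R h4]

/-- **Borel-Tits** -/
theorem par_rgd {R : RGD cs h p T n X} [Finite W] [Finite Y] [Fact p.Prime] {F : (I → ℤ) → ℝ → Subgroup Y}
    (hF : KFacts.RgdBorelTits.Filt R F) (hG : Nodes.RGDLib.G1 cs h X = ⊤) {N : ℕ}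
    (hN : ∀ i : I, ∃ ω : List I, Path A (Pi.single i 1) ω ∧ N ≤ (ω.map fun j => Nat.card ↥(X (sr j))).prod)
    {P : Subgroup Y} (hP : IsPGroup p P) (h0 : P ≠ ⊥) : N ≤ (Subgroup.normalizer (P : Set Y)).index := by
  obtain ⟨g, J, hJ, -, h1⟩ := KFacts.RgdFilt.borel_tits_of_filt hF hG hP h0
  refine (le_index_PJ R (KFacts.RgdFilt.GG_eq_top hG) hN hJ).trans (le_trans (le_of_eq ?_) (Subgroup.index_antitone h1))
  exact (Subgroup.index_map_of_bijective (MulAut.conj g).bijective _).symm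

open Cfsg Cfsg.Lie Cfsg.Agent.ChevalleyStructure Cfsg.Agent.ChevalleyStructure.CoxeterGeomTypes Cfsg.Agent.Nodes.RGDChev
  Cfsg.Agent.H523.DspPath Cfsg.Agent.H81.PJExc

theorem par_chev {D : ChevalleyDatum} {l : ℕ} {M : CoxeterMatrix (Fin l)} (hp : IsType D l M) {F : Type} [Field F]
    [Fintype F] (p : ℕ) [Fact p.Prime] [CharP F p] {Al : List (List ℤ)} (h1 : Sh l Al)
    (h2 : ∀ i j : Fin l, (Al.getD i []).getD j 0 = cartanOf D l i j) {c : ℕ}
    (h3 : ∀ i : Fin l, c ≤ wgt (fun _ => 1) (gr l Al c (ei l i))) {P : Subgroup ↥(D.group F)} (hP : IsPGroup p P)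
    (h0 : P ≠ ⊥) : Fintype.card F ^ c ≤ (Subgroup.normalizer (P : Set ↥(D.group F))).index := by
  have hfin : Finite M.Group := finite_W hp M.toCoxeterSystem
  refine par_rgd (KFacts.RgdFiltChev.filt hp M.toCoxeterSystem p) (G1_eq_top hp _) (fun i => ?_) hP h0
  exact exists_path h1 h2 Fintype.card_pos (fun _ => 1) _ (fun j => by
    rw [H81.PJChev.card_X hp M.toCoxeterSystem (isRoot_sr _ hp.isCartan j), Nat.card_eq_fintype_card, pow_one]) c c i (h3 i)

open Cfsg.Agent.Nodes.RGDTwE6 in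
theorem par_tw {K : Type} [Field K] [Fintype K] {q : ℕ} (hq : IsPrimePow q) (hK : Fintype.card K = q ^ 2) (p : ℕ)
    [Fact p.Prime] [CharP K p] {P : Subgroup ↥(twistedE6 K q)} (hP : IsPGroup p P) (h0 : P ≠ ⊥) :
    q ^ 21 ≤ (Subgroup.normalizer (P : Set ↥(twistedE6 K q))).index := by
  obtain ⟨φ, hφ, hqq⟩ := TwE6Basic.exists_frob hq hK
  let cs : CoxeterSystem CoxeterMatrix.F₄ CoxeterMatrix.F₄.Group := CoxeterMatrix.F₄.toCoxeterSystem
  have hfin : Finite CoxeterMatrix.F₄.Group := finite_W typeF4 cs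
  refine par_rgd (KFacts.RgdFiltTwAll.filt_fold cs isCartan foldData (foldGrp hφ hqq) p)
    (Cfsg.Agent.Nodes.RGDTwE6.G1_eq_top cs hφ hqq) (fun i => ?_) hP h0
  exact exists_path sh_T H81.PJTwE6.aT_ok hq.one_lt.le wT _ (H523.DspChev.card_X_tw hφ hqq hq.two_le hK) 20 21 i (pT i)

end Par

section Gen

open Subgroup

theorem exists_sup {K : Type*} [Group K] [Finite K] (k : ℕ) : ∀ C : Subgroup K, C.index < 2 ^ (k + 1) →
    ∃ s : Fin k → K, C ⊔ closure (Set.range s) = ⊤ := by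
  induction k with
  | zero =>
    intro C hC
    have h1 : C.index ≠ 0 := index_ne_zero_of_finite
    exact ⟨fun _ => 1, by rw [index_eq_one.1 (by omega : C.index = 1), top_sup_eq]⟩
  | succ k ih =>
    intro C hC
    by_cases h : C = ⊤
    · exact ⟨fun _ => 1, by rw [h, top_sup_eq]⟩
    obtain ⟨x, hx⟩ : ∃ x, x ∉ C := by
      by_contra h1
      push Not at h1
      exact h ((eq_top_iff' C).2 h1)
    have h1 := relIndex_mul_index (le_sup_left : C ≤ C ⊔ zpowers x)
    have h2 : C.relIndex (C ⊔ zpowers x) ≠ 0 := index_ne_zero_of_finite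
    have h3 : C.relIndex (C ⊔ zpowers x) ≠ 1 := fun e => hx (relIndex_eq_one.1 e (mem_sup_right (mem_zpowers x)))
    obtain ⟨s, hs⟩ := ih (C ⊔ zpowers x) (by
      have h4 := Nat.mul_le_mul_right (C ⊔ zpowers x).index (by omega : 2 ≤ C.relIndex (C ⊔ zpowers x))
      rw [pow_succ] at hC
      omega)
    refine ⟨Fin.cons x s, ?_⟩
    rw [Fin.range_cons, Set.insert_eq, Subgroup.closure_union, ← zpowers_eq_closure, ← sup_assoc, hs]

/-- the groups of automorphisms without inner automorphisms are generated by `g` elements -/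
def Gen (g : ℕ) (S : Type*) [Group S] : Prop := ∀ A : Subgroup (MulAut S), (∀ a ∈ A, (∃ x : S, a = MulAut.conj x) → a = 1) →
  ∃ s : Fin g → MulAut S, closure (Set.range s) = A

theorem gen_of_cyc {S : Type*} [Group S] (h : H523.CycOut S) : Gen 1 S := fun A hA => by
  obtain ⟨g, hg⟩ := isCyclic_iff_exists_zpowers_eq_top.1 (h.isCyclic hA)
  refine ⟨fun _ => g, ?_⟩
  rw [Set.range_const, ← zpowers_eq_closure]
  exact (MonoidHom.map_zpowers A.subtype g).symm.trans (by rw [hg, ← MonoidHom.range_eq_map, range_subtype])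

theorem gen_of_hom {S C : Type*} [Group S] [Finite S] [Group C] [Finite C] [IsCyclic C] (l : Out S →* C)
    (hl : Function.Surjective l) {k d : ℕ} (hd : Nat.card (Out S) = d * Nat.card C) (hk : d < 2 ^ (k + 1)) :
    Gen (k + 1) S := fun A hA => by
  obtain ⟨τ, hτ⟩ := isCyclic_iff_exists_zpowers_eq_top.1 (inferInstance : IsCyclic C)
  obtain ⟨c, rfl⟩ := hl τ
  have h1 : Nat.card C ≤ Nat.card (zpowers c) := by
    rw [← card_top, ← hτ, Nat.card_zpowers, Nat.card_zpowers]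
    exact Nat.le_of_dvd (orderOf_pos c) (orderOf_map_dvd l c)
  have h2 : (zpowers c).index ≤ d := by
    refine Nat.le_of_mul_le_mul_right ?_ (Nat.card_pos (α := C))
    rw [← hd, ← (zpowers c).index_mul_card]
    exact Nat.mul_le_mul_left _ h1
  let ψ : A →* Out S := (QuotientGroup.mk' (Inn S)).comp A.subtype
  have hψ : Function.Injective ψ := (injective_iff_map_eq_one ψ).2 fun a ha => by
    obtain ⟨x, hx⟩ : (a : MulAut S) ∈ Inn S := (QuotientGroup.eq_one_iff _).1 ha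
    exact Subtype.ext (hA a a.2 ⟨x, hx.symm⟩)
  obtain ⟨s, hs⟩ := exists_sup k ((zpowers c).comap ψ) (by
    rw [index_comap]
    refine lt_of_le_of_lt ((relIndex_le_of_le_right le_top ?_).trans ?_) hk
    · exact index_ne_zero_of_finite
    · rwa [relIndex_top_right])
  have h3 : IsCyclic ((zpowers c).comap ψ) :=
    isCyclic_of_injective (ψ.subgroupComap (zpowers c)) fun a b e => Subtype.ext (hψ (congrArg Subtype.val e))
  obtain ⟨g, hg⟩ := isCyclic_iff_exists_zpowers_eq_top.1 h3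
  have h4 : zpowers (g : A) = (zpowers c).comap ψ :=
    (MonoidHom.map_zpowers (Subgroup.subtype _) g).symm.trans (by rw [hg, ← MonoidHom.range_eq_map, range_subtype])
  refine ⟨A.subtype ∘ Fin.cons (g : A) s, ?_⟩
  rw [Set.range_comp, ← MonoidHom.map_closure, Fin.range_cons, Set.insert_eq, Subgroup.closure_union, ← zpowers_eq_closure, h4, hs,
    ← MonoidHom.range_eq_map, range_subtype]

theorem Gen.congr {g : ℕ} {S K : Type*} [Group S] [Group K] (e : S ≃* K) (h : Gen g K) : Gen g S := fun A hA => by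
  obtain ⟨s, hs⟩ := h (A.map (MulAut.congr e).toMonoidHom) (by
    rintro _ ⟨a, ha, rfl⟩ ⟨x, hx⟩
    have h1 : a = 1 := hA a ha ⟨e.symm x, by
      ext y
      have h2 := congrArg (fun β : MulAut K => e.symm (β (e y))) hx
      simpa using h2⟩
    rw [h1, map_one])
  refine ⟨(MulAut.congr e).symm.toMonoidHom ∘ s, ?_⟩
  rw [Set.range_comp, ← MonoidHom.map_closure, hs, map_map]
  convert map_id A
  ext a : 1
  exact (MulAut.congr e).symm_apply_apply a

end Gen

open Cfsg Cfsg.Lie Cfsg.Agent.H902 Cfsg.Agent.H889.Enum Cfsg.Agent.H252.EN Cfsg.Agent.TH.Ex.Si Cfsg.Agent.H523.Dsp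
  Cfsg.Agent.H523.DspPath Cfsg.Agent.H81.PJExc Cfsg.Agent.H523.DspChev

/-- `q ^ cX` is a lower bound for all classes and for the indices of the parabolic subgroups -/
def cX : Art.Sh → ℕ
  | .F4 => 15
  | .E6 => 16
  | .TE6 => 21
  | .E7 => 27
  | _ => 57

/-- a number of generators for the subgroups of `Out T` -/
def gX : Art.Sh → ℕ
  | .E6 => 3
  | .TE6 => 2
  | .E7 => 2
  | _ => 1

/-- the facts on the socle -/
structure Md (Y : Art.Sh) (p f : ℕ) (T : Type) [Group T] : Prop where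
  dat : Dat Y p f T
  out : Nat.card (MulAut T) = ouN Y p f * Nat.card T
  cls : ∀ τ : MulAut T, τ ≠ 1 → (p ^ f) ^ cX Y ≤ (fix τ).index
  par : ∀ P : Subgroup T, IsPGroup p P → P ≠ ⊥ → (p ^ f) ^ cX Y ≤ (Subgroup.normalizer (P : Set T)).index
  gen : Gen (gX Y) T

theorem Md.congr {Y : Art.Sh} {p f : ℕ} {T K : Type} [Group T] [Finite T] [Group K] (e : T ≃* K) (h : Md Y p f K) :
    Md Y p f T where
  dat := h.dat.congr e
  out := by rw [Nat.card_congr (MulAut.congr e).toEquiv, h.out, Nat.card_congr e.toEquiv]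
  cls τ hτ := by
    refine (h.cls (MulAut.congr e τ) (by rwa [Ne, map_eq_one_iff _ (MulEquiv.injective _)])).trans (le_of_eq ?_)
    rw [← Subgroup.index_comap_of_surjective (f := e.toMonoidHom) _ e.surjective]
    congr 1
    ext y
    simp [mem_fix]
  par P h1 h2 := by
    refine (h.par (P.map e.toMonoidHom) (h1.map _) (by
      rwa [Ne, Subgroup.map_eq_bot_iff_of_injective _ e.injective])).trans (le_of_eq ?_)
    rw [← Subgroup.index_map_of_bijective (f := e.toMonoidHom) e.bijective, Subgroup.map_equiv_normalizer_eq]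
  gen := h.gen.congr e

theorem dat_of {Y : Art.Sh} {p f : ℕ} {T : Type} [Group T] (h : ∃ f', Dat Y p f' T) (hr : Art.Real Y p f (Nat.card T)) :
    Dat Y p f T := by
  obtain ⟨f', h⟩ := h
  have h1 := h.real.P_self.symm.trans hr.P_self
  have h2 : Art.NN Y ≠ 0 := by
    have := h.mem
    revert this
    generalize Y = Z
    revert Z
    decide
  obtain rfl : f' = f := Nat.pow_right_injective hr.hp.two_le (Nat.pow_left_injective h2 h1)
  exact h

section models

variable {F : Type} [Field F] [Fintype F] {p f : ℕ} [hp : Fact p.Prime] [CharP F p]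

theorem cen_bot {S : Type*} [Group S] (h1 : IsSimpleGroup S) (h2 : ¬ IsMulCommutative S) : Subgroup.center S = ⊥ :=
  (Subgroup.Normal.eq_bot_or_eq_top inferInstance).resolve_right fun h => h2 ⟨⟨fun a b =>
    (Subgroup.mem_center_iff.1 (h ▸ Subgroup.mem_top b) a)⟩⟩

theorem md_F4 (hf : 0 < f) (hF : Fintype.card F = p ^ f) (hs : IsSimpleGroup ↥(chevF4.group F))
    (hn : ¬ IsMulCommutative ↥(chevF4.group F)) : Md .F4 p f ↥(chevF4.group F) where
  dat := dat_of (dat_F4 hs) (real_f4 hf hF)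
  out := by
    rw [H384.TwoTrans.AS.card_mulAut (cen_bot hs hn), S2122.result p f hF, ouN]
    by_cases h2 : p = 2
    · subst h2
      rfl
    · rw [if_neg h2, (Nat.coprime_primes Nat.prime_two hp.out).2 (Ne.symm h2)]
  cls τ hτ := hF ▸ H172.S3.index_F4 τ hτ
  par _ h1 h2 := hF ▸ par_chev typeF4 p H172.S3.sh_F4 aF4_ok H172.S3.pF4 h1 h2
  gen := gen_of_cyc H523.Chev.cycOut_F4

theorem md_E8 (hf : 0 < f) (hF : Fintype.card F = p ^ f) (hs : IsSimpleGroup ↥(chevE8.group F))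
    (hn : ¬ IsMulCommutative ↥(chevE8.group F)) : Md .E8 p f ↥(chevE8.group F) where
  dat := dat_of (dat_E8 hs) (real_e8 hf hF)
  out := by rw [H384.TwoTrans.AS.card_mulAut (cen_bot hs hn), H70.OutE.card_out_E8 hF, ouN]
  cls τ hτ := hF ▸ index_E8 τ hτ
  par _ h1 h2 := hF ▸ par_chev typeE8 p sh_E8 aE8_ok pE8 h1 h2
  gen := gen_of_cyc H523.Chev.cycOut_E8

theorem gen_of_aut {S : Type} [Group S] [Finite S] (hf : 0 < f) (hF : Fintype.card F = p ^ f) (l : MulAut S →* (F ≃+* F))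
    (h1 : ∀ y, l (MulAut.conj y) = 1) (h2 : ∀ τ, ∃ β, l β = τ) {k d : ℕ} (hd : Nat.card (Out S) = d * f)
    (hk : d < 2 ^ (k + 1)) : Gen (k + 1) S := by
  have hC : IsCyclic (F ≃+* F) := LieRecognition.FieldSemilinear.isCyclic_ringAut F
  have hCf : Finite (F ≃+* F) := Finite.of_injective (fun f : F ≃+* F => (f : F → F)) DFunLike.coe_injective
  refine gen_of_hom (QuotientGroup.lift (Inn S) l (by rintro _ ⟨y, rfl⟩; exact h1 y)) (fun τ => ?_)
    (by rw [hd, Lib.FieldAutCard.card_ringAut hf hF]) hk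
  obtain ⟨β, hβ⟩ := h2 τ
  exact ⟨β, hβ⟩

theorem md_E7 (hf : 0 < f) (hF : Fintype.card F = p ^ f) (hs : IsSimpleGroup ↥(chevE7.group F))
    (hn : ¬ IsMulCommutative ↥(chevE7.group F)) : Md .E7 p f ↥(chevE7.group F) where
  dat := dat_of (dat_E7 hs) (real_e7 hf hF)
  out := by rw [H384.TwoTrans.AS.card_mulAut (cen_bot hs hn), H70.OutE.card_out_E7 hF, ouN]
  cls τ hτ := hF ▸ index_E7 τ hτ
  par _ h1 h2 := hF ▸ par_chev typeE7 p sh_E7 aE7_ok pE7 h1 h2
  gen := by
    obtain ⟨l, h1, h2⟩ := H804.KB.exists_outHom_E7 hp.out hf.ne' hF (H804.Ext.exists_ne_of hn)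
    exact gen_of_aut (k := 1) hf hF ((MonoidHom.snd _ _).comp l) (fun y => congrArg Prod.snd (h1 y)) h2
      (H70.OutE.card_out_E7 hF) (lt_of_le_of_lt (Nat.gcd_le_left _ two_pos) (by norm_num))

theorem md_E6 (hf : 0 < f) (hF : Fintype.card F = p ^ f) (hs : IsSimpleGroup ↥(chevE6.group F))
    (hn : ¬ IsMulCommutative ↥(chevE6.group F)) : Md .E6 p f ↥(chevE6.group F) where
  dat := dat_of (dat_E6 hs) (real_e6 hf hF)
  out := by rw [H384.TwoTrans.AS.card_mulAut (cen_bot hs hn), H70.OutE.card_out_E6 hF, ouN]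
  cls τ hτ := hF ▸ index_E6 τ hτ
  par _ h1 h2 := hF ▸ par_chev typeE6 p sh_E6 aE6_ok pE6 h1 h2
  gen := by
    obtain ⟨l, h1, -, -, -, h2, -⟩ := H804.KB.exists_outHom_E6 hp.out hf.ne' hF (H804.Ext.exists_ne_of hn)
    refine gen_of_aut (k := 2) hf hF ((MonoidHom.snd _ _).comp l) (fun y => congrArg Prod.snd (h1 y))
      (fun τ => (h2 τ).imp fun β hβ => congrArg Prod.snd hβ) (H70.OutE.card_out_E6 hF) ?_
    have := Nat.gcd_le_left (p ^ f - 1) three_pos
    omega

theorem md_TE6 (hf : 0 < f) (hF : Fintype.card F = (p ^ f) ^ 2) (hs : IsSimpleGroup ↥(twistedE6 F (p ^ f)))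
    (hn : ¬ IsMulCommutative ↥(twistedE6 F (p ^ f))) : Md .TE6 p f ↥(twistedE6 F (p ^ f)) := by
  have hq : IsPrimePow (p ^ f) := hp.out.isPrimePow.pow hf.ne'
  have hF' : Fintype.card F = p ^ (2 * f) := by rw [hF, ← pow_mul, mul_comm]
  have ho := S2130.result p f hF' hf
  refine ⟨dat_of (dat_TE6 hq hF hs) (real_te6 hf hF), by rw [H384.TwoTrans.AS.card_mulAut (cen_bot hs hn), ho, ouN],
    fun τ hτ => index_tw hq hF τ hτ, fun _ h1 h2 => par_tw hq hF p h1 h2, ?_⟩
  obtain ⟨l, hl⟩ := H493.NCRow.exists_hom_TwE6 hq hF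
  have hC : IsCyclic (F ≃+* F) := LieRecognition.FieldSemilinear.isCyclic_ringAut F
  have hCf : Finite (F ≃+* F) := Finite.of_injective (fun f : F ≃+* F => (f : F → F)) DFunLike.coe_injective
  refine gen_of_hom (k := 1) (d := Nat.gcd 3 (p ^ f + 1)) l hl ?_ (lt_of_le_of_lt (Nat.gcd_le_left _ three_pos) (by norm_num))
  rw [ho, Lib.FieldAutCard.card_ringAut (by omega) hF']
  ring

end models

end Cfsg.Agent.TH.Ab.Dat
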