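import Cfsg.Agent.TH.Ex.Ab.Defs
import Cfsg.Agent.TH.Ex.Ab.DatA
import Cfsg.Agent.TH.Sv.Lin2

/-!
# S3541, `F₄, E₆, ²E₆, E₇, E₈` : the data of the socle (helper77)

`Y = sh D tw` is the shape, `q = p ^ f`.  `XC.md : Md Y p f T`; the theorems `Md.*` need `AS T` only.
-/

set_option autoImplicit false
set_option linter.unusedSectionVars false

namespace Cfsg.Agent.TH.Ab

open Subgroup Cfsg Cfsg.Lie Cfsg.Agent.H902 Cfsg.Agent.H252.EN Cfsg.Agent.TH.Ex.Si Cfsg.Agent.DS.Ex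
  Cfsg.Agent.TH.Ab.Dat

/-- the shape -/
def sh (D : ChevalleyDatum) (tw : Bool) : Art.Sh :=
  if tw then .TE6 else if D.nroots = 48 then .F4 else if D.nroots = 72 then .E6 else if D.nroots = 126 then .E7 else .E8

theorem sh_F4 : sh chevF4 false = .F4 := by decide
theorem sh_E6 : sh chevE6 false = .E6 := by decide
theorem sh_E7 : sh chevE7 false = .E7 := by decide
theorem sh_E8 : sh chevE8 false = .E8 := by decide
theorem sh_tw (D : ChevalleyDatum) : sh D true = .TE6 := rfl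

theorem IsoX.cases {D : ChevalleyDatum} {tw : Bool} {p f : ℕ} {T : Type} [Group T] (h : IsoX D tw p f T) (hD : Typ D) :
    (D = chevF4 ∧ tw = false ∧ sh D tw = .F4) ∨ (D = chevE6 ∧ tw = false ∧ sh D tw = .E6) ∨
    (D = chevE6 ∧ tw = true ∧ sh D tw = .TE6) ∨ (D = chevE7 ∧ tw = false ∧ sh D tw = .E7) ∨
    (D = chevE8 ∧ tw = false ∧ sh D tw = .E8) := by
  obtain ⟨-, F, _, _, _, ⟨rfl, -⟩ | ⟨rfl, rfl, -⟩⟩ := h
  · rcases hD with rfl | rfl | rfl | rfl
    · exact Or.inl ⟨rfl, rfl, sh_F4⟩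
    · exact Or.inr (Or.inl ⟨rfl, rfl, sh_E6⟩)
    · exact Or.inr (Or.inr (Or.inr (Or.inl ⟨rfl, rfl, sh_E7⟩)))
    · exact Or.inr (Or.inr (Or.inr (Or.inr ⟨rfl, rfl, sh_E8⟩)))
  · exact Or.inr (Or.inr (Or.inl ⟨rfl, rfl, rfl⟩))

theorem IsoX.md {D : ChevalleyDatum} {tw : Bool} {p f : ℕ} {T : Type} [Group T] [Finite T] (h : IsoX D tw p f T)
    (hD : Typ D) (hp : p.Prime) (hs : IsSimpleGroup T) (hn : ¬ IsMulCommutative T) : Md (sh D tw) p f T := by
  have := Fact.mk hp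
  have key : ∀ {K : Type} [Group K] (_ : T ≃* K), IsSimpleGroup K ∧ ¬ IsMulCommutative K := fun e =>
    ⟨e.symm.isSimpleGroup, fun h => hn ⟨⟨fun a b => e.injective (by rw [map_mul, map_mul, h.1.1])⟩⟩⟩
  obtain ⟨hf, F, _, _, _, ⟨rfl, hF, ⟨e⟩⟩ | ⟨rfl, rfl, hF, ⟨e⟩⟩⟩ := h
  · rcases hD with rfl | rfl | rfl | rfl
    · exact sh_F4 ▸ (md_F4 hf hF (key e).1 (key e).2).congr e
    · exact sh_E6 ▸ (md_E6 hf hF (key e).1 (key e).2).congr e
    · exact sh_E7 ▸ (md_E7 hf hF (key e).1 (key e).2).congr e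
    · exact sh_E8 ▸ (md_E8 hf hF (key e).1 (key e).2).congr e
  · exact (md_TE6 hf hF (key e).1 (key e).2).congr e

namespace Dat

/-! ### numbers -/

/-- the `s`-part of `a` -/
def sp (s a : ℕ) : ℕ := Nat.gcd a (s ^ Nat.log2 a)

theorem le_sp {s a j : ℕ} (hs : s.Prime) (ha : a ≠ 0) (h : s ^ j ∣ a) : s ^ j ≤ sp s a := by
  have h1 : j ≤ Nat.log2 a := (Nat.le_log2 ha).2
    ((Nat.pow_le_pow_left hs.two_le j).trans (Nat.le_of_dvd (Nat.pos_of_ne_zero ha) h))
  exact Nat.le_of_dvd (Nat.gcd_pos_of_pos_left _ (Nat.pos_of_ne_zero ha)) (Nat.dvd_gcd h (pow_dvd_pow s h1))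

/-- a lower bound for the classes of the elements of prime order `s ≠ p` of the socle (of order `N`) -/
def cl (Y : Art.Sh) (q N s : ℕ) : ℕ := max (q ^ cX Y) (N / bS Y q s)

/-- a lower bound for the indices of the normalisers of the `s`-subgroups of `H` -/
def cS (Y : Art.Sh) (p q N a o s : ℕ) : ℕ :=
  if s = p then q ^ cX Y else
    max (q ^ e1 Y) (if o % s = 0 then min (q ^ cX Y) (cl Y q N s / (sp s a - 1)) else cl Y q N s / (sp s a - 1))

/-- the largest exponent for which the count of `Sv.boxLin2` is contradictory -/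
def c2 : Art.Sh → ℕ
  | .F4 => 32
  | .E6 => 18
  | .TE6 => 26
  | .E7 => 50
  | _ => 162

theorem pow_dim_le {Y : Art.Sh} (hY : Y ∈ Zs) {p f N : ℕ} (h : Art.Real Y p f N) : (p ^ f) ^ dim Y ≤ 6 * N := by
  have hq : 2 ≤ p ^ f := h.hp.two_le.trans (Nat.le_self_pow (by have := h.hf; omega) p)
  have h1 := h.eq
  have h2 : Art.dd Y (p ^ f) ≤ 3 := dd_le (by revert hY; generalize Y = Z; revert Z; decide) _
  have h3 := prod_ge hq (dg' Y) (by revert hY; generalize Y = Z; revert Z; decide)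
  have h4 : 1 * ((p ^ f) ^ dim Y * ((p ^ f) ^ 0 * (p ^ f + 1) ^ 0)) ≤
      2 * ((p ^ f) ^ Art.NN Y * (((p ^ f) ^ 2 - 1) * ((dg' Y).map (fk (p ^ f))).prod)) :=
    low_gen hq h3 (by revert hY; generalize Y = Z; revert Z; decide) (by revert hY; generalize Y = Z; revert Z; decide)
  rw [num_eq hY] at h1
  have h5 : Art.dd Y (p ^ f) * N = (p ^ f) ^ Art.NN Y * (((p ^ f) ^ 2 - 1) * ((dg' Y).map (fk (p ^ f))).prod) := h1
  rw [← h5, pow_zero, pow_zero, mul_one, mul_one, one_mul] at h4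
  have := Nat.mul_le_mul_right N h2
  omega

/-- the coefficient of `f` in `|Out T|` -/
def oX : Art.Sh → ℕ
  | .E6 => 6
  | .TE6 => 6
  | .E8 => 1
  | _ => 2

theorem ouN_le {Y : Art.Sh} (hY : Y ∈ Zs) (p f : ℕ) : ouN Y p f ≤ oX Y * f := by
  have h1 : Nat.gcd 3 (p ^ f - 1) ≤ 3 := Nat.gcd_le_left _ three_pos
  have h2 : Nat.gcd 2 (p ^ f - 1) ≤ 2 := Nat.gcd_le_left _ two_pos
  have h3 : Nat.gcd 3 (p ^ f + 1) ≤ 3 := Nat.gcd_le_left _ three_pos
  simp only [Zs, List.mem_cons, List.not_mem_nil, or_false] at hY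
  rcases hY with rfl | rfl | rfl | rfl | rfl <;> simp only [ouN, oX]
  · exact Nat.mul_le_mul_right _ (by split_ifs <;> norm_num)
  · exact Nat.mul_le_mul_right _ (by omega)
  · exact Nat.mul_le_mul_right _ (by omega)
  · exact Nat.mul_le_mul_right _ h2
  · omega

theorem two_mul_le_pow {p f : ℕ} (hp : 2 ≤ p) : 2 * f ≤ p ^ f := by
  cases f with
  | zero => simp
  | succ f =>
    have h1 : f + 1 ≤ p ^ f := Nat.lt_pow_self hp
    rw [pow_succ']
    exact Nat.mul_le_mul hp h1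

theorem num_false {q N a o g c k D : ℕ} (hq : 2 ≤ q) (h1 : q ^ D ≤ 6 * N) (h2 : N ≤ 3 * a * (a * o) ^ (2 * g))
    (h3 : 4 * a ^ 2 ≤ q ^ (2 * c)) (h4 : 2 * o ≤ k * q) {e : ℕ} (h5 : c * (2 * g + 1) + 2 * g + e = D)
    (h6 : 18 * k ^ (2 * g) < 2 ^ (4 * g + 1) * 2 ^ e) : False := by
  have h7 : 2 * a ≤ q ^ c := by
    rw [mul_comm 2 c, pow_mul, show 4 * a ^ 2 = (2 * a) ^ 2 by ring] at h3
    exact (Nat.pow_le_pow_iff_left two_ne_zero).1 h3
  have h8 : 2 ^ (4 * g + 1) * (q ^ e * q ^ (c * (2 * g + 1) + 2 * g)) ≤ 18 * k ^ (2 * g) * q ^ (c * (2 * g + 1) + 2 * g) := by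
    calc _ = 2 ^ (4 * g + 1) * q ^ D := by rw [← h5]; ring
      _ ≤ 2 ^ (4 * g + 1) * (6 * (3 * a * (a * o) ^ (2 * g))) := Nat.mul_le_mul_left _ (h1.trans (Nat.mul_le_mul_left _ h2))
      _ = 18 * ((2 * a) ^ (2 * g + 1) * (2 * o) ^ (2 * g)) := by
        rw [show 4 * g + 1 = (2 * g + 1) + 2 * g by ring, mul_pow 2 a, mul_pow 2 o, mul_pow a o]
        ring
      _ ≤ 18 * ((q ^ c) ^ (2 * g + 1) * (k * q) ^ (2 * g)) := by gcongr
      _ = _ := by rw [← pow_mul, mul_pow]; ring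
  rw [← mul_assoc] at h8
  have h9 := Nat.le_of_mul_le_mul_right h8 (by positivity)
  have h10 := Nat.mul_le_mul_left (2 ^ (4 * g + 1)) (Nat.pow_le_pow_left hq e)
  omega

/-! ### groups -/

section Grp

variable {G : Type} [Group G] [Finite G]

theorem relIndex_cent_le {L P : Subgroup G} (hL : L ≤ normalizer (P : Set G)) {x : G} (hx : x ∈ P) (h1 : x ≠ 1) :
    (centralizer {x}).relIndex L ≤ Nat.card P - 1 := by
  rw [← ncard_sdiff_one, ← Nat.card_coe_set_eq]
  refine Nat.card_le_card_of_injective (α := L ⧸ (centralizer {x}).subgroupOf L)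
    (fun c => ⟨(c.out : G) * x * (c.out : G)⁻¹, (mem_normalizer_iff.1 (hL c.out.2) x).1 hx, fun h => h1 ?_⟩) fun c c' e => ?_
  · have h2 : (c.out : G) * x * (c.out : G)⁻¹ = 1 := h
    calc x = (c.out : G)⁻¹ * ((c.out : G) * x * (c.out : G)⁻¹) * c.out := by group
      _ = 1 := by rw [h2]; group
  · have h2 : (c.out : G) * x * (c.out : G)⁻¹ = (c'.out : G) * x * (c'.out : G)⁻¹ := congrArg Subtype.val e
    rw [← c.out_eq', ← c'.out_eq', QuotientGroup.eq, mem_subgroupOf, mem_centralizer_singleton_iff]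
    show (c.out : G)⁻¹ * c'.out * x = x * ((c.out : G)⁻¹ * c'.out)
    calc _ = (c.out : G)⁻¹ * ((c'.out : G) * x * (c'.out : G)⁻¹) * c'.out := by group
      _ = _ := by rw [← h2]; group

theorem cls_le_norm (T : Subgroup G) {P : Subgroup G} {x : G} (hx : x ∈ P) (h1 : x ≠ 1) :
    (centralizer {x}).relIndex T ≤ (normalizer (P : Set G)).relIndex T * (Nat.card P - 1) := by
  have h2 := relIndex_inf_mul_relIndex (centralizer {x}) (normalizer (P : Set G)) T
  refine (relIndex_le_of_le_left inf_le_left index_ne_zero_of_finite).trans (h2.ge.trans ?_)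
  rw [mul_comm]
  exact Nat.mul_le_mul_left _ (relIndex_cent_le inf_le_left hx h1)

variable {T H : Subgroup G} {m : ℕ}

theorem conj_inj (hT : AS T) : Function.Injective (haveI := hT.normal; (MulAut.conjNormal : G →* MulAut T)) := by
  have := hT.normal
  rw [injective_iff_map_eq_one]
  intro g hg
  have h2 : g ∈ centralizer (T : Set G) := fun t ht => by
    have h3 := congrArg (fun σ : MulAut T => ((σ ⟨t, ht⟩ : T) : G)) hg
    simp only [MulAut.conjNormal_apply, MulAut.one_apply] at h3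
    exact (mul_inv_eq_iff_eq_mul.1 h3).symm
  rwa [hT.cent] at h2

theorem norm_le_inf (hT : AS T) (P : Subgroup G) :
    (normalizer ((P ⊓ T : Subgroup G) : Set G)).relIndex T ≤ (normalizer (P : Set G)).relIndex T :=
  relIndex_le_of_le_left (fun t ht => mem_normalizer_iff.2 fun x => and_congr (mem_normalizer_iff.1 ht x)
    ⟨fun h => hT.normal.conj_mem _ h t, fun h => by simpa [mul_assoc] using hT.normal.conj_mem _ h t⁻¹⟩)
    index_ne_zero_of_finite

theorem cls_le_of_bot (hT : AS T) {P : Subgroup G} (h1 : P ⊓ T = ⊥) {x : G} (hx : x ∈ P) :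
    (centralizer {x}).relIndex T ≤ (normalizer (P : Set G)).relIndex T := by
  rw [← inf_relIndex_right (normalizer _)]
  refine relIndex_le_of_le_left (fun t ht => mem_centralizer_singleton_iff.2 ?_) index_ne_zero_of_finite
  replace ht := mem_inf.1 ht
  have h3 : t * x * t⁻¹ * x⁻¹ ∈ P ⊓ T := mem_inf.2 ⟨P.mul_mem ((mem_normalizer_iff.1 ht.1 x).1 hx) (P.inv_mem hx), by
    have := T.mul_mem ht.2 (hT.normal.conj_mem _ (T.inv_mem ht.2) x)
    simpa [mul_assoc] using this⟩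
  rw [h1, mem_bot, mul_inv_eq_one, mul_inv_eq_iff_eq_mul] at h3
  exact h3

variable {Y : Art.Sh} {p f : ℕ} (h : Md Y p f T) (hT : AS T)

include h

theorem Md.prime : p.Prime := h.dat.real.hp

theorem Md.two_le : 2 ≤ p ^ f := h.prime.two_le.trans (Nat.le_self_pow (by have := h.dat.real.hf; omega) p)

theorem Md.card_T : Nat.card T = od Y p f := real_eq h.dat.real

theorem Md.dim_le : (p ^ f) ^ dim Y ≤ 6 * Nat.card T := pow_dim_le h.dat.mem h.dat.real

/-- the least index -/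
theorem Md.idx {M : Subgroup G} (hM : ¬ T ≤ M) : (p ^ f) ^ e1 Y ≤ M.relIndex T := Sv.le_relIndex h.dat.idx hM

/-- classes of semisimple elements of prime order -/
theorem Md.ss {x : G} (hx : x ∈ T) (h1 : (orderOf x).Prime) (h2 : orderOf x ≠ p) :
    Nat.card T / bS Y (p ^ f) (orderOf x) ≤ (centralizer {x}).relIndex T := by
  have h3 : orderOf (⟨x, hx⟩ : T) = orderOf x := (orderOf_coe _).symm
  have h4 := h.dat.cent ⟨x, hx⟩ (h3 ▸ h1) (h3 ▸ h2)
  have h5 : (centralizer {x}).subgroupOf T = centralizer {(⟨x, hx⟩ : T)} := by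
    ext y
    rw [mem_subgroupOf, mem_centralizer_singleton_iff, mem_centralizer_singleton_iff, Subtype.ext_iff]
    rfl
  rw [h3, ← h5] at h4
  refine Nat.div_le_of_le_mul ?_
  rw [← ((centralizer {x}).subgroupOf T).card_mul_index]
  exact Nat.mul_le_mul_right _ h4

include hT

theorem Md.index_dvd : T.index ∣ ouN Y p f := by
  have h1 : Nat.card G ∣ Nat.card (MulAut T) := card_dvd_of_injective _ (conj_inj hT)
  rw [h.out, ← T.index_mul_card] at h1
  exact Nat.dvd_of_mul_dvd_mul_right Nat.card_pos h1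

theorem Md.index_le : 2 * T.index ≤ oX Y * p ^ f := by
  have h1 : 0 < ouN Y p f := Nat.pos_of_ne_zero fun e => by
    have h2 := h.out
    rw [e, zero_mul] at h2
    exact Nat.card_pos.ne' h2
  calc 2 * T.index ≤ 2 * (oX Y * f) :=
        Nat.mul_le_mul_left _ ((Nat.le_of_dvd h1 (h.index_dvd hT)).trans (ouN_le h.dat.mem p f))
    _ = oX Y * (2 * f) := by ring
    _ ≤ _ := Nat.mul_le_mul_left _ (two_mul_le_pow h.prime.two_le)

/-- **all classes** -/
theorem Md.clsG {x : G} (hx : x ≠ 1) : (p ^ f) ^ cX Y ≤ (centralizer {x}).relIndex T := by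
  have := hT.normal
  refine (h.cls (MulAut.conjNormal x) (by rwa [Ne, map_eq_one_iff _ (conj_inj hT)])).trans (le_of_eq ?_)
  rw [relIndex]
  congr 1
  ext y
  rw [H523.Dsp.mem_fix, mem_subgroupOf, mem_centralizer_singleton_iff, Subtype.ext_iff, MulAut.conjNormal_apply,
    mul_inv_eq_iff_eq_mul, eq_comm]

theorem Md.cl_le {x : G} (hx : x ∈ T) (h1 : (orderOf x).Prime) (h2 : orderOf x ≠ p) :
    cl Y (p ^ f) (Nat.card T) (orderOf x) ≤ (centralizer {x}).relIndex T :=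
  max_le (h.clsG hT fun e => h1.ne_one (by rw [e, orderOf_one])) (h.ss hx h1 h2)

/-- **normalisers of `p`-subgroups** -/
theorem Md.parG {P : Subgroup G} (h0 : P ≠ ⊥) (hP : IsPGroup p P) :
    (p ^ f) ^ cX Y ≤ (normalizer (P : Set G)).relIndex T := by
  by_cases h1 : P ⊓ T = ⊥
  · obtain ⟨x, hx, hx1⟩ := (bot_or_exists_ne_one P).resolve_left h0
    exact (h.clsG hT hx1).trans (cls_le_of_bot hT h1 hx)
  · refine (h.par (P.subgroupOf T) (hP.comap_of_injective _ T.subtype_injective)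
      (fun e => h1 (disjoint_iff.1 (subgroupOf_eq_bot.1 e)))).trans
      (index_antitone fun t ht => mem_normalizer_iff.2 fun x => mem_normalizer_iff.1 (mem_subgroupOf.1 ht) x)

/-- complements -/
theorem Md.genG (K : Subgroup G) (hK : K ⊓ T = ⊥) : ∃ s : Fin (gX Y) → G, Subgroup.closure (Set.range s) = K := by
  have := hT.normal
  obtain ⟨s, hs⟩ := h.gen (K.map (MulAut.conjNormal : G →* MulAut T)) (by
    rintro _ ⟨g, hg, rfl⟩ ⟨t, ht⟩
    have h2 : g = t := conj_inj hT (ht.trans (by ext; simp))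
    have h3 : g ∈ K ⊓ T := ⟨hg, h2 ▸ t.2⟩
    rw [hK, mem_bot] at h3
    rw [h3, map_one])
  have h1 : ∀ i, ∃ g, MulAut.conjNormal (H := T) g = s i := fun i => by
    obtain ⟨g, -, hg⟩ : s i ∈ K.map (MulAut.conjNormal : G →* MulAut T) := hs ▸ subset_closure ⟨i, rfl⟩
    exact ⟨g, hg⟩
  choose g hg using h1
  refine ⟨g, map_injective (conj_inj hT) ?_⟩
  rw [MonoidHom.map_closure, ← Set.range_comp, ← hs]
  exact congrArg (fun s => Subgroup.closure (Set.range s)) (funext hg)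

/-- normalisers of `s`-subgroups of `H` -/
theorem Md.cS_le {s : ℕ} (hs : s.Prime) (hH : Half H m) {P : Subgroup G} (hle : P ≤ H) (h0 : P ≠ ⊥) (hP : IsPGroup s P) :
    cS Y p (p ^ f) (Nat.card T) (Nat.card ↥(H ⊓ T)) T.index s ≤ (normalizer (P : Set G)).relIndex T := by
  have := Fact.mk hs
  have := hT.normal
  unfold cS
  by_cases h1 : s = p
  · rw [if_pos h1]
    exact h.parG hT h0 (h1 ▸ hP)
  rw [if_neg h1]
  refine max_le (h.idx (Sv.not_le_normalizer hT hH hle h0)) ?_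
  by_cases h2 : P ⊓ T = ⊥
  · obtain ⟨x, hx, hx1⟩ := (bot_or_exists_ne_one P).resolve_left h0
    have h3 : s ∣ T.index := by
      obtain ⟨j, hj⟩ := hP.exists_card_eq
      have h4 := Own.card_mul_relIndex (inf_le_left : P ⊓ T ≤ P)
      rw [inf_relIndex_left, h2, card_bot, one_mul, hj] at h4
      refine (dvd_pow_self s fun e => h0 ?_).trans (h4 ▸ relIndex_dvd_index_of_normal T P)
      rwa [e, pow_zero, card_eq_one] at hj
    rw [if_pos (Nat.mod_eq_zero_of_dvd h3)]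
    exact (min_le_left _ _).trans ((h.clsG hT hx1).trans (cls_le_of_bot hT h2 hx))
  · have h3 : cl Y (p ^ f) (Nat.card T) s / (sp s (Nat.card ↥(H ⊓ T)) - 1) ≤ (normalizer (P : Set G)).relIndex T := by
      obtain ⟨j, hj⟩ := (hP.to_le (inf_le_left : P ⊓ T ≤ P)).exists_card_eq
      obtain ⟨x, hx⟩ := exists_prime_orderOf_dvd_card' (G := ↥(P ⊓ T)) s (hj ▸ dvd_pow_self s fun e => h2 (by
        rwa [e, pow_zero, card_eq_one] at hj))
      rw [← orderOf_coe] at hx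
      have h4 := h.cl_le hT x.2.2 (hx ▸ hs) (hx ▸ h1)
      have h5 := cls_le_norm T x.2 fun e => hs.ne_one (by rw [← hx, e, orderOf_one])
      have h6 : Nat.card ↥(P ⊓ T) ≤ sp s (Nat.card ↥(H ⊓ T)) :=
        hj ▸ le_sp hs Nat.card_pos.ne' (hj ▸ card_dvd_of_le (inf_le_inf_right T hle))
      rw [hx] at h4
      refine Nat.div_le_of_le_mul (h4.trans (h5.trans ?_))
      rw [mul_comm]
      exact Nat.mul_le_mul (Nat.sub_le_sub_right h6 1) (norm_le_inf hT P)
    split_ifs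
    · exact (min_le_right _ _).trans h3
    · exact h3

/-- the count of `Sv.boxLin2` -/
theorem Md.lin (hH : Half H m) {c : ℕ} (hc : ∀ x ∈ H ⊓ T, x ≠ 1 → c ≤ (centralizer {x}).relIndex T)
    (h4 : 4 * Nat.card ↥(H ⊓ T) ^ 2 ≤ c) : Nat.card ↥(H ⊓ T) ∣ Nat.card H / m ∧ m ∣ T.index ∧
      Nat.card T ≤ 3 * Nat.card ↥(H ⊓ T) * (Nat.card ↥(H ⊓ T) * T.index) ^ (2 * gX Y) := by
  obtain ⟨h1, h2, h3⟩ := Sv.boxLin2 G T H m c (gX Y) hT hH hc h4 (h.genG hT)
  refine ⟨h1, h2, ?_⟩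
  have h5 : Nat.card ↥(H ⊓ T) * T.index = Nat.card H := by
    have h6 := T.card_mul_index
    rw [← hT.card_inf_mul hH, ← H.card_mul_index, mul_right_comm] at h6
    exact Nat.eq_of_mul_eq_mul_right hH.index_pos h6
  rw [h5, ← hT.card_inf_mul hH, mul_comm 3, mul_assoc]
  exact Nat.mul_le_mul_left _ h3

/-- **small point stabilisers**, any class bound -/
theorem Md.small' (hH : Half H m) {c : ℕ} (hc : ∀ x ∈ H ⊓ T, x ≠ 1 → c ≤ (centralizer {x}).relIndex T) :
    min c ((p ^ f) ^ c2 Y) < 4 * Nat.card ↥(H ⊓ T) ^ 2 := by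
  by_contra h1
  rw [not_lt, le_min_iff] at h1
  have h2 := (h.lin hT hH hc h1.1).2.2
  have h3 := h.dim_le
  have h4 := h.index_le hT
  have h5 := h1.2
  have hY := h.dat.mem
  have hq := h.two_le
  simp only [Zs, List.mem_cons, List.not_mem_nil, or_false] at hY
  rcases hY with rfl | rfl | rfl | rfl | rfl
  · exact num_false (c := 16) (e := 2) hq h3 h2 h5 h4 (by decide) (by decide)
  · exact num_false (c := 9) (e := 9) hq h3 h2 h5 h4 (by decide) (by decide)
  · exact num_false (c := 13) (e := 9) hq h3 h2 h5 h4 (by decide) (by decide)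
  · exact num_false (c := 25) (e := 4) hq h3 h2 h5 h4 (by decide) (by decide)
  · exact num_false (c := 81) (e := 3) hq h3 h2 h5 h4 (by decide) (by decide)

/-- **SMALL** -/
theorem Md.small (hH : Half H m) : (p ^ f) ^ cX Y < 4 * Nat.card ↥(H ⊓ T) ^ 2 := by
  have h1 := h.small' hT hH fun x _ hx => h.clsG hT hx
  rwa [min_eq_left (Nat.pow_le_pow_right (by have := h.two_le; omega) (by
    have := h.dat.mem
    revert this
    generalize Y = Z
    revert Z
    decide))] at h1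

/-- the classes of the `p'`-elements of the socle -/
theorem Md.ss' {x : G} (hx : x ∈ T) (h1 : x ≠ 1) (h2 : ¬ p ∣ orderOf x) :
    Nat.card T / bY Y (p ^ f) ≤ (centralizer {x}).relIndex T := by
  obtain ⟨s, hs, k, hk⟩ := Nat.exists_prime_and_dvd (mt orderOf_eq_one_iff.1 h1)
  have h0 : 0 < k := Nat.pos_of_mul_pos_left (hk ▸ orderOf_pos x)
  have h3 : orderOf (x ^ k) = s := by
    rw [orderOf_pow' _ h0.ne', hk, Nat.gcd_mul_left_left, Nat.mul_div_cancel _ h0]
  have h4 := h.ss (T.pow_mem hx k) (h3 ▸ hs) (by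
    rw [h3]
    rintro rfl
    exact h2 ⟨k, hk⟩)
  refine le_trans ?_ (h4.trans (relIndex_le_of_le_left (fun g hg => mem_centralizer_singleton_iff.2
    ((show Commute g x from mem_centralizer_singleton_iff.1 hg).pow_right k).eq) index_ne_zero_of_finite))
  unfold bS
  split_ifs with h5
  · obtain ⟨rfl, h6, -⟩ := h5
    rw [h6]
    exact Nat.div_le_div_left (by decide) (by decide)
  · exact le_rfl

/-- **SMALL** if `p` does not divide `|H ⊓ T|` -/
theorem Md.small_ss (hH : Half H m) (hp : ¬ p ∣ Nat.card ↥(H ⊓ T)) :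
    min (Nat.card T / bY Y (p ^ f)) ((p ^ f) ^ c2 Y) < 4 * Nat.card ↥(H ⊓ T) ^ 2 :=
  h.small' hT hH fun _ hx h1 => h.ss' hT hx.2 h1 fun e => hp (e.trans (Subgroup.orderOf_dvd_natCard _ hx))

/-- **the necessary conditions** -/
theorem Md.necX (hH : Half H m) {cA : ℕ} (hA : ∀ x ∈ H ⊓ T, x ≠ 1 → cA ≤ (centralizer {x}).relIndex T) :
    Sv.NecX (Nat.card T) (Nat.card ↥(H ⊓ T)) T.index (Nat.card H / m) ((p ^ f) ^ cX Y) cA
      (cS Y p (p ^ f) (Nat.card T) (Nat.card ↥(H ⊓ T)) T.index)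
      (fun s => Nat.card (Sylow s ↥(H ⊓ T))) (fun s => Nat.card (Sylow s H)) :=
  Sv.boxNecX G T H m _ _ _ hT hH (fun _ _ hx => h.clsG hT hx) hA fun _ hs _ h1 h2 h3 => h.cS_le hT hs hH h1 h2 h3

theorem Md.nec (hH : Half H m) : Sv.Nec (Nat.card T) (Nat.card ↥(H ⊓ T)) T.index (Nat.card H / m) ((p ^ f) ^ cX Y)
    ((p ^ f) ^ cX Y) (cS Y p (p ^ f) (Nat.card T) (Nat.card ↥(H ⊓ T)) T.index) :=
  (h.necX hT hH fun _ _ hx => h.clsG hT hx).nec

end Grp

end Dat

namespace XC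

variable {D : ChevalleyDatum} {tw : Bool} {G : Type} [Group G] [Finite G] {T H E : Subgroup G} {m p f r : ℕ}
  (C : XC D tw T H E m p f r)

include C

theorem md : Md (sh D tw) p f T := C.iso.md C.typ C.ctx.prime C.ctx.as.simple C.ctx.as.nonab

theorem dat : Dat (sh D tw) p f T := C.md.dat

theorem card_T : Nat.card T = od (sh D tw) p f := C.md.card_T

theorem index_dvd : T.index ∣ ouN (sh D tw) p f := C.md.index_dvd C.ctx.as

theorem cls {x : G} (hx : x ≠ 1) : (p ^ f) ^ cX (sh D tw) ≤ (centralizer {x}).relIndex T := C.md.clsG C.ctx.as hx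

theorem par {P : Subgroup G} (h0 : P ≠ ⊥) (hP : IsPGroup p P) :
    (p ^ f) ^ cX (sh D tw) ≤ (normalizer (P : Set G)).relIndex T := C.md.parG C.ctx.as h0 hP

theorem idx_H : (p ^ f) ^ e1 (sh D tw) ≤ H.index := Sv.le_index C.ctx.as C.ctx.half C.dat.idx

theorem small : (p ^ f) ^ cX (sh D tw) < 4 * Nat.card ↥(H ⊓ T) ^ 2 := C.md.small C.ctx.as C.ctx.half

theorem small_ss (hp : ¬ p ∣ Nat.card ↥(H ⊓ T)) :
    min (Nat.card T / bY (sh D tw) (p ^ f)) ((p ^ f) ^ c2 (sh D tw)) < 4 * Nat.card ↥(H ⊓ T) ^ 2 :=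
  C.md.small_ss C.ctx.as C.ctx.half hp

theorem cS_le {s : ℕ} (hs : s.Prime) {P : Subgroup G} (hle : P ≤ H) (h0 : P ≠ ⊥) (hP : IsPGroup s P) :
    cS (sh D tw) p (p ^ f) (Nat.card T) (Nat.card ↥(H ⊓ T)) T.index s ≤ (normalizer (P : Set G)).relIndex T :=
  C.md.cS_le C.ctx.as hs C.ctx.half hle h0 hP

theorem nec : Sv.Nec (Nat.card T) (Nat.card ↥(H ⊓ T)) T.index (Nat.card H / m) ((p ^ f) ^ cX (sh D tw))
    ((p ^ f) ^ cX (sh D tw)) (cS (sh D tw) p (p ^ f) (Nat.card T) (Nat.card ↥(H ⊓ T)) T.index) :=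
  C.md.nec C.ctx.as C.ctx.half

end XC

end Cfsg.Agent.TH.Ab
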