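import Cfsg.Agent.TH.Ex.Ab.TorNum
import Cfsg.Agent.TH.Ex.Ab.Dat
import Cfsg.Agent.SB.Exc.Tor.Norm
import Cfsg.Agent.H473.Ab.Cyclo

/-!
# S3541, normalisers of maximal tori in `F₄, E₆, ²E₆, E₇, E₈` (helper71)

`exists_TN` : all lifts of `H` normalise the torus of a conjugate frame; `TN.card_TF` : the order of the finite torus;
`TN.exists_S` : `|H ⊓ T| = s w`; `boxTor`.
-/

set_option autoImplicit false
set_option linter.unusedSectionVars false

namespace Cfsg.Agent.TH.Ab.Tor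

open CoxeterSystem Cfsg Cfsg.Lie Cfsg.Lie.ChevalleyDatum
open Cfsg.Agent.ChevalleyStructure Cfsg.Agent.ChevalleyStructure.CoxeterGeom
  Cfsg.Agent.ChevalleyStructure.CoxeterGeomTypes
open Cfsg.Agent.Tits.Roots Cfsg.Agent.Nodes Cfsg.Agent.Nodes.BNOf Cfsg.Agent.Nodes.RGDChev
open Cfsg.Agent.KFacts.RgdChevCoord
open Cfsg.Agent.BpExc Cfsg.Agent.BpExc.TorChev Cfsg.Agent.BpExc.Fr Cfsg.Agent.BpExc.LangFr
open Cfsg.Agent.H469.Exc Cfsg.Agent.H316.U6 Cfsg.Agent.H129.TorusChar Cfsg.Agent.DS.Ex Cfsg.Agent.DS.Ex.Tor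
  Cfsg.Agent.DS.Nt Cfsg.Agent.H786.FC
open Cfsg.Agent.SB.Exc (XF HasRt dM)
open Cfsg.Agent.SB.Exc.Tor Cfsg.Agent.H902 Cfsg.Agent.TH.Ex.Si Cfsg.Agent.TH.Ab.Dat

/-- the determinant of `u - q` for `u` of finite order -/
theorem exists_cy {l n q : ℕ} (hn : 0 < n) (hq : 2 ≤ q) {u : En l} (hu : u ^ n = 1) :
    ∃ m : Multiset ℕ, (∀ e ∈ m, 0 < e) ∧ (m.map Nat.totient).sum = l ∧
      (LinearMap.det (u - (q : ℤ) • (1 : En l))).natAbs = (m.map (cy q)).prod := by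
  obtain ⟨m, h1, h2, h3⟩ := H473.Ab.Cyclo.exists_mult (A := LinearMap.toMatrixAlgEquiv' u) hn (by rw [← map_pow, hu, map_one])
  refine ⟨m, h1, h2, ?_⟩
  have h4 := congrArg (Polynomial.eval (q : ℤ)) h3
  rw [Matrix.eval_charpoly, Polynomial.eval_multiset_prod, Multiset.map_map] at h4
  have h5 : LinearMap.toMatrix' (u - (q : ℤ) • (1 : En l)) = -(Matrix.scalar (Fin l) (q : ℤ) - LinearMap.toMatrixAlgEquiv' u) := by
    rw [neg_sub, map_sub, map_smul, LinearMap.toMatrix'_one, Matrix.scalar_apply, Matrix.smul_one_eq_diagonal]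
    rfl
  rw [← LinearMap.det_toMatrix', h5, Matrix.det_neg, Int.natAbs_mul, Int.natAbs_pow, Int.natAbs_neg, Int.natAbs_one, one_pow,
    one_mul, h4, ← Int.natAbs_natCast (m.map (cy q)).prod, Nat.cast_multiset_prod, Multiset.map_map]
  exact congrArg (fun s : Multiset ℤ => s.prod.natAbs) (Multiset.map_congr rfl fun e _ => (cy_cast hq e).symm)

variable {D : ChevalleyDatum} {l : ℕ} {M : CoxeterMatrix (Fin l)} {hp : IsType D l M} {p : ℕ} [Fact p.Prime]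
  {G : Type} [Group G] [Finite G] {T H : Subgroup G}

/-- **The setting.** -/
structure TN (H : Subgroup G) (L : Lift hp p T) (e : ℕ) (v : M.Group) (ε : ℤˣ) (g : (Fin l → ℤ) ≃+ (Fin l → ℤ)) :
    Prop where
  he : 0 < e
  frob : IsFrob p e L.σ
  fr : FR hp p L.σ g
  hg : ∀ a, g a = (ε : ℤ) • rp hp v a
  nrm : ∀ φ ∈ L.GH H, ∀ t, φ t ∈ TT D (KK p) ↔ t ∈ TT D (KK p)

theorem exists_TN (hS : AS T) {q : ℕ} (F : XF hp p q T) {A₀ : Subgroup (YY D p)} (h0 : A₀ ≠ ⊥)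
    (hI : F.L.Inv H A₀) (hT : Toral p A₀) (hN : ∀ A₁ : Subgroup (YY D p), A₁ ≠ ⊥ → F.L.Inv H A₁ → ¬ HasRt hp p A₁) :
    ∃ z v ε g, TN H (F.L.conj z) F.m.e v ε g := by
  obtain ⟨z, hz⟩ := hT
  have pure : ∀ A : Subgroup (YY D p), A ≤ TT D (KK p) → A ≠ ⊥ → (∀ φ ∈ (F.L.conj z).GH H, ∀ a ∈ A, φ a ∈ A) →
      ∀ b, RT hp b → ∃ a ∈ A, cX hp a b ≠ 1 := by
    intro A hA hA0 hAI b hb
    by_contra h
    push Not at h
    refine hN (A.comap (MulAut.conj z).toMonoidHom) (fun e => hA0 ?_) ?_ ⟨z, fun a ha => hA ha, b, hb, fun a ha => h _ ha⟩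
    · rw [← Subgroup.map_comap_eq_self_of_surjective (f := (MulAut.conj z).toMonoidHom) (MulAut.conj z).surjective A, e,
        Subgroup.map_bot]
    · rw [Lift.inv_iff]
      intro φ hφ a ha
      have h1 := hAI (MulAut.conj z * φ * (MulAut.conj z)⁻¹) ((F.L.mem_GH_conj z).2 (by rwa [Lift.cf_conj])) _ ha
      change (MulAut.conj z * φ * (MulAut.conj z)⁻¹) (MulAut.conj z a) ∈ A at h1
      rwa [MulAut.mul_apply, MulAut.inv_apply_self] at h1
  have h1 := (Lift.inv_iff _).1 (F.L.inv_conj z hI)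
  obtain ⟨a, ha, ha1⟩ := (Subgroup.bot_or_exists_ne_one A₀).resolve_left h0
  obtain ⟨n, hn, han⟩ := exists_ord hp (hz a ha)
  have hfin := finite_tors (hp := hp) (p := p) hn
  set B := A₀.map (MulAut.conj z).toMonoidHom ⊓ tors hp p n with hB
  have hBf : Finite B := Finite.of_injective _ (Subgroup.inclusion_injective (inf_le_right : B ≤ tors hp p n))
  have hBT : B ≤ TT D (KK p) := fun x hx => hx.2.1
  have hBI : ∀ φ ∈ (F.L.conj z).GH H, ∀ a ∈ B, φ a ∈ B := fun φ hφ x hx => by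
    have h2 := h1 φ hφ x hx.1
    refine ⟨h2, ?_, by rw [← map_pow, hx.2.2, map_one]⟩
    obtain ⟨y, hy, e⟩ := h2
    rw [← e]
    exact hz y hy
  have hB0 : B ≠ ⊥ := fun e => by
    have h2 : z * a * z⁻¹ ∈ B := ⟨⟨a, ha, rfl⟩, hz a ha, han⟩
    rw [e, Subgroup.mem_bot, mul_inv_eq_one, mul_eq_left] at h2
    exact ha1 h2
  have step : ∀ φ ∈ (F.L.conj z).GH H, ∀ y : YY D p, (∀ t ∈ TT D (KK p), (MulAut.conj y * φ) t ∈ TT D (KK p)) →
      ∃ w k, RP hp p w k ∧ φ = MulAut.conj k * (MulAut.conj y * φ) := fun φ hφ y hy => by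
    obtain ⟨m, hm, w, k, hk, e, -⟩ := form0 (hp := hp) hBT (hBI φ hφ) hy
    rw [Mz_eq_one hBT (pure B hBT hB0 hBI) hm, map_one, one_mul] at e
    exact ⟨w, k, hk, e⟩
  have hσ : MulAut.conj (z * (F.L.σ z)⁻¹)⁻¹ * (F.L.conj z).σ = F.m.σ := by
    rw [Lift.conj_σ, conj_form, ← mul_assoc, ← map_mul, inv_mul_cancel, map_one, one_mul, F.hσ]
  obtain ⟨w, k, hk, e⟩ := step _ ((F.L.conj z).σ_mem_GH hS.normal hS.cent H) (z * (F.L.σ z)⁻¹)⁻¹
    fun t ht => by rw [hσ]; exact (F.m.fr.tor t).2 ht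
  rw [hσ] at e
  have hnrm : ∀ φ ∈ (F.L.conj z).GH H, ∀ t, φ t ∈ TT D (KK p) ↔ t ∈ TT D (KK p) := fun φ hφ => by
    obtain ⟨y, hy⟩ := (F.L.conj z).wfr φ ((F.L.conj z).GH_le H hφ)
    obtain ⟨w, k, hk, e⟩ := step φ hφ y fun t ht => (hy.1 t).2 ht
    rw [e]
    exact (wfr_rp hy hk).1
  have hfr : FR hp p (F.L.conj z).σ (F.m.g.trans (repAut M.toCoxeterSystem hp.isCartan w)) := by
    rw [e]
    exact hk.fr.mul F.m.fr
  have hfrob : IsFrob p F.m.e (F.L.conj z).σ := by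
    rw [e]
    exact F.m.frob.conj_mul k
  obtain ⟨w0, h2 | ⟨-, h3⟩⟩ := F.gW
  · exact ⟨z, w * w0, 1, _, F.m.he, hfrob, hfr, fun a => by
      rw [AddEquiv.trans_apply, repAut_apply, h2, Units.val_one, one_smul, rep_mul_apply], hnrm⟩
  · exact ⟨z, w * w0, -1, _, F.m.he, hfrob, hfr, fun a => by
      rw [AddEquiv.trans_apply, repAut_apply, h3, Units.val_neg, Units.val_one, neg_one_smul, rep_mul_apply, map_neg], hnrm⟩

theorem card_fix_conj (L : Lift hp p T) (z : YY D p) : Nat.card (DL.fix (L.conj z).σ) = Nat.card (DL.fix L.σ) :=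
  Nat.card_congr ((MulAut.conj z).toEquiv.subtypeEquiv fun y => by
    rw [DL.mem_fix, DL.mem_fix, Lift.conj_σ, MulAut.mul_apply, MulAut.mul_apply]
    change _ ↔ MulAut.conj z (L.σ ((MulAut.conj z)⁻¹ (MulAut.conj z y))) = MulAut.conj z y
    rw [MulAut.inv_apply_self, EmbeddingLike.apply_eq_iff_eq]).symm

theorem card_rel {Y : Type*} [Group Y] {A B : Subgroup Y} (h : A ≤ B) : Nat.card A * A.relIndex B = Nat.card B := by
  rw [← (A.subgroupOf B).card_mul_index, Nat.card_congr (Subgroup.subgroupOfEquivOfLe h).toEquiv]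
  rfl

/-- a subgroup of the socle which is abelian and normalised by `H` lies in `H` -/
theorem le_of_comm (hT : AS T) (hH : IsCoatom H) {S : Subgroup G} (h1 : S ≤ T) (h2 : H ≤ Subgroup.normalizer (S : Set G))
    (h3 : ∀ a ∈ S, ∀ b ∈ S, a * b = b * a) : S ≤ H := by
  rcases h2.eq_or_lt with h4 | h4
  · exact h4 ▸ Subgroup.le_normalizer
  have := hT.simple
  have h5 : S.Normal := Subgroup.normalizer_eq_top_iff.1 (hH.2 _ h4)
  rcases (h5.subgroupOf T).eq_bot_or_eq_top with h6 | h6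
  · rw [← inf_eq_left.2 h1, disjoint_iff.1 (Subgroup.subgroupOf_eq_bot.1 h6)]
    exact bot_le
  · exact absurd ⟨⟨fun a b => Subtype.ext (h3 _ (Subgroup.subgroupOf_eq_top.1 h6 a.2) _
      (Subgroup.subgroupOf_eq_top.1 h6 b.2))⟩⟩ hT.nonab

namespace TN

variable {L : Lift hp p T} {e : ℕ} {v : M.Group} {ε : ℤˣ} {g : (Fin l → ℤ) ≃+ (Fin l → ℤ)} (h : TN H L e v ε g)
include h

theorem mem_TF {t : YY D p} : t ∈ TF hp p e v ε ↔ t ∈ TT D (KK p) ∧ L.σ t = t := by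
  refine and_congr_right fun ht => ?_
  have h1 : ∀ x, cX hp t (((ε : ℤ) • rp hp v - ((p ^ e : ℕ) : ℤ) • (1 : En l)) x) = 1 ↔
      cX hp (L.σ t) (g x) = cX hp t (g x) := fun x => by
    rw [LinearMap.sub_apply, LinearMap.smul_apply, LinearMap.smul_apply, Module.End.one_apply, ← h.hg, (isMC_cX hp ht).sub,
      div_eq_one_iff_eq ((isMC_cX hp ht).ne_zero _), (isMC_cX hp ht).zsmul, zpow_natCast,
      cX_sigma hp M.toCoxeterSystem h.frob h.fr ht x, eq_comm]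
  exact ⟨fun h2 => cX_ext ((h.fr.tor t).2 ht) ht fun x => (h1 x).1 (h2 x), fun h2 x => (h1 x).2 (by rw [h2])⟩

theorem card_TF (hD : Typ D) : ∃ m : Multiset ℕ, (∀ d ∈ m, 0 < d) ∧ (m.map Nat.totient).sum = l ∧
    Nat.card (TF hp p e v ε) = (m.map (cy (p ^ e))).prod := by
  obtain ⟨m, h1, h2, h3⟩ := exists_cy (card_W_pos hp) (Nat.one_lt_pow h.he.ne' (Fact.out : p.Prime).one_lt)
    (smul_rp_pow (hp := hp) v ε)
  exact ⟨m, h1, h2, (card_Kr hD (det_TF h.he v ε)).trans h3⟩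

/-- **The order of `H ⊓ T`.** -/
theorem exists_S (hT : AS T) (hH : IsCoatom H) {k : ℕ} (hk : Nat.card (DL.fix L.σ) ≤ k * Nat.card T) :
    ∃ (S : Subgroup G) (w z : ℕ), S ≤ H ∧ H ≤ Subgroup.normalizer (S : Set G) ∧ (∀ a ∈ S, ∀ b ∈ S, a * b = b * a) ∧
      Nat.card ↥(H ⊓ T) = Nat.card S * w ∧ w ∣ Nat.card M.Group ∧ z ≤ k ∧ z * Nat.card S = Nat.card (TF hp p e v ε) := by
  have hT' : SB.AS T := ⟨hT.normal, hT.simple, hT.nonab, hT.cent⟩
  have h1 : H ≤ Subgroup.normalizer (pb L (TT D (KK p)) : Set G) :=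
    norm_pb hT.normal (L.inv_iff.2 fun φ hφ a ha => (h.nrm φ hφ a).2 ha)
  have h2 : ∀ a ∈ pb L (TT D (KK p)), ∀ b ∈ pb L (TT D (KK p)), a * b = b * a := fun a ha b hb => by
    obtain ⟨a1, a2⟩ := mem_pb.1 ha
    obtain ⟨b1, b2⟩ := mem_pb.1 hb
    exact congrArg Subtype.val (L.inj (a₁ := ⟨a, a1⟩ * ⟨b, b1⟩) (a₂ := ⟨b, b1⟩ * ⟨a, a1⟩)
      (by rw [map_mul, map_mul, TT_comm hp _ a2 _ b2]))
  have h3 := le_of_comm hT hH (pb_le _) h1 h2
  obtain ⟨θ, ω, O⟩ := exists_om (L := L) (K := H ⊓ T) hT.normal fun c hc => by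
    obtain ⟨w, hw⟩ := rp_of_norm (hp := hp) (h.nrm _ ((indL_iota ⟨c, hc.2⟩).mem_GH hT' hc.1))
    exact ⟨_, w, indL_iota ⟨c, hc.2⟩, hw⟩
  have h4 : ω.ker = (pb L (TT D (KK p))).subgroupOf (H ⊓ T) := Subgroup.ext fun c => by
    have h5 := O.rp c
    have h6 : (c : G) ∈ T := c.2.2
    rw [O.eq_iota hT' c h6] at h5
    rw [MonoidHom.mem_ker, Subgroup.mem_subgroupOf, mem_pb]
    refine ⟨fun e => ⟨h6, ?_⟩, fun ⟨_, e⟩ => h5.unique (RP.of_mem e)⟩
    rw [e] at h5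
    exact h5.mem_T
  have : Finite (DL.fix L.σ) := L.fin
  have h5 : TF hp p e v ε ≤ DL.fix L.σ := fun t ht => (h.mem_TF.1 ht).2
  have h6 := card_rel (show L.ι.range ≤ DL.fix L.σ by rintro _ ⟨x, rfl⟩; exact L.fix x)
  rw [← Nat.card_congr (L.ι.ofInjective L.inj).toEquiv] at h6
  refine ⟨_, Nat.card ω.range, L.ι.range.relIndex (TF hp p e v ε), h3, h1, h2, ?_, Subgroup.card_subgroup_dvd_card _,
    (Subgroup.relIndex_le_of_le_right h5 Subgroup.index_ne_zero_of_finite).trans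
      (Nat.le_of_mul_le_mul_left (h6.le.trans (hk.trans_eq (mul_comm _ _))) Nat.card_pos), ?_⟩
  · rw [← ω.ker.card_mul_index, Subgroup.index_ker, h4,
      Nat.card_congr (Subgroup.subgroupOfEquivOfLe (le_inf h3 (pb_le _))).toEquiv]
  · rw [← card_rel (inf_le_right : L.ι.range ⊓ TF hp p e v ε ≤ _), Subgroup.inf_relIndex_right, mul_comm,
      ← Subgroup.map_comap_eq, Subgroup.card_map_of_injective L.inj, pb, Subgroup.card_map_of_injective T.subtype_injective,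
      show (TF hp p e v ε).comap L.ι = (TT D (KK p)).comap L.ι from
        Subgroup.ext fun x => h.mem_TF.trans (and_iff_left (L.fix x))]

end TN

theorem ncard_le (hT : AS T) {x : G} (hx : x ∈ T) : (clsIn T H x).ncard ≤ Nat.card ↥(H ⊓ T) :=
  Set.ncard_le_ncard (s := clsIn T H x) (t := (H ⊓ T : Subgroup G)) (by
    rintro _ ⟨h4, t, ht, rfl⟩
    exact ⟨h4, hT.normal.conj_mem' _ hx t⟩) (Set.toFinite _)

theorem shape (hp : IsType D l M) {tw : Bool} {f : ℕ} (hD : Typ D) (h : IsoX D tw p f T) : Nat.card M.Group = wY (sh D tw) ∧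
    dM l = zY (sh D tw) ∧ l = lY (sh D tw) ∧ Dat.cX (sh D tw) = cY (sh D tw) := by
  rcases typ_cases hp hD with ⟨rfl, e⟩ | ⟨rfl, e⟩ | ⟨rfl, e⟩ | ⟨rfl, e⟩ <;> cases e <;>
    rcases h.cases hD with ⟨e, -, e'⟩ | ⟨e, -, e'⟩ | ⟨e, -, e'⟩ | ⟨e, -, e'⟩ | ⟨e, -, e'⟩ <;> rw [e'] <;> first
      | exact absurd e (ne_of_rank (by decide))
      | exact ⟨cardW4, rfl, rfl, rfl⟩
      | exact ⟨cardW6, rfl, rfl, rfl⟩
      | exact ⟨cardW7, rfl, rfl, rfl⟩
      | exact ⟨cardW8, rfl, rfl, rfl⟩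

theorem sieve₁ : Sv.sieve 214841575522005575270400 2 2 0 23328 23328 = true := by decide +kernel

theorem sieve₂ : Sv.sieve 214841575522005575270400 2 2 0 303264 303264 = true := by decide +kernel

end Tor

open Tor Cfsg.Agent.TH.Ex.Si Cfsg.Agent.TH.Ab.Dat in
/-- **The normaliser of a maximal torus.** -/
theorem boxTor : BoxTor := by
  intro D l M hp tw p hpp G _ _ T H E m f r C F A₀ h0 hA hT hN
  have hS := C.ctx.as
  have hH := C.ctx.half
  obtain ⟨y, v, ε, g, h⟩ := exists_TN hS F h0 hA hT hN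
  obtain ⟨S, w, z, a1, a2, a3, a4, a5, a6, a7⟩ := h.exists_S hS hH.max ((card_fix_conj F.L y).trans_le F.idx)
  obtain ⟨μ, b1, b2, b3⟩ := h.card_TF C.typ
  obtain ⟨e1, e2, e3, e4⟩ := shape hp C.typ C.iso
  have n := C.nec
  have n1 := Sv.card_div_eq hS hH
  have n2 := C.small
  rw [e4] at n n2
  have c : Cond (sh D tw) p f (Nat.card T) (Nat.card S) w z (Nat.card H / m) μ := by
    refine ⟨C.dat.real, e1 ▸ a5, e2 ▸ a6, by rw [a7, b3, F.m.hq], b1, e3 ▸ b2, a4 ▸ n.a_dvd, ?_, a4 ▸ n.d_dvd', ?_,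
      fun s hs h1 => ?_, a4 ▸ n2, a4 ▸ n.sigA, ?_, ?_⟩
    · rw [← a4, n1]
      exact C.ctx.toLieCtx.dvd_index
    · rw [← a4, n1]
      exact Sv.two_le_index hH
    · have := Fact.mk hs
      obtain ⟨x, hx⟩ := exists_prime_orderOf_dvd_card' s h1
      rw [← hx, ← Subgroup.orderOf_coe]
      exact hH.orderOf_dvd_d a1 a2 a3 x.2
    · rw [← a4]
      intro h1
      obtain ⟨ν, h2, h3⟩ := n.sylA
      have h4 := h3 p hpp.out h1 C.ctx.toLieCtx.not_dvd_d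
      rw [cS, if_pos rfl, e4] at h4
      exact h4.trans (Nat.mul_le_mul (Nat.le_of_dvd (Nat.ordCompl_pos p Nat.card_pos.ne') (h2 p hpp.out).1) (min_le_right _ _))
    · rw [← a4]
      intro s hs h1 h2 h3
      have := Fact.mk hs
      obtain ⟨x, hx⟩ := exists_prime_orderOf_dvd_card' s h1
      have h4 := Sv.boxEl G T H (H ⊓ T) (H ⊓ T) m s 1 x hS hH hs h2 inf_le_left
        (fun a ha y hy => ⟨H.mul_mem (H.mul_mem ha hy.1) (H.inv_mem ha), hS.normal.conj_mem _ hy.2 a⟩) le_rfl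
        (fun a ha y hy => mul_mem (mul_mem ha hy) (inv_mem ha)) x.2 (by rw [Subgroup.orderOf_coe, hx, pow_one])
      have h5 : orderOf (⟨x, x.2.2⟩ : T) = s := by rw [← Subgroup.orderOf_coe, Subgroup.orderOf_coe x, hx]
      have h6 := (C.dat.cent _ (h5 ▸ hs) (h5 ▸ h3)).trans (bS_le _ _ _)
      rw [show Subgroup.centralizer {(⟨x, x.2.2⟩ : T)} = (Subgroup.centralizer {(x : G)}).subgroupOf T from
        Subgroup.ext fun u => by
          rw [Subgroup.mem_subgroupOf, Subgroup.mem_centralizer_singleton_iff, Subgroup.mem_centralizer_singleton_iff,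
            Subtype.ext_iff]
          rfl] at h6
      rw [← ((Subgroup.centralizer {(x : G)}).subgroupOf T).card_mul_index, mul_assoc]
      exact Nat.mul_le_mul h6 (h4.trans (Nat.mul_le_mul (min_le_left _ _) (ncard_le hS x.2.2)))
  obtain ⟨c1, c2, c3⟩ := c.left C.dat.mem
  obtain ⟨rfl, rfl⟩ := Nat.prime_two.pow_eq_iff.1 c2
  have d1 := C.card_T
  have d2 := C.index_dvd
  rw [c1] at d1 d2
  rw [← a4] at c3
  rcases c3 with c3 | c3
  · exact Sv.false_of_sieve Sv.boxNec hS hH sieve₁ (d1.trans (by decide +kernel)) C.ctx.toLieCtx.dvd_index d2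
      (fun _ _ => Nat.zero_le _) c3.dvd c3.symm.dvd
  · exact Sv.false_of_sieve Sv.boxNec hS hH sieve₂ (d1.trans (by decide +kernel)) C.ctx.toLieCtx.dvd_index d2
      (fun _ _ => Nat.zero_le _) c3.dvd c3.symm.dvd

end Cfsg.Agent.TH.Ab
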