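import Cfsg.Agent.TH.Ex.Ab.Defs
import Cfsg.Agent.SB.Exc.Max.Shape

/-!
# S3541, `BoxComp`: the group generated by the rational unipotent elements, torus elements (helper37)

`Cx D e` : the hypotheses; `LL D` : the group; `nm` : norms along an orbit of orthogonal roots; `exists_m`, `m_unique` :
the monomial element of a root element; `Cx.tor` : torus elements in `LL D`.
-/

set_option autoImplicit false
set_option linter.unusedSectionVars false
set_option linter.unusedVariables false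

namespace Cfsg.Agent.TH.Ab.Cmp

open CoxeterSystem Cfsg.Agent.ChevalleyStructure.CoxeterGeom Cfsg.Agent.Tits.Roots Cfsg.Agent.Nodes.Reps
  Cfsg.Agent.Nodes.BNOf Cfsg.Agent.Nodes.Bruhat Cfsg.Agent.LangThm Cfsg.Agent.Nodes.SubComb
  Cfsg.Agent.Nodes.Coroot Cfsg.Agent.Nodes.Slope Cfsg.Agent.Nodes.NormalForm Cfsg.Agent.DL.Base Cfsg.Agent.DL
  Cfsg.Agent.BpExc.Zc Cfsg.Agent.SB.Exc.Max
open scoped Pointwise commutatorElement

section Norm

variable {Y : Type*} [Group Y] (F : MulAut Y)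

/-- the product `y · F y ⋯ F ^ (j - 1) y` -/
def nm (y : Y) : ℕ → Y
  | 0 => 1
  | j + 1 => nm y j * (F ^ j) y

theorem nm_zero (y : Y) : nm F y 0 = 1 := rfl

theorem nm_succ (y : Y) (j : ℕ) : nm F y (j + 1) = nm F y j * (F ^ j) y := rfl

theorem nm_one (y : Y) : nm F y 1 = y := by rw [nm_succ, nm_zero, one_mul, pow_zero, MulAut.one_apply]

theorem nm_two (y : Y) : nm F y 2 = y * F y := by rw [nm_succ, nm_one, pow_one]

theorem nm_succ' (y : Y) (j : ℕ) : nm F y (j + 1) = y * F (nm F y j) := by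
  induction j with
  | zero => rw [nm_one, nm_zero, map_one, mul_one]
  | succ j ih =>
    rw [nm_succ F y (j + 1)]
    conv_lhs => rw [ih]
    rw [nm_succ F y j, map_mul, mul_assoc, pow_succ', MulAut.mul_apply]

variable {F}

theorem pow_fix {t : Y} (ht : F t = t) (j : ℕ) : (F ^ j) t = t := by
  induction j with
  | zero => rfl
  | succ j ih => rw [pow_succ, MulAut.mul_apply, ht, ih]

theorem nm_conj {t : Y} (ht : F t = t) (y : Y) (j : ℕ) : nm F (t * y * t⁻¹) j = t * nm F y j * t⁻¹ := by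
  induction j with
  | zero => simp [nm_zero]
  | succ j ih =>
    rw [nm_succ, nm_succ, ih, map_mul, map_mul, map_inv, pow_fix ht]
    group

theorem nm_mem {K : Subgroup Y} (hK : ∀ y ∈ K, F y ∈ K) {y : Y} (hy : y ∈ K) (j : ℕ) : nm F y j ∈ K := by
  induction j with
  | zero => exact one_mem _
  | succ j ih =>
    rw [nm_succ']
    exact mul_mem hy (hK _ ih)

variable {H : Subgroup Y} {m : ℕ} (hc : ∀ i, 0 < i → i < m → ∀ y ∈ H, ∀ y' ∈ H, Commute y ((F ^ i) y'))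
include hc

theorem nm_comm {y y' : Y} (hy : y ∈ H) (hy' : y' ∈ H) {j l : ℕ} (h : j ≤ l) (hl : l < m) :
    Commute (nm F y j) ((F ^ l) y') := by
  induction j with
  | zero => exact Commute.one_left _
  | succ j ih =>
    rw [nm_succ]
    refine (ih (by omega)).mul_left ?_
    obtain ⟨d, rfl⟩ : ∃ d, l = j + (d + 1) := ⟨l - j - 1, by omega⟩
    rw [pow_add, MulAut.mul_apply]
    exact (hc (d + 1) d.succ_pos (by omega) y hy y' hy').map _

theorem nm_mul {y y' : Y} (hy : y ∈ H) (hy' : y' ∈ H) {j : ℕ} (hj : j ≤ m) :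
    nm F (y * y') j = nm F y j * nm F y' j := by
  induction j with
  | zero => simp [nm_zero]
  | succ j ih =>
    rw [nm_succ, nm_succ, nm_succ, ih (by omega), map_mul, mul_assoc, mul_assoc, ← mul_assoc (nm F y' j),
      (nm_comm hc hy' hy le_rfl (by omega)).eq, mul_assoc]

/-- the norm as a homomorphism -/
def nmHom : H →* Y := MonoidHom.mk' (fun y => nm F y m) fun y y' => nm_mul hc y.2 y'.2 le_rfl

theorem nm_inv {y : Y} (hy : y ∈ H) : nm F y⁻¹ m = (nm F y m)⁻¹ := (nmHom hc).map_inv ⟨y, hy⟩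

theorem nm_pow {y : Y} (hy : y ∈ H) (n : ℕ) : nm F (y ^ n) m = nm F y m ^ n := (nmHom hc).map_pow ⟨y, hy⟩ n

theorem nm_unit : nm F 1 m = 1 := (nmHom hc).map_one

theorem nm_fix {y : Y} (hy : y ∈ H) (hF : (F ^ m) y = y) : F (nm F y m) = nm F y m := by
  have h1 := (nm_succ F y m).symm.trans (nm_succ' F y m)
  rw [hF] at h1
  have h2 : ∀ j, j ≤ m → Commute (nm F y j) y := fun j hj => by
    induction j with
    | zero => exact Commute.one_left _
    | succ j ih =>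
      rw [nm_succ]
      refine (ih (by omega)).mul_left ?_
      rcases Nat.eq_zero_or_pos j with rfl | h0
      · exact Commute.refl _
      · exact (hc j h0 (by omega) y hy y hy).symm
  rw [(h2 m le_rfl).eq] at h1
  exact (mul_left_cancel h1).symm

end Norm

variable {p : ℕ} [Fact p.Prime] {k : Type} [Field k] [CharP k p] {Y : Type} [Group Y] {N : Type} [Fintype N]
  [DecidableEq N] {ρ : Y →* GL N k} {F : MulAut Y} {G : Subgroup Y} [IsAlgClosed k] {D : Datum p ρ F G}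

/-! ### monomial elements -/

theorem eq_of_XNX {c : D.I → ℤ} (hc : D.Rt c) {a b a' b' m m' : Y} (ha : a ∈ D.X c) (hb : b ∈ D.X c) (ha' : a' ∈ D.X c)
    (hb' : b' ∈ D.X c) (hm : m ∈ D.NN) (hm' : m' ∈ D.NN) (e : a * m * b = a' * m' * b') : m = m' := by
  obtain ⟨w, i, rfl⟩ := hc
  obtain ⟨r, hr, -⟩ := D.exists_rp w⁻¹
  have key : ∀ a ∈ D.X (D.act w (sr i)), r * a * r⁻¹ ∈ D.U := fun a ha => by
    have := D.conj_mem hr ((isRoot_sr _ _ i).act w) ha
    rw [act_inv_act] at this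
    exact D.sbn.X_le i this
  obtain ⟨v, hv⟩ := hm
  obtain ⟨v', hv'⟩ := hm'
  have h1 := (D.eq_of_mem_UNU (key a ha) (key a' ha') ((hr.mul hv).mul hr.inv) ((hr.mul hv').mul hr.inv) (key b hb)
    (key b' hb') (by
      calc _ = r * (a * m * b) * r⁻¹ := by group
        _ = _ := by rw [e]; group)).2
  exact mul_left_cancel (mul_right_cancel h1)

theorem exists_m {b : D.I → ℤ} (hb : D.Rt b) {u : Y} (hu : u ∈ D.X b) (h1 : u ≠ 1) :
    ∃ v ∈ D.X (-b), ∃ v' ∈ D.X (-b), D.Rp (D.rf b) (v * u * v') := by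
  obtain ⟨w, i, e⟩ := hb.neg
  obtain ⟨r, hr, -⟩ := D.exists_rp w
  have hi := isRoot_sr D.cs D.h i
  have h2 : r⁻¹ * u * r ∈ D.X (-sr i) := by
    have := D.conj_mem hr.inv hb hu
    rwa [inv_inv, ← neg_neg b, e, act_neg, act_inv_act] at this
  obtain ⟨s, hs⟩ := (D.mem_X _ hi.neg _).1 h2
  have hs0 : s ≠ 0 := fun h => h1 (by
    rw [h, D.x_zero hi.neg] at hs
    calc u = r * (r⁻¹ * u * r) * r⁻¹ := by group
      _ = 1 := by rw [← hs]; group)
  obtain ⟨c₁, c₂, -, -, t₀, ht₀, h3⟩ := D.rank_one i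
  have h4 := h3 (Units.mk0 s hs0)
  rw [Units.val_mk0, hs] at h4
  generalize c₁ * _ = s₁ at h4
  generalize c₂ * _ = s₂ at h4
  have h5 : D.Rp (1 * D.cs.simple i) (D.τ (coch (D.cw i) (Units.mk0 s hs0)⁻¹) * t₀ * D.n i) :=
    (rp_of_mem (mul_mem (D.τ_mem _) ht₀)).mul (rp_simple _ _ i)
  generalize D.τ (coch (D.cw i) (Units.mk0 s hs0)⁻¹) * t₀ = t at h4 h5
  refine ⟨r * (D.x (sr i) s₁)⁻¹ * r⁻¹, e ▸ D.conj_mem hr hi (inv_mem (D.x_mem hi _)), r * (D.x (sr i) s₂)⁻¹ * r⁻¹,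
    e ▸ D.conj_mem hr hi (inv_mem (D.x_mem hi _)), ?_⟩
  have h6 := (hr.mul h5).mul hr.inv
  rw [one_mul, ← D.rf_act, show D.act w (sr i) = -b from e.symm, D.rf_neg hb] at h6
  convert h6 using 1
  calc _ = r * ((D.x (sr i) s₁)⁻¹ * (r⁻¹ * u * r) * (D.x (sr i) s₂)⁻¹) * r⁻¹ := by group
    _ = _ := by rw [h4]; group

theorem ne_neg_self {b : D.I → ℤ} (hb : D.Rt b) : -b ≠ b := fun h => by
  have h1 := cpr_self D.cs D.h hb
  have h2 := cpr_neg' D.cs D.h b b
  rw [h, h1] at h2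
  omega

theorem m_unique {b : D.I → ℤ} (hb : D.Rt b) {u v v' z z' : Y} (hv : v ∈ D.X (-b)) (hv' : v' ∈ D.X (-b))
    (hz : z ∈ D.X (-b)) (hz' : z' ∈ D.X (-b)) (h : D.Rp (D.rf b) (v * u * v')) (h' : z * u * z' ∈ D.NN) :
    z = v ∧ z' = v' := by
  have h1 : v * u * v' = z * u * z' :=
    eq_of_XNX hb.neg (inv_mem hv) (inv_mem hv') (inv_mem hz) (inv_mem hz') ⟨_, h⟩ h' (by group)
  have h2 := D.conj_mem h hb.neg (mul_mem (inv_mem hz') hv')
  rw [act_neg, D.act_rf_self hb, neg_neg] at h2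
  have h3 : v * u * v' * (z'⁻¹ * v') * (v * u * v')⁻¹ = z * v⁻¹ := by
    calc _ = (v * u * v') * z'⁻¹ * u⁻¹ * v⁻¹ := by group
      _ = _ := by rw [h1]; group
  rw [h3] at h2
  have h4 := D.eq_one_of_mem_X_X hb.neg hb (ne_neg_self hb) (mul_mem hz (inv_mem hv)) h2
  have h5 : z = v := mul_inv_eq_one.1 h4
  rw [h5] at h1
  exact ⟨h5, (mul_left_cancel h1).symm⟩

/-! ### the group -/

variable (D) in
/-- the group generated by the rational unipotent elements -/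
def LL : Subgroup Y := PE p F (D.S {a | D.Rt a})

theorem mem_LL {y : Y} (hy : y ∈ D.S {a | D.Rt a}) (hF : F y = y) {j : ℕ} (hj : y ^ p ^ j = 1) : y ∈ LL D :=
  Subgroup.subset_closure ⟨hy, hF, j, hj⟩

theorem LL_le : LL D ≤ D.S {a | D.Rt a} ⊓ DL.fix F := (Subgroup.closure_le _).2 fun _ h => ⟨h.1, h.2.1⟩

theorem LL_fix {y : Y} (hy : y ∈ LL D) : F y = y := (LL_le hy).2

theorem LL_le_G : LL D ≤ G := fun _ hy => D.S_le_G (fun _ h => h) (LL_le hy).1

theorem LL_le_GF : LL D ≤ GF F G := fun _ hy => ⟨LL_le_G hy, LL_fix hy⟩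

theorem finite_LL : Finite (LL D) :=
  have := D.amb.finite_GF G
  Finite.of_injective _ (Subgroup.inclusion_injective (LL_le_GF (D := D)))

theorem X_le_roots {a : D.I → ℤ} (ha : D.Rt a) : D.X a ≤ D.S {a | D.Rt a} := RGD.le_Sup (X := D.X) ha

theorem mem_LL_X {a : D.I → ℤ} (ha : D.Rt a) {y : Y} (hy : y ∈ D.X a) (hF : F y = y) : y ∈ LL D :=
  mem_LL (X_le_roots ha hy) hF (j := 1) (by rw [pow_one]; exact X_pow_p ha hy)

theorem mem_LL_pos {A : Set (D.I → ℤ)} (hA : ∀ a ∈ A, D.Rt a) (lam : (D.I → ℤ) →+ ℤ) (hl : ∀ a ∈ A, 0 < lam a) {y : Y}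
    (hy : y ∈ D.S A) (hF : F y = y) : y ∈ LL D := by
  obtain ⟨j, hj⟩ := pel_of_pos hA lam hl hy
  exact mem_LL (RGD.Sup_mono hA hy) hF hj

theorem mem_LL_U {y : Y} (hy : y ∈ D.U) (hF : F y = y) : y ∈ LL D :=
  mem_LL_pos (fun _ h => h.1) htHom D.ht_pos_of_pos hy hF

variable (D) in
/-- the commutator subgroup -/
def RR : Subgroup Y := ⁅LL D, LL D⁆

theorem comm_mem {x y : Y} (hx : x ∈ LL D) (hy : y ∈ LL D) : ⁅x, y⁆ ∈ RR D := Subgroup.commutator_mem_commutator hx hy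

theorem RR_le : RR D ≤ LL D := Subgroup.commutator_le.2 fun _ hx _ hy =>
  mul_mem (mul_mem (mul_mem hx hy) (inv_mem hx)) (inv_mem hy)

theorem conj_RR {x y : Y} (hx : x ∈ LL D) (hy : y ∈ RR D) : x * y * x⁻¹ ∈ RR D := by
  have := mul_mem (comm_mem hx (RR_le hy)) hy
  rwa [commutatorElement_def, inv_mul_cancel_right] at this

variable (D) in
/-- the hypotheses -/
structure Cx (e : ℕ) : Prop where
  qs : D.QS
  he : 0 < e
  ex : ∀ a, D.Rt a → D.ex a = e
  cz : CommZ D.cs D.h D.X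
  le2 : ∀ a b, D.Rt a → D.Rt b → cpr D.cs D.h a b ≤ 2

variable (D) in
/-- the length of the orbit -/
noncomputable abbrev per (b : D.I → ℤ) : ℕ := Function.minimalPeriod D.g b

variable (D) in
/-- the orbit consists of orthogonal roots -/
def Ort (b : D.I → ℤ) : Prop := ∀ i, D.g^[i] b ≠ b → cpr D.cs D.h (D.g^[i] b) b = 0

theorem per_pos {b : D.I → ℤ} (hb : D.Rt b) : 0 < per D b :=
  Function.minimalPeriod_pos_of_mem_periodicPts (periodic hb)

theorem iter_per (b : D.I → ℤ) : D.g^[per D b] b = b := Function.iterate_minimalPeriod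

theorem iter_ne {b : D.I → ℤ} {i : ℕ} (h0 : 0 < i) (hi : i < per D b) : D.g^[i] b ≠ b :=
  Function.not_isPeriodicPt_of_pos_of_lt_minimalPeriod h0.ne' hi

theorem per_eq_one {b : D.I → ℤ} (h : D.g b = b) : per D b = 1 := Function.minimalPeriod_eq_one_iff_isFixedPt.2 h

theorem per_eq_two {b : D.I → ℤ} (h : D.g (D.g b) = b) (h' : D.g b ≠ b) : per D b = 2 :=
  Function.minimalPeriod_eq_prime (p := 2) h h'

theorem iter_neg {b : D.I → ℤ} (hb : D.Rt b) (i : ℕ) : D.g^[i] (-b) = -D.g^[i] b := by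
  induction i with
  | zero => rfl
  | succ i ih => rw [Function.iterate_succ_apply', ih, D.g_neg (D.iterate_g_root i hb), Function.iterate_succ_apply']

theorem F_pow_mem_X {b : D.I → ℤ} (hb : D.Rt b) (i : ℕ) {y : Y} (hy : y ∈ D.X b) : (F ^ i) y ∈ D.X (D.g^[i] b) := by
  induction i with
  | zero => exact hy
  | succ i ih =>
    rw [pow_succ', MulAut.mul_apply, Function.iterate_succ_apply']
    exact D.F_mem_X (D.iterate_g_root i hb) ih

theorem ort_of_fix {b : D.I → ℤ} (h : D.g b = b) : Ort D b := fun i hi => (hi (Function.iterate_fixed h i)).elim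

theorem ort_of_two {b : D.I → ℤ} (h : D.g (D.g b) = b) (h' : cpr D.cs D.h (D.g b) b = 0) : Ort D b := fun i => by
  have : D.g^[i] b = b ∨ D.g^[i] b = D.g b := by
    induction i with
    | zero => exact Or.inl rfl
    | succ i ih =>
      rw [Function.iterate_succ_apply']
      rcases ih with e | e <;> rw [e]
      exacts [Or.inr rfl, Or.inl h]
  rcases this with e | e <;> rw [e]
  exacts [fun h => (h rfl).elim, fun _ => h']

namespace Cx

variable {e : ℕ} (H : Cx D e)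
include H

theorem ge2 {a b : D.I → ℤ} (ha : D.Rt a) (hb : D.Rt b) : -2 ≤ cpr D.cs D.h a b := by
  have := H.le2 _ b ha.neg hb
  rw [cpr_neg'] at this
  omega

theorem ht_iter {a : D.I → ℤ} (ha : D.Rt a) (i : ℕ) : htHom (D.g^[i] a) = htHom a := by
  induction i with
  | zero => rfl
  | succ i ih => rw [Function.iterate_succ_apply', ht_g H.ex H.qs (D.iterate_g_root i ha), ih]

theorem cpr_iter {a b : D.I → ℤ} (ha : D.Rt a) (hb : D.Rt b) (i : ℕ) :
    cpr D.cs D.h (D.g^[i] a) (D.g^[i] b) = cpr D.cs D.h a b := by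
  induction i with
  | zero => rfl
  | succ i ih => rw [Function.iterate_succ_apply', Function.iterate_succ_apply',
      cpr_g H.ex (D.iterate_g_root i ha) (D.iterate_g_root i hb), ih]

theorem cm_of_zb {a b : D.I → ℤ} (ha : D.Rt a) (hb : D.Rt b) (h1 : a ≠ -b) (h : ∀ c, ¬ ZB D.cs D.h a b c) : Cm D a b :=
  fun u hu v hv => by
    by_cases e : a = b
    · exact x_comm ha hu (e ▸ hv)
    · exact commutatorElement_eq_one_iff_mul_comm.1 (Subgroup.mem_bot.1
        (RGD.Sup_le (K := ⊥) (fun c hc => (h c hc).elim) (H.cz a b ha hb e h1 u hu v hv)))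

/-- roots with positive inner product -/
theorem cm_of_pos {a b : D.I → ℤ} (ha : D.Rt a) (hb : D.Rt b) (h : 0 < cpr D.cs D.h b a) : Cm D a b := by
  refine H.cm_of_zb ha hb (fun e => ?_) ?_
  · rw [e, cpr_neg_right _ _ _ hb, cpr_self _ _ hb] at h
    omega
  · rintro c ⟨hc, i, j, hi, hj, rfl⟩
    have := H.le2 _ a hc ha
    rw [cpr_add', cpr_smul', cpr_smul', cpr_self _ _ ha] at this
    nlinarith

/-- strongly orthogonal roots -/
theorem cm_of_orth {a b : D.I → ℤ} (ha : D.Rt a) (hb : D.Rt b) (h : cpr D.cs D.h a b = 0) (h' : ¬ D.Rt (a + b)) :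
    Cm D a b := by
  refine H.cm_of_zb ha hb (fun e => ?_) ?_
  · rw [e, cpr_neg', cpr_self _ _ hb] at h
    omega
  · rintro c ⟨hc, i, j, hi, hj, rfl⟩
    have h1 := H.le2 _ a hc ha
    have h2 := H.le2 _ b hc hb
    rw [cpr_add', cpr_smul', cpr_smul', cpr_self _ _ ha, (cpr_zero_comm _ _ ha hb).1 h] at h1
    rw [cpr_add', cpr_smul', cpr_smul', cpr_self _ _ hb, h] at h2
    rw [show i = 1 by omega, show j = 1 by omega, one_smul, one_smul] at hc
    exact h' hc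

omit H in
theorem not_sub {a b : D.I → ℤ} (h : htHom a = htHom b) : ¬ D.Rt (a - b) := fun h1 =>
  ht_ne_zero h1 (by rw [map_sub, h, sub_self])

omit H in
theorem not_add {a b : D.I → ℤ} (hb : D.Rt b) (h0 : cpr D.cs D.h a b = 0) (h : htHom a = htHom b) : ¬ D.Rt (a + b) :=
  fun h1 => by
    have := isRoot_refl D.cs D.h h1 hb
    rw [cpr_add', h0, cpr_self _ _ hb, zero_add, two_smul, show a + b - (b + b) = a - b by abel] at this
    exact not_sub h this

/-- orthogonal roots of the same height -/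
theorem comm_pm {a b : D.I → ℤ} (ha : D.Rt a) (hb : D.Rt b) (h0 : cpr D.cs D.h a b = 0) (h : htHom a = htHom b) {u v : Y}
    (hu : u ∈ D.S {a, -a}) (hv : v ∈ D.S {b, -b}) : u * v = v * u := by
  refine comm_S_S ?_ hu hv
  have h1 := not_add hb h0 h
  have h2 : ¬ D.Rt (a - b) := not_sub h
  rintro a' (rfl | rfl) b' (rfl | rfl)
  · exact H.cm_of_orth ha hb h0 h1
  · exact H.cm_of_orth ha hb.neg (by rw [cpr_neg_right _ _ _ hb, h0, neg_zero]) (by rwa [← sub_eq_add_neg])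
  · exact H.cm_of_orth ha.neg hb (by rw [cpr_neg', h0, neg_zero]) fun h3 => h2 (by
      have := h3.neg
      rwa [neg_add, neg_neg, ← sub_eq_add_neg] at this)
  · exact H.cm_of_orth ha.neg hb.neg (by rw [cpr_neg_right _ _ _ hb, cpr_neg', h0, neg_zero, neg_zero]) fun h3 => h1 (by
      have := h3.neg
      rwa [neg_add, neg_neg, neg_neg] at this)

theorem hc {b : D.I → ℤ} (hb : D.Rt b) (ho : Ort D b) : ∀ i, 0 < i → i < per D b → ∀ y ∈ D.S {b, -b}, ∀ y' ∈ D.S {b, -b},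
    Commute y ((F ^ i) y') := fun i h0 hi y hy y' hy' => by
  refine (H.comm_pm (D.iterate_g_root i hb) hb (ho i (iter_ne h0 hi)) (H.ht_iter hb i) ?_ hy).symm
  refine (RGD.Sup_le ?_ : D.S {b, -b} ≤ (D.S _).comap (F ^ i).toMonoidHom) hy'
  rintro a (rfl | rfl) z hz
  · exact RGD.le_Sup (X := D.X) (Or.inl rfl) (F_pow_mem_X hb i hz)
  · exact RGD.le_Sup (X := D.X) (Or.inr (iter_neg hb i)) (F_pow_mem_X hb.neg i hz)

theorem nm_mem_LL {b a : D.I → ℤ} (hb : D.Rt b) (ho : Ort D b) (ha : a ∈ ({b, -b} : Set (D.I → ℤ))) {y : Y}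
    (hy : y ∈ D.X a) (hF : (F ^ per D b) y = y) : nm F y (per D b) ∈ LL D := by
  have hr : D.Rt a := by
    rcases ha with rfl | rfl
    exacts [hb, hb.neg]
  have h1 : y ∈ D.S {b, -b} := RGD.le_Sup (X := D.X) ha hy
  refine mem_LL (nm_mem (fun z hz => D.F_mem_S (fun _ h => h) (fun a ha => D.g_root a ha) hz) (X_le_roots hr hy) _)
    (nm_fix (H.hc hb ho) h1 hF) (j := 1) ?_
  rw [pow_one, ← nm_pow (H.hc hb ho) h1, X_pow_p hr hy, nm_unit (H.hc hb ho)]

theorem F_per {b : D.I → ℤ} (hb : D.Rt b) : ∃ C : k, C ≠ 0 ∧ ∀ u, (F ^ per D b) (D.x b u) = D.x b (C * u ^ p ^ (e * per D b)) := by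
  obtain ⟨C, hC, h⟩ := D.F_pow_x (per D b) hb
  refine ⟨C, hC, fun u => ?_⟩
  rw [h, iter_per, Finset.sum_congr rfl fun i _ => H.ex _ (D.iterate_g_root i hb), Finset.sum_const, Finset.card_range,
    smul_eq_mul, mul_comm (per D b)]

theorem χ_pow {a : D.I → ℤ} (ha : D.Rt a) {t : Y} (ht : t ∈ D.T) (i : ℕ) :
    D.χ (D.g^[i] a) ((F ^ i) t) = D.χ a t ^ (p ^ e) ^ i := by
  induction i with
  | zero => simp
  | succ i ih =>
    rw [Function.iterate_succ_apply', pow_succ', MulAut.mul_apply, D.χ_F (D.iterate_g_root i ha)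
      (pow_mem_of_maps (H := (D.T : Set Y)) (fun _ => D.F_mem_T) i ht), ih, H.ex _ (D.iterate_g_root i ha), ← pow_mul,
      ← pow_succ]

/-- the norm of the monomial element -/
theorem nm_m {b : D.I → ℤ} (hb : D.Rt b) (ho : Ort D b) {u v v' : Y} (hu : u ∈ D.X b) (hv : v ∈ D.X (-b))
    (hv' : v' ∈ D.X (-b)) (h : D.Rp (D.rf b) (v * u * v')) (hF : (F ^ per D b) u = u) :
    nm F (v * u * v') (per D b) ∈ LL D := by
  have key : ∀ z ∈ D.X (-b), (F ^ per D b) z ∈ D.X (-b) := fun z hz => by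
    have := F_pow_mem_X hb.neg (per D b) hz
    rwa [iter_neg hb, iter_per] at this
  obtain ⟨h1, h2⟩ := m_unique hb hv hv' (key v hv) (key v' hv') h (by
    have := pow_mem_of_maps (H := (D.NN : Set Y)) (fun _ => D.F_mem_NN) (per D b) (⟨_, h⟩ : v * u * v' ∈ D.NN)
    rwa [map_mul, map_mul, hF] at this)
  have m1 : u ∈ D.S {b, -b} := RGD.le_Sup (X := D.X) (Or.inl rfl) hu
  have m2 : v ∈ D.S {b, -b} := RGD.le_Sup (X := D.X) (Or.inr rfl) hv
  have m3 : v' ∈ D.S {b, -b} := RGD.le_Sup (X := D.X) (Or.inr rfl) hv'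
  rw [nm_mul (H.hc hb ho) (mul_mem m2 m1) m3 le_rfl, nm_mul (H.hc hb ho) m2 m1 le_rfl]
  exact mul_mem (mul_mem (H.nm_mem_LL hb ho (Or.inr rfl) hv h1) (H.nm_mem_LL hb ho (Or.inl rfl) hu hF))
    (H.nm_mem_LL hb ho (Or.inr rfl) hv' h2)

/-- **Torus elements.** -/
theorem tor {b : D.I → ℤ} (hb : D.Rt b) (ho : Ort D b) {l : k} (hl : l ≠ 0) (h : l ^ p ^ (e * per D b) = l) :
    ∃ t ∈ D.T, t ∈ LL D ∧ ∀ a, D.Rt a →
      D.χ a t = ∏ i ∈ Finset.range (per D b), (l ^ cpr D.cs D.h a (D.g^[i] b)) ^ (p ^ e) ^ i := by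
  obtain ⟨C, hC, hF⟩ := H.F_per hb
  obtain ⟨s, hs, hs0⟩ := exists_sol_ne (p := p) hC (Nat.mul_pos H.he (per_pos hb))
  obtain ⟨v, hv, v', hv', hm⟩ := exists_m hb (D.x_mem hb s) fun h => hs0 ((D.x_eq_one_iff hb).1 h)
  obtain ⟨τ, hτ, hχ⟩ := D.χ_surj hb hl
  have cX : ∀ z ∈ D.X (-b), τ * z * τ⁻¹ ∈ D.X (-b) := fun z hz => by
    have := D.conj_mem (rp_of_mem hτ) hb.neg hz
    rwa [act_one] at this
  have hm' : D.Rp (D.rf b) (τ * v * τ⁻¹ * D.x b (l * s) * (τ * v' * τ⁻¹)) := by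
    have := ((rp_of_mem hτ).mul hm).mul (rp_of_mem (inv_mem hτ))
    rw [one_mul, mul_one] at this
    convert this using 1
    rw [← hχ, ← D.tor' hb hτ]
    group
  have h1 := H.nm_m hb ho (D.x_mem hb s) hv hv' hm (by rw [hF, hs])
  have h2 := H.nm_m hb ho (D.x_mem hb _) (cX v hv) (cX v' hv') hm' (by rw [hF, mul_pow, h, mul_left_comm, hs])
  have m1 : ∀ s, D.x b s ∈ D.S {b, -b} := fun s => RGD.le_Sup (X := D.X) (Or.inl rfl) (D.x_mem hb s)
  have m2 : D.X (-b) ≤ D.S {b, -b} := RGD.le_Sup (X := D.X) (Or.inr rfl)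
  have m3 := mul_mem (mul_mem (m2 hv) (m1 s)) (m2 hv')
  have m4 := mul_mem (mul_mem (m2 (cX v hv)) (m1 (l * s))) (m2 (cX v' hv'))
  have h3 := mul_mem h2 (inv_mem h1)
  rw [← nm_inv (H.hc hb ho) m3, ← nm_mul (H.hc hb ho) m4 (inv_mem m3) le_rfl] at h3
  have e1 : τ * v * τ⁻¹ * D.x b (l * s) * (τ * v' * τ⁻¹) * (v * D.x b s * v')⁻¹ =
      τ * ((v * D.x b s * v') * τ⁻¹ * (v * D.x b s * v')⁻¹) := by
    rw [← hχ, ← D.tor' hb hτ]
    group
  rw [e1] at h3
  generalize v * D.x b s * v' = m at hm h3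
  have h4 : m * τ⁻¹ * m⁻¹ ∈ D.T := D.conj_mem_T ⟨_, hm⟩ (inv_mem hτ)
  have h5 : ∀ a, D.Rt a → D.χ a (τ * (m * τ⁻¹ * m⁻¹)) = l ^ cpr D.cs D.h a b := fun a ha => by
    have h6 := D.χ_rp hm (D.act (D.rf b) a) (inv_mem hτ)
    rw [← act_mul, D.rf_mul_self hb, act_one] at h6
    rw [D.χ_mul a hτ h4, h6, D.χ_inv _ hτ, ← D.χ_neg, ← D.χ_add, D.act_rf hb, neg_sub, add_sub_cancel, D.χ_zsmul, hχ]
  have h6 := mul_mem hτ h4
  generalize τ * (m * τ⁻¹ * m⁻¹) = t at h3 h5 h6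
  refine ⟨_, nm_mem (fun _ => D.F_mem_T) h6 _, h3, fun a ha => ?_⟩
  generalize per D b = j
  induction j with
  | zero => rw [nm_zero, D.χ_one, Finset.prod_range_zero]
  | succ j ih =>
    rw [nm_succ, D.χ_mul a (nm_mem (fun _ => D.F_mem_T) h6 _)
      (pow_mem_of_maps (H := (D.T : Set Y)) (fun _ => D.F_mem_T) j h6), ih, Finset.prod_range_succ]
    congr 1
    obtain ⟨a', ha', rfl⟩ : ∃ a', D.Rt a' ∧ D.g^[j] a' = a := by
      clear ih
      induction j with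
      | zero => exact ⟨a, ha, rfl⟩
      | succ j ih =>
        obtain ⟨a', ha', rfl⟩ := ih
        obtain ⟨a'', ha'', rfl⟩ := D.g_surj ha'
        exact ⟨a'', ha'', rfl⟩
    rw [H.χ_pow ha' h6, h5 a' ha', H.cpr_iter ha' hb]

/-- one root sees only one member of the orbit -/
theorem tor_one {b a : D.I → ℤ} (hb : D.Rt b) (ho : Ort D b) (ha : D.Rt a)
    (h0 : ∀ i, D.g^[i] b ≠ b → cpr D.cs D.h a (D.g^[i] b) = 0) {l : k} (hl : l ≠ 0) (h : l ^ p ^ (e * per D b) = l)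
    (h1 : l ^ cpr D.cs D.h a b ≠ 1) : ∃ t ∈ D.T, t ∈ LL D ∧ D.χ a t ≠ 1 := by
  obtain ⟨t, h2, h3, h4⟩ := H.tor hb ho hl h
  refine ⟨t, h2, h3, ?_⟩
  rw [h4 a ha, Finset.prod_eq_single 0]
  · simpa using h1
  · intro i hi h5
    rw [h0 i (iter_ne (Nat.pos_of_ne_zero h5) (Finset.mem_range.1 hi)), zpow_zero, one_pow]
  · exact fun h5 => absurd (Finset.mem_range.2 (per_pos hb)) h5

/-- the norms of the root elements are commutators if the root is not trivial on the torus -/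
theorem nm_mem_RR {b : D.I → ℤ} (hb : D.Rt b) (ho : Ort D b) {t : Y} (ht : t ∈ D.T) (ht' : t ∈ LL D) (h : D.χ b t ≠ 1)
    {y : Y} (hy : y ∈ D.X b) (hF : (F ^ per D b) y = y) : nm F y (per D b) ∈ RR D := by
  obtain ⟨s, rfl⟩ := (D.mem_X b hb y).1 hy
  obtain ⟨C, hC, h1⟩ := H.F_per hb
  have h2 : C * s ^ p ^ (e * per D b) = s := D.x_inj b hb (by rw [← h1, hF])
  have h3 := H.χ_pow hb ht (per D b)
  rw [iter_per, pow_fix (LL_fix ht'), ← pow_mul] at h3
  have h4 : D.χ b t - 1 ≠ 0 := sub_ne_zero.2 h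
  have h5 := H.nm_mem_LL hb ho (Or.inl rfl) (D.x_mem hb (s / (D.χ b t - 1))) (by
    rw [h1, div_pow, sub_pow_char_pow, ← h3, one_pow, ← mul_div_assoc, h2])
  have h6 := comm_mem ht' h5
  have m1 : ∀ s, D.x b s ∈ D.S {b, -b} := fun s => RGD.le_Sup (X := D.X) (Or.inl rfl) (D.x_mem hb s)
  rw [commutatorElement_def, ← nm_conj (LL_fix ht'), D.tor' hb ht, ← nm_inv (H.hc hb ho) (m1 _),
    ← nm_mul (H.hc hb ho) (m1 _) (inv_mem (m1 _)) le_rfl, ← D.x_neg hb, ← D.x_add b hb] at h6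
  convert h6 using 3
  field_simp
  ring

end Cx

end Cfsg.Agent.TH.Ab.Cmp
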