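import Cfsg.Agent.TH.Ex.Ab.CompBas

/-!
# S3541, `BoxComp`: rational root elements which are commutators (helper37)

`Hd D c` : the rational points of the root group of `c` lie in the commutator subgroup.  The configurations `A₂`, `B₂`,
`²A₃`, `²A₂`.
-/

set_option autoImplicit false
set_option linter.unusedSectionVars false
set_option linter.unusedVariables false

namespace Cfsg.Agent.TH.Ab.Cmp

open CoxeterSystem Cfsg.Agent.ChevalleyStructure.CoxeterGeom Cfsg.Agent.Tits.Roots Cfsg.Agent.Nodes.Reps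
  Cfsg.Agent.Nodes.BNOf Cfsg.Agent.Nodes.Bruhat Cfsg.Agent.LangThm Cfsg.Agent.Nodes.SubComb
  Cfsg.Agent.Nodes.Coroot Cfsg.Agent.Nodes.Slope Cfsg.Agent.Nodes.NormalForm Cfsg.Agent.DL.Base Cfsg.Agent.DL
  Cfsg.Agent.BpExc.Zc Cfsg.Agent.SB.Exc.Max
open scoped Pointwise commutatorElement

variable {p : ℕ} [Fact p.Prime] {k : Type} [Field k] [CharP k p] {Y : Type} [Group Y] {N : Type} [Fintype N]
  [DecidableEq N] {ρ : Y →* GL N k} {F : MulAut Y} {G : Subgroup Y} [IsAlgClosed k] {D : Datum p ρ F G}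

theorem cpr_refl (x : D.I → ℤ) {y a : D.I → ℤ} (hy : D.Rt y) (ha : D.Rt a) :
    cpr D.cs D.h x (y - cpr D.cs D.h y a • a) = cpr D.cs D.h x y - cpr D.cs D.h x a * cpr D.cs D.h a y := by
  have h1 := cpr_act (D.rf a) (D.act (D.rf a) x) hy
  rw [← act_mul, D.rf_mul_self ha, act_one, D.act_rf ha, D.act_rf ha, cpr_sub, cpr_smul'] at h1
  exact h1

theorem add_of_neg_one {a b : D.I → ℤ} (h : cpr D.cs D.h a b = -1) : a - cpr D.cs D.h a b • b = a + b := by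
  rw [h, neg_smul, one_smul, sub_neg_eq_add]

theorem rt_add {a b : D.I → ℤ} (ha : D.Rt a) (hb : D.Rt b) (h : cpr D.cs D.h a b = -1) : D.Rt (a + b) :=
  add_of_neg_one h ▸ isRoot_refl D.cs D.h ha hb

theorem cpr_sum {a b : D.I → ℤ} (ha : D.Rt a) (hb : D.Rt b) (h : cpr D.cs D.h a b = -1) (x : D.I → ℤ) :
    cpr D.cs D.h x (a + b) = cpr D.cs D.h x a - cpr D.cs D.h x b * cpr D.cs D.h b a := by
  rw [← add_of_neg_one h, cpr_refl x ha hb]

theorem inf_one {A : Set (D.I → ℤ)} (hA : ∀ a ∈ A, D.Rt a) {c : D.I → ℤ} (hc : D.Rt c) (ell : (D.I → ℤ) →+ ℤ)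
    (h1 : ∀ a ∈ A, 0 < ell a) (h2 : ell c ≤ 0) {y : Y} (hy : y ∈ D.S A) (hy' : y ∈ D.X c) : y = 1 := by
  refine D.sup_inf_sup' ell (el D.cs D.h c) (RGD.Sup_mono ?_ hy) (RGD.le_Sup (X := D.X) ?_ hy')
  · exact fun a ha => ⟨hA a ha, h1 a ha⟩
  · exact ⟨hc, h2, by rw [el_apply, cpr_self _ _ hc]; omega⟩

theorem split_comm {c d : D.I → ℤ} (hc : D.Rt c) (hd : D.Rt d) (h : Cm D c d) {w : Y} (hw : w ∈ D.S {c, d}) :
    ∃ y ∈ D.X c, ∃ z ∈ D.X d, w = y * z := by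
  refine S_ind (A := {c, d}) (by rintro _ (rfl | rfl); exacts [hc, hd]) (P := fun w => ∃ y ∈ D.X c, ∃ z ∈ D.X d, w = y * z)
    ⟨1, one_mem _, 1, one_mem _, (mul_one _).symm⟩ ?_ ?_ hw
  · rintro _ (rfl | rfl) s
    · exact ⟨_, D.x_mem hc s, 1, one_mem _, (mul_one _).symm⟩
    · exact ⟨1, one_mem _, _, D.x_mem hd s, (one_mul _).symm⟩
  · rintro _ - _ - ⟨y, hy, z, hz, rfl⟩ ⟨y', hy', z', hz', rfl⟩
    refine ⟨_, mul_mem hy hy', _, mul_mem hz hz', ?_⟩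
    rw [mul_assoc, ← mul_assoc z, ← h y' hy' z hz]
    group

theorem key {b : D.I → ℤ} (hb : D.Rt b) {w : D.W} {u v v' x : Y} (hm : D.Rp w (v * u * v')) (hx : x ∈ D.X b)
    (hx1 : x ≠ 1) (hv' : v' * x = x * v') {K : Subgroup Y} (hK : ∀ y ∈ K, v * y * v⁻¹ ∈ K)
    (hinf : ∀ y ∈ K, y ∈ D.X (D.act w b) → y = 1) : u * x * u⁻¹ ∉ K := fun h => by
  have h1 := D.conj_mem hm hb hx
  have h2 : v * u * v' * x * (v * u * v')⁻¹ = v * (u * x * u⁻¹) * v⁻¹ := by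
    rw [mul_assoc _ v', hv']
    group
  exact hx1 (conj_eq_one_iff.1 (hinf _ (h2 ▸ hK _ h) h1))

theorem exists_cor {b : D.I → ℤ} (hb : D.Rt b) {l : k} (hl : l ≠ 0) :
    ∃ t ∈ D.T, ∀ a, D.χ a t = l ^ cpr D.cs D.h a b :=
  ⟨D.τ (coch (D.cor b) (Units.mk0 l hl)), D.τ_mem _, fun a => by
    rw [D.χ_τ, chr_coch, D.pair_cor hb, Units.val_zpow_eq_zpow_val, Units.val_mk0]⟩

theorem x_zpow {a : D.I → ℤ} (ha : D.Rt a) (s : k) (n : ℤ) : D.x a (n * s) = D.x a s ^ n := by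
  have := (AddMonoidHom.mk' (fun s => Additive.ofMul (D.x a s)) fun s t => congrArg _ (D.x_add a ha s t)).map_zsmul n s
  rw [zsmul_eq_mul] at this
  exact this

variable (D) in
/-- the rational points of the root group are commutators -/
def Hd (c : D.I → ℤ) : Prop := ∀ y ∈ D.X c, F y = y → y ∈ RR D

namespace Cx

variable {e : ℕ} (H : Cx D e)
include H

theorem exists_fix {c : D.I → ℤ} (hc : D.Rt c) : ∃ y ∈ D.X c, (F ^ per D c) y = y ∧ y ≠ 1 := by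
  obtain ⟨C, hC, hF⟩ := H.F_per hc
  obtain ⟨s, hs, hs0⟩ := exists_sol_ne (p := p) hC (Nat.mul_pos H.he (per_pos hc))
  exact ⟨_, D.x_mem hc s, by rw [hF, hs], fun h => hs0 ((D.x_eq_one_iff hc).1 h)⟩

theorem exists_fix_one {c : D.I → ℤ} (hc : D.Rt c) (hg : D.g c = c) : ∃ y ∈ D.X c, F y = y ∧ y ≠ 1 := by
  have := H.exists_fix hc
  rwa [per_eq_one hg, pow_one] at this

theorem hd_of_tor {c : D.I → ℤ} (hc : D.Rt c) (hg : D.g c = c) {t : Y} (ht : t ∈ D.T) (ht' : t ∈ LL D)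
    (h : D.χ c t ≠ 1) : Hd D c := fun y hy hF => by
  have := H.nm_mem_RR hc (ort_of_fix hg) ht ht' h hy (by rw [per_eq_one hg, pow_one, hF])
  rwa [per_eq_one hg, nm_one] at this

theorem hd_of_one (he : e = 1) {c : D.I → ℤ} (hc : D.Rt c) (hg : D.g c = c) {y : Y} (hy : y ∈ D.X c) (hF : F y = y)
    (h1 : y ≠ 1) (h : y ∈ RR D) : Hd D c := fun y' hy' hF' => by
  obtain ⟨s, rfl⟩ := (D.mem_X c hc y).1 hy
  obtain ⟨s', rfl⟩ := (D.mem_X c hc y').1 hy'
  have hs : s ≠ 0 := fun h => h1 (by rw [h, D.x_zero hc])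
  rw [F_x hc, hg, H.ex c hc, he, pow_one] at hF hF'
  have h2 := D.x_inj c hc hF
  have h3 := D.x_inj c hc hF'
  have h4 : (s' / s) ^ p = s' / s := by
    rw [div_pow, ← mul_div_mul_left _ _ (cF_ne (D := D) c), h2, h3]
  obtain ⟨n, hn⟩ := (mem_bot_iff_intCast p k).1 ((Subfield.mem_bot_iff_pow_eq_self k p).2 h4)
  rw [show s' = n * s by rw [hn, div_mul_cancel₀ _ hs], x_zpow hc]
  exact zpow_mem h n

/-- roots at an obtuse angle -/
theorem noncomm {a b : D.I → ℤ} (ha : D.Rt a) (hb : D.Rt b) (h : cpr D.cs D.h b a < 0) (hab : b ≠ -a) {u x : Y}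
    (hu : u ∈ D.X a) (hu1 : u ≠ 1) (hx : x ∈ D.X b) (hx1 : x ≠ 1) : ⁅u, x⁆ ≠ 1 := fun h1 => by
  obtain ⟨v, hv, v', hv', hm⟩ := exists_m ha hu hu1
  have hc : Cm D (-a) b := H.cm_of_pos ha.neg hb (by rw [cpr_neg_right _ _ _ ha]; omega)
  refine key hb hm hx hx1 (hc v' hv' x hx) (K := D.X b) (fun y hy => ?_) (fun y hy hy' => ?_) ?_
  · rwa [hc v hv y hy, mul_inv_cancel_right]
  · refine D.eq_one_of_mem_X_X hb (hb.act _) (fun e => ?_) hy hy'
    rw [← Datum.act, D.act_rf ha, eq_comm, sub_eq_self, smul_eq_zero] at e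
    exact e.elim h.ne ha.ne_zero
  · rwa [commutatorElement_eq_one_iff_mul_comm.1 h1, mul_inv_cancel_right]

theorem ne_of_neg {a b : D.I → ℤ} (hb : D.Rt b) (h : cpr D.cs D.h a b = -1) : a ≠ b ∧ a ≠ -b := by
  constructor
  · rintro rfl
    rw [cpr_self _ _ hb] at h
    omega
  · rintro rfl
    rw [cpr_neg', cpr_self _ _ hb] at h
    omega

theorem comm_a2 {a b : D.I → ℤ} (ha : D.Rt a) (hb : D.Rt b) (h1 : cpr D.cs D.h a b = -1) (h2 : cpr D.cs D.h b a = -1)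
    {u x : Y} (hu : u ∈ D.X a) (hx : x ∈ D.X b) : ⁅u, x⁆ ∈ D.X (a + b) := by
  refine S_le_X ?_ (H.cz a b ha hb (H.ne_of_neg hb h1).1 (H.ne_of_neg hb h1).2 u hu x hx)
  rintro c ⟨hc, i, j, hi, hj, rfl⟩
  have h3 := H.le2 _ a hc ha
  have h4 := H.le2 _ b hc hb
  rw [cpr_add', cpr_smul', cpr_smul'] at h3 h4
  rw [cpr_self _ _ ha, h2] at h3
  rw [cpr_self _ _ hb, h1] at h4
  by_cases h : i = 1
  · rw [h, show j = 1 by omega, one_smul, one_smul]
    rfl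
  · exact absurd (by rw [show i = 2 by omega, show j = 2 by omega, smul_add]) (ne_two_smul hc (a + b))

/-- the configuration `A₂` -/
theorem hd_a2 (he : e = 1) {a b : D.I → ℤ} (ha : D.Rt a) (hb : D.Rt b) (ga : D.g a = a) (gb : D.g b = b)
    (h1 : cpr D.cs D.h a b = -1) (h2 : cpr D.cs D.h b a = -1) : Hd D (a + b) := by
  obtain ⟨u, hu, Fu, u1⟩ := H.exists_fix_one ha ga
  obtain ⟨x, hx, Fx, x1⟩ := H.exists_fix_one hb gb
  have h3 := comm_mem (mem_LL_X ha hu Fu) (mem_LL_X hb hx Fx)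
  exact H.hd_of_one he (rt_add ha hb h1) (by rw [g_add H.ex ha hb (rt_add ha hb h1), ga, gb]) (H.comm_a2 ha hb h1 h2 hu hx)
    (LL_fix (RR_le h3)) (H.noncomm ha hb (by omega) (H.ne_of_neg ha h2).2 hu u1 hx x1) h3

/-- the configuration `B₂` -/
theorem hd_b2 (he : e = 1) {a b : D.I → ℤ} (ha : D.Rt a) (hb : D.Rt b) (ga : D.g a = a) (gb : D.g b = b)
    (h1 : cpr D.cs D.h a b = -1) (h2 : cpr D.cs D.h b a = -2) : Hd D (a + b) ↔ Hd D (b + (2 : ℤ) • a) := by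
  obtain ⟨u, hu, Fu, u1⟩ := H.exists_fix_one ha ga
  obtain ⟨x, hx, Fx, x1⟩ := H.exists_fix_one hb gb
  have h3 := comm_mem (mem_LL_X ha hu Fu) (mem_LL_X hb hx Fx)
  have hs := rt_add ha hb h1
  have e1 : b - cpr D.cs D.h b a • a = b + (2 : ℤ) • a := by rw [h2, neg_smul, sub_neg_eq_add]
  have hl : D.Rt (b + (2 : ℤ) • a) := e1 ▸ isRoot_refl D.cs D.h hb ha
  have ca := cpr_self D.cs D.h ha
  have cb := cpr_self D.cs D.h hb
  have c1 : cpr D.cs D.h a (a + b) = 0 := by rw [cpr_sum ha hb h1, ca, h1, h2]; rfl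
  have c2 : cpr D.cs D.h b (a + b) = 2 := by rw [cpr_sum ha hb h1, cb, h2]; rfl
  have c3 : cpr D.cs D.h b (b + (2 : ℤ) • a) = 0 := by rw [← e1, cpr_refl b hb ha, cb, h1, h2]; rfl
  have gs : D.g (a + b) = a + b := by rw [g_add H.ex ha hb hs, ga, gb]
  have gl : D.g (b + (2 : ℤ) • a) = b + (2 : ℤ) • a := by
    have := (g_lin H.ex hb ha hl (i := 1) (j := 2)).2 (by rw [one_smul])
    rwa [ga, gb, one_smul] at this
  have hne : a + b ≠ b + (2 : ℤ) • a := fun e => by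
    have := congrArg (fun c => cpr D.cs D.h c b) e
    simp only [cpr_add', cpr_smul', h1, cb] at this
    omega
  have h4 : ⁅u, x⁆ ∈ D.S {a + b, b + (2 : ℤ) • a} := by
    refine RGD.Sup_mono ?_ (H.cz a b ha hb (H.ne_of_neg hb h1).1 (H.ne_of_neg hb h1).2 u hu x hx)
    rintro c ⟨hc, i, j, hi, hj, rfl⟩
    have h5 := H.le2 _ a hc ha
    have h6 := H.le2 _ _ hc hs
    rw [cpr_add', cpr_smul', cpr_smul'] at h5 h6
    rw [ca, h2] at h5
    rw [c1, c2] at h6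
    rw [show j = 1 by omega, one_smul]
    by_cases h : i = 1
    · rw [h, one_smul]
      exact Or.inl rfl
    · rw [show i = 2 by omega]
      exact Or.inr (add_comm _ _)
  obtain ⟨y, hy, z, hz, e2⟩ := split_comm hs hl (H.cm_of_pos hs hl (by rw [cpr_add', cpr_smul', c1, c2]; omega)) h4
  have hF := LL_fix (RR_le h3)
  rw [e2, map_mul] at hF
  have Fy : F y = y := by
    have h5 : y⁻¹ * F y = z * (F z)⁻¹ := by rw [inv_mul_eq_iff_eq_mul, ← mul_assoc, ← hF, mul_inv_cancel_right]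
    refine (inv_mul_eq_one.1 (D.eq_one_of_mem_X_X hs hl hne (mul_mem (inv_mem hy) (gs ▸ D.F_mem_X hs hy)) ?_)).symm
    rw [h5]
    exact mul_mem hz (inv_mem (gl ▸ D.F_mem_X hl hz))
  have Fz : F z = z := by
    rw [Fy] at hF
    exact mul_left_cancel hF
  have z1 : z ≠ 1 := fun h => by
    obtain ⟨v, hv, v', hv', hm⟩ := exists_m ha hu u1
    have hc : Cm D (-a) b := H.cm_of_pos ha.neg hb (by rw [cpr_neg_right _ _ _ ha]; omega)
    refine key hb hm hx x1 (hc v' hv' x hx) (K := D.S {b, a + b}) (fun y hy => ?_) (fun y hy hy' => ?_) ?_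
    · refine (crel_cz H.cz).conj ha.neg ?_ ?_ hv hy
      · rintro _ (rfl | rfl)
        · exact ⟨hb, fun e => (H.ne_of_neg hb h1).1 (neg_injective e)⟩
        · exact ⟨hs, fun e => hb.ne_zero (left_eq_add.1 (neg_injective e))⟩
      · rintro _ (rfl | rfl) - c hc'
        · exact absurd hc hc'.2
        · obtain ⟨hc', i, j, hi, hj, rfl⟩ := hc'.1
          have h5 := H.ge2 hc' ha
          have h6 := H.le2 _ _ hc' hs
          rw [cpr_add', cpr_smul', cpr_smul', cpr_neg'] at h5 h6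
          rw [ca, cpr_add', ca, h2] at h5
          rw [c1, cpr_self _ _ hs] at h6
          rw [show j = 1 by omega, show i = 1 by omega, one_smul, one_smul, neg_add_cancel_left]
          exact Or.inl rfl
    · rw [D.act_rf ha, e1] at hy'
      refine inf_one ?_ hl (el D.cs D.h b) ?_ ?_ hy hy'
      · rintro _ (rfl | rfl)
        exacts [hb, hs]
      · rintro _ (rfl | rfl) <;> simp only [el_apply, cpr_add', cb, h1] <;> omega
      · simp only [el_apply, cpr_add', cpr_smul', cb, h1]; omega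
    · rw [show u * x * u⁻¹ = ⁅u, x⁆ * x by rw [commutatorElement_def, inv_mul_cancel_right], e2, h, mul_one]
      exact mul_mem (RGD.le_Sup (X := D.X) (Or.inr rfl) hy) (RGD.le_Sup (X := D.X) (Or.inl rfl) hx)
  have y1 : y ≠ 1 := fun h => by
    obtain ⟨v, hv, v', hv', hm⟩ := exists_m hb hx x1
    have hc : Cm D (-b) a := H.cm_of_pos hb.neg ha (by rw [cpr_neg_right _ _ _ hb]; omega)
    have hc' : Cm D (-b) (b + (2 : ℤ) • a) := H.cm_of_orth hb.neg hl (by rw [cpr_neg', c3, neg_zero]) fun h5 =>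
      ne_two_smul h5 a (neg_add_cancel_left _ _)
    refine key ha hm hu u1 (hc v' hv' u hu) (K := D.S {a, b + (2 : ℤ) • a}) (fun y hy => ?_) (fun y hy hy' => ?_) ?_
    · rwa [comm_S (by rintro _ (rfl | rfl); exacts [hc v hv, hc' v hv]) hy, mul_inv_cancel_right]
    · rw [D.act_rf hb, add_of_neg_one h1] at hy'
      refine inf_one ?_ hs (el D.cs D.h a) ?_ ?_ hy hy'
      · rintro _ (rfl | rfl)
        exacts [ha, hl]
      · rintro _ (rfl | rfl) <;> simp only [el_apply, cpr_add', cpr_smul', ca, h2] <;> omega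
      · simp only [el_apply, cpr_add', ca, h2]; omega
    · rw [show x * u * x⁻¹ = ⁅u, x⁆⁻¹ * u by rw [commutatorElement_def]; group, e2, h, one_mul]
      exact mul_mem (inv_mem (RGD.le_Sup (X := D.X) (Or.inr rfl) hz)) (RGD.le_Sup (X := D.X) (Or.inl rfl) hu)
  rw [e2] at h3
  exact ⟨fun h => H.hd_of_one he hl gl hz Fz z1 ((mul_mem_cancel_left (h y hy Fy)).1 h3),
    fun h => H.hd_of_one he hs gs hy Fy y1 ((mul_mem_cancel_right (h z hz Fz)).1 h3)⟩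

/-- fields with at least four elements -/
theorem exists_sq {n : ℕ} (hn : 3 < p ^ n) : ∃ l : k, l ≠ 0 ∧ l ^ p ^ n = l ∧ l ^ (2 : ℤ) ≠ 1 := by
  have hn0 : 0 < n := Nat.pos_of_ne_zero (by rintro rfl; simp at hn)
  obtain ⟨l, h1, h2⟩ := exists_sol (p := p) (k := k) one_ne_zero hn0 (E := {0, 1, -1}) (Set.toFinite _)
    (lt_of_le_of_lt ((Set.ncard_insert_le _ _).trans (Nat.succ_le_succ ((Set.ncard_insert_le _ _).trans
      (by rw [Set.ncard_singleton])))) hn)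
  simp only [Set.mem_insert_iff, Set.mem_singleton_iff, not_or] at h2
  refine ⟨l, h2.1, by rwa [one_mul] at h1, fun h => ?_⟩
  rw [zpow_two, mul_self_eq_one_iff] at h
  exact h.elim h2.2.1 h2.2.2

theorem tor_ort {b : D.I → ℤ} (hb : D.Rt b) (ho : Ort D b) (h : 3 < p ^ (e * per D b)) :
    ∃ t ∈ D.T, t ∈ LL D ∧ D.χ b t ≠ 1 := by
  obtain ⟨l, h1, h2, h3⟩ := H.exists_sq h
  exact H.tor_one hb ho hb (fun i hi => (cpr_zero_comm _ _ (D.iterate_g_root i hb) hb).1 (ho i hi)) h1 h2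
    (by rwa [cpr_self _ _ hb])

theorem lt_pow {n : ℕ} (hn : 2 ≤ n) : 3 < p ^ (e * n) :=
  calc 3 < 2 ^ 2 := by norm_num
    _ ≤ p ^ 2 := Nat.pow_le_pow_left (Fact.out : p.Prime).two_le 2
    _ ≤ _ := Nat.pow_le_pow_right (Fact.out : p.Prime).pos (by have := H.he; nlinarith)

/-- the configuration `²A₃` -/
theorem hd_a3 (he : e = 1) {a b : D.I → ℤ} (ha : D.Rt a) (hb : D.Rt b) (ga : D.g (D.g a) = a) (gb : D.g b = b)
    (h0 : cpr D.cs D.h (D.g a) a = 0) (h1 : cpr D.cs D.h a b = -1) (h2 : cpr D.cs D.h b a = -1) :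
    Hd D (a + (D.g a + b)) := by
  have ha' := D.g_root a ha
  have h0' := (cpr_zero_comm _ _ ha' ha).1 h0
  have h1' : cpr D.cs D.h (D.g a) b = -1 := by rw [← h1, ← cpr_g H.ex ha hb, gb]
  have h2' : cpr D.cs D.h b (D.g a) = -1 := by rw [← h2, ← cpr_g H.ex hb ha, gb]
  have ca := cpr_self D.cs D.h ha
  have cb := cpr_self D.cs D.h hb
  have hne : D.g a ≠ a := fun e => by rw [e, ca] at h0; omega
  have hp := per_eq_two ga hne
  have r1 := rt_add ha hb h1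
  have r2 := rt_add ha' hb h1'
  have h3 : cpr D.cs D.h a (D.g a + b) = -1 := by rw [cpr_sum ha' hb h1', h0', h1, h2']; rfl
  have h4 : cpr D.cs D.h (D.g a + b) a = -1 := by rw [cpr_add', h0, h2]; rfl
  have r3 := rt_add ha r2 h3
  have g1 : D.g (a + b) = D.g a + b := by rw [g_add H.ex ha hb r1, gb]
  have g2 : D.g (D.g a + b) = a + b := by rw [g_add H.ex ha' hb r2, gb, ga]
  have g3 : D.g (a + (D.g a + b)) = a + (D.g a + b) := by rw [g_add H.ex ha r2 r3, g2, add_left_comm]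
  have h5 : cpr D.cs D.h (D.g a + b) (a + b) = 0 := by rw [cpr_sum ha hb h1, h4, h2, cpr_add', h1', cb]; rfl
  have hne' : D.g a + b ≠ a + b := fun e => hne (add_right_cancel e)
  obtain ⟨u, hu, Fu, u1⟩ := H.exists_fix ha
  obtain ⟨x, hx, Fx, x1⟩ := H.exists_fix_one hb gb
  have m1 := H.nm_mem_LL ha (ort_of_two ga h0) (Or.inl rfl) hu Fu
  rw [hp, nm_two] at m1
  have m2 := comm_mem m1 (mem_LL_X hb hx Fx)
  have hu' := D.F_mem_X ha hu
  have hy1 := H.comm_a2 ha hb h1 h2 hu hx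
  have hy2 := H.comm_a2 ha' hb h1' h2' hu' hx
  have n2 := H.noncomm ha' hb (by omega) (H.ne_of_neg ha' h2').2 hu' (fun h => u1 (F.injective (h.trans (map_one F).symm)))
    hx x1
  have hz := H.comm_a2 ha r2 h3 h4 hu hy2
  have z1 := H.noncomm ha r2 (by omega) (H.ne_of_neg ha h4).2 hu u1 hy2 n2
  have e1 : ⁅u * F u, x⁆ = ⁅u, ⁅F u, x⁆⁆ * (⁅F u, x⁆ * ⁅u, x⁆) := by
    simp only [commutatorElement_def]
    group
  rw [e1] at m2
  generalize ⁅u, ⁅F u, x⁆⁆ = z at hz z1 m2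
  generalize ⁅F u, x⁆ = y2 at hy2 m2
  generalize ⁅u, x⁆ = y1 at hy1 m2
  have hF := LL_fix (RR_le m2)
  rw [map_mul, map_mul] at hF
  have f1 : F y1 ∈ D.X (D.g a + b) := g1 ▸ D.F_mem_X r1 hy1
  have f2 : F y2 ∈ D.X (a + b) := g2 ▸ D.F_mem_X r2 hy2
  have s1 : D.X (a + b) ≤ D.S {a + b, D.g a + b} := RGD.le_Sup (X := D.X) (Or.inl rfl)
  have s2 : D.X (D.g a + b) ≤ D.S {a + b, D.g a + b} := RGD.le_Sup (X := D.X) (Or.inr rfl)
  have Fz : F z = z := by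
    have h6 : z⁻¹ * F z = y2 * y1 * (F y2 * F y1)⁻¹ := by
      rw [inv_mul_eq_iff_eq_mul, ← mul_assoc, ← hF, mul_inv_cancel_right]
    refine (inv_mul_eq_one.1 (inf_one (A := {a + b, D.g a + b}) ?_ r3 (el D.cs D.h b) ?_ ?_ ?_
      (mul_mem (inv_mem hz) (g3 ▸ D.F_mem_X r3 hz)))).symm
    · rintro _ (rfl | rfl)
      exacts [r1, r2]
    · rintro _ (rfl | rfl) <;> simp only [el_apply, cpr_add', cb, h1, h1'] <;> omega
    · simp only [el_apply, cpr_add', cb, h1, h1']; omega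
    · rw [h6]
      exact mul_mem (mul_mem (s2 hy2) (s1 hy1)) (inv_mem (mul_mem (s1 f2) (s2 f1)))
  have hc : Cm D (D.g a + b) (a + b) := H.cm_of_orth r2 r1 h5 (not_add r1 h5 (by rw [← g1, ht_g H.ex H.qs r1]))
  rw [Fz, mul_right_inj, hc y2 hy2 y1 hy1] at hF
  have h6 : y1⁻¹ * F y2 = 1 := D.eq_one_of_mem_X_X r1 r2 hne'.symm (mul_mem (inv_mem hy1) f2) (by
    rw [show y1⁻¹ * F y2 = y2 * (F y1)⁻¹ by rw [inv_mul_eq_iff_eq_mul, ← mul_assoc, ← hF, mul_inv_cancel_right]]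
    exact mul_mem hy2 (inv_mem f1))
  have h7 : F y2 = y1 := (inv_mul_eq_one.1 h6).symm
  rw [h7, mul_right_inj] at hF
  have hp' : per D (a + b) = 2 := per_eq_two (by rw [g1, g2]) (by rwa [g1])
  have ho : Ort D (a + b) := ort_of_two (by rw [g1, g2]) (by rwa [g1])
  obtain ⟨t, t1, t2, t3⟩ := H.tor_ort r1 ho (H.lt_pow hp'.ge)
  have h8 := H.nm_mem_RR r1 ho t1 t2 t3 hy1 (by rw [hp', pow_two, MulAut.mul_apply, hF, h7])
  rw [hp', nm_two, hF, ← hc y2 hy2 y1 hy1] at h8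
  exact H.hd_of_one he r3 g3 hz Fz z1 ((mul_mem_cancel_right h8).1 m2)

theorem bil {a b : D.I → ℤ} (ha : D.Rt a) (hb : D.Rt b) (h1 : cpr D.cs D.h a b = -1) (h2 : cpr D.cs D.h b a = -1) :
    ∃ c : k, c ≠ 0 ∧ ∀ s t, ⁅D.x a s, D.x b t⁆ = D.x (a + b) (c * s * t) := by
  have r := rt_add ha hb h1
  obtain ⟨c, hc⟩ := (D.mem_X _ r _).1 (H.comm_a2 ha hb h1 h2 (D.x_mem ha 1) (D.x_mem hb 1))
  refine ⟨c, fun h => H.noncomm ha hb (by omega) (H.ne_of_neg ha h2).2 (D.x_mem ha 1)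
    (fun h => one_ne_zero ((D.x_eq_one_iff ha).1 h)) (D.x_mem hb 1) (fun h => one_ne_zero ((D.x_eq_one_iff hb).1 h))
    (by rw [← hc, h, D.x_zero r]), fun s t => ?_⟩
  by_cases hs : s = 0
  · rw [hs, D.x_zero ha, mul_zero, zero_mul, D.x_zero r, commutatorElement_one_left]
  by_cases ht : t = 0
  · rw [ht, D.x_zero hb, mul_zero, D.x_zero r, commutatorElement_one_right]
  obtain ⟨μ, hμ⟩ := IsAlgClosed.exists_pow_nat_eq (s ^ 2 * t) three_pos
  have hμ0 : μ ≠ 0 := fun h => mul_ne_zero (pow_ne_zero 2 hs) ht (by rw [← hμ, h]; simp)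
  obtain ⟨τ, hτ, e1⟩ := exists_cor ha hμ0
  obtain ⟨τ', hτ', e2⟩ := exists_cor hb (div_ne_zero (pow_ne_zero 2 hμ0) hs)
  have e3 : D.χ a (τ * τ') = s := by
    rw [D.χ_mul a hτ hτ', e1, e2, cpr_self _ _ ha, h1, zpow_neg_one, zpow_two]
    field_simp
  have e4 : D.χ b (τ * τ') = t := by
    rw [D.χ_mul b hτ hτ', e1, e2, cpr_self _ _ hb, h2, zpow_neg_one, zpow_two]
    field_simp
    exact hμ
  have h3 := D.tor' r (mul_mem hτ hτ') c
  rw [hc, conjugate_commutatorElement, D.tor' ha (mul_mem hτ hτ'), D.tor' hb (mul_mem hτ hτ'), D.χ_add, e3, e4, mul_one,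
    mul_one] at h3
  rw [h3]
  congr 1
  ring

/-- rational elements of the unipotent radical of `SU₃` -/
theorem exists_u3 {a : D.I → ℤ} (ha : D.Rt a) (ga : D.g (D.g a) = a) (h1 : cpr D.cs D.h a (D.g a) = -1) {u : Y}
    (hu : u ∈ D.X a) (Fu : F (F u) = u) : ∃ z ∈ D.X (a + D.g a), u * F u * z ∈ LL D := by
  have ha' := D.g_root a ha
  have h2 : cpr D.cs D.h (D.g a) a = -1 := by rw [← h1, ← cpr_g H.ex ha ha', ga]
  have r := rt_add ha ha' h1
  have gr : D.g (a + D.g a) = a + D.g a := by rw [g_add H.ex ha ha' r, ga, add_comm]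
  have hu' := D.F_mem_X ha hu
  have h3 := H.comm_a2 ha' ha h2 h1 (inv_mem hu') (inv_mem hu)
  rw [add_comm] at h3
  have c1 : 0 < cpr D.cs D.h a (a + D.g a) := by rw [cpr_sum ha ha' h1, cpr_self _ _ ha, h1, h2]; omega
  have c2 : 0 < cpr D.cs D.h (D.g a) (a + D.g a) := by rw [cpr_sum ha ha' h1, cpr_self _ _ ha', h2]; omega
  generalize a + D.g a = c at r gr h3 c1 c2
  generalize D.g a = a' at ha' hu' c2
  obtain ⟨z, hz, e1⟩ := D.lang_S (A := {c}) (fun b hb => (show b = c from hb).symm ▸ r)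
    (fun b hb => by rw [show b = c from hb]; exact gr) (RGD.le_Sup (X := D.X) (Set.mem_singleton c) h3)
  have hz' : z ∈ D.X c := S_le_X subset_rfl hz
  refine ⟨z⁻¹, inv_mem hz', mem_LL_pos (A := {a, a', c}) ?_ (el D.cs D.h c) ?_ ?_ ?_⟩
  · rintro _ (rfl | rfl | rfl)
    exacts [ha, ha', r]
  · rintro _ (rfl | rfl | rfl) <;> rw [el_apply]
    exacts [c1, c2, by rw [cpr_self _ _ r]; omega]
  · exact mul_mem (mul_mem (RGD.le_Sup (X := D.X) (Or.inl rfl) hu) (RGD.le_Sup (X := D.X) (Or.inr (Or.inl rfl)) hu'))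
      (RGD.le_Sup (X := D.X) (Or.inr (Or.inr rfl)) (inv_mem hz'))
  · rw [map_mul, map_mul, map_inv, Fu, ← mul_inv_cancel_left z (F z), ← e1, commutatorElement_def]
    group

/-- the configuration `²A₂` -/
theorem hd_u3 (he : e = 1) {a : D.I → ℤ} (ha : D.Rt a) (ga : D.g (D.g a) = a) (h1 : cpr D.cs D.h a (D.g a) = -1) :
    Hd D (a + D.g a) := by
  have hp : p.Prime := Fact.out
  have ha' := D.g_root a ha
  have h2 : cpr D.cs D.h (D.g a) a = -1 := by rw [← h1, ← cpr_g H.ex ha ha', ga]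
  have r := rt_add ha ha' h1
  have gr : D.g (a + D.g a) = a + D.g a := by rw [g_add H.ex ha ha' r, ga, add_comm]
  have hper := per_eq_two ga (H.ne_of_neg ha h2).1
  obtain ⟨C, hC, hF⟩ := H.F_per ha
  rw [hper, he] at hF
  obtain ⟨s, hs, hs0⟩ := exists_sol_ne (p := p) hC (n := 1 * 2) two_pos
  obtain ⟨l, hl, hl'⟩ := exists_sol (p := p) (k := k) one_ne_zero (n := 1 * 2) two_pos (E := {x | 1 * x ^ p ^ 1 = x})
    (Set.finite_of_ncard_ne_zero (by rw [ncard_sol one_ne_zero one_pos]; exact pow_ne_zero _ hp.ne_zero))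
    (by rw [ncard_sol one_ne_zero one_pos]; exact Nat.pow_lt_pow_right hp.one_lt (by norm_num))
  rw [one_mul] at hl
  rw [Set.mem_ofPred_eq, one_mul, pow_one] at hl'
  obtain ⟨z, hz, m1⟩ := H.exists_u3 ha ga h1 (D.x_mem ha s) (by rw [← MulAut.mul_apply, ← pow_two, hF, hs])
  obtain ⟨z', hz', m2⟩ := H.exists_u3 ha ga h1 (D.x_mem ha (l * s))
    (by rw [← MulAut.mul_apply, ← pow_two, hF, mul_pow, hl, mul_left_comm, hs])
  have m3 := comm_mem m1 m2
  obtain ⟨c, hc, e1⟩ := H.bil ha' ha h2 h1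
  rw [add_comm] at e1
  have c1 : Cm D (a + D.g a) a := H.cm_of_pos r ha (by rw [cpr_sum ha ha' h1, cpr_self _ _ ha, h1, h2]; omega)
  have c2 : Cm D (a + D.g a) (D.g a) := H.cm_of_pos r ha' (by rw [cpr_sum ha ha' h1, cpr_self _ _ ha', h2]; omega)
  rw [F_x ha, F_x ha, H.ex a ha, he, pow_one] at m3
  have key : ∀ {u u' v v' y y' : Y}, u ∈ D.X a → u' ∈ D.X (D.g a) → v ∈ D.X a → v' ∈ D.X (D.g a) → y ∈ D.X (a + D.g a) →
      y' ∈ D.X (a + D.g a) → ⁅u', v⁆ ∈ D.X (a + D.g a) → u * u' * y * (v * v' * y') = ⁅u', v⁆ * (u * v * (u' * v') * (y * y')) := by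
    intro u u' v v' y y' hu hu' hv hv' hy hy' h
    calc _ = u * u' * (y * v) * v' * y' := by group
      _ = u * (⁅u', v⁆ * v * u') * (y * v') * y' := by rw [c1 y hy v hv, commutatorElement_def]; group
      _ = _ := by rw [c2 y hy v' hv', ← mul_assoc, ← mul_assoc u, ← mul_assoc u, ← c1 _ h u hu]; group
  have h3 : ⁅D.x a s * D.x (D.g a) (cF D a * s ^ p) * z, D.x a (l * s) * D.x (D.g a) (cF D a * (l * s) ^ p) * z'⁆ =
      D.x (a + D.g a) (c * (cF D a * s ^ p) * (l * s) + -(c * (cF D a * (l * s) ^ p) * s)) := by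
    rw [commutatorElement_def, mul_assoc, ← mul_inv_rev,
      key (D.x_mem ha _) (D.x_mem ha' _) (D.x_mem ha _) (D.x_mem ha' _) hz hz' (by rw [e1]; exact D.x_mem r _),
      key (D.x_mem ha _) (D.x_mem ha' _) (D.x_mem ha _) (D.x_mem ha' _) hz' hz (by rw [e1]; exact D.x_mem r _),
      x_comm ha (D.x_mem ha s) (D.x_mem ha _), x_comm ha' (D.x_mem ha' (cF D a * s ^ p)) (D.x_mem ha' _), x_comm r hz hz', e1,
      e1, D.x_add _ r, D.x_neg r]
    group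
  rw [h3] at m3
  refine H.hd_of_one he r gr (D.x_mem r _) (LL_fix (RR_le m3)) (fun h => hl' ?_) m3
  rw [D.x_eq_one_iff r] at h
  have h4 : c * cF D a * s ^ p * s * (l - l ^ p) = 0 := by rw [← h]; ring
  exact (sub_eq_zero.1 ((mul_eq_zero.1 h4).resolve_left
    (mul_ne_zero (mul_ne_zero (mul_ne_zero hc (cF_ne a)) (pow_ne_zero _ hs0)) hs0))).symm

end Cx

end Cfsg.Agent.TH.Ab.Cmp
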