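import Cfsg.Agent.TH.Ex.Ab.CompIf
import Cfsg.Agent.S0026

/-!
# S3541, `BoxComp2`: the diagram (helper37)

Cartan integers `B D i j`, forbidden subdiagrams, orbits of the diagram permutation, the roots supported on an orbit,
the criterion `XO_le`.
-/

set_option autoImplicit false
set_option linter.unusedSectionVars false
set_option linter.unusedVariables false

namespace Cfsg.Agent.TH.Ab.Cmp

open CoxeterSystem Cfsg.Agent.ChevalleyStructure.CoxeterGeom Cfsg.Agent.Tits.Roots Cfsg.Agent.Nodes.Reps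
  Cfsg.Agent.Nodes.BNOf Cfsg.Agent.Nodes.Bruhat Cfsg.Agent.LangThm Cfsg.Agent.Nodes.SubComb
  Cfsg.Agent.Nodes.Coroot Cfsg.Agent.Nodes.Slope Cfsg.Agent.Nodes.NormalForm Cfsg.Agent.DL.Base Cfsg.Agent.DL
  Cfsg.Agent.BpExc.Zc Cfsg.Agent.SB.Exc.Max
open scoped Pointwise commutatorElement

variable {p : ℕ} [Fact p.Prime] {k : Type} [Field k] [CharP k p] {Y : Type} [Group Y] {N : Type} [Fintype N]
  [DecidableEq N] {ρ : Y →* GL N k} {F : MulAut Y} {G : Subgroup Y} [IsAlgClosed k] {D : Datum p ρ F G}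

variable (D) in
/-- the Cartan integers -/
noncomputable abbrev B (i j : D.I) : ℤ := cpr D.cs D.h (sr i) (sr j)

theorem rs (i : D.I) : D.Rt (sr i) := isRoot_sr _ _ i

theorem B_self (i : D.I) : B D i i = 2 := cpr_self _ _ (rs i)

theorem B_le {i j : D.I} (h : i ≠ j) : B D i j ≤ 0 := by
  rw [B, cpr_sr, sr, pairing_single, mul_one]
  exact cartan_nonpos D.h h.symm

theorem B_zero {i j : D.I} : B D i j = 0 ↔ B D j i = 0 := cpr_zero_comm _ _ (rs i) (rs j)

theorem sr_inj {i j : D.I} (h : (sr i : D.I → ℤ) = sr j) : i = j := by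
  by_contra hij
  have := congrFun h i
  rw [sr_self, sr_ne hij] at this
  exact one_ne_zero this

theorem cpr_exp (c y : D.I → ℤ) : cpr D.cs D.h c y = ∑ j, c j * cpr D.cs D.h (sr j) y := by
  have h1 : c = ∑ j, c j • (sr j : D.I → ℤ) := by
    funext l
    simp [sr, Finset.sum_apply, Pi.single_apply]
  conv_lhs => rw [h1, ← el_apply, map_sum]
  exact Finset.sum_congr rfl fun j _ => by rw [el_apply, cpr_smul']

theorem exists_cpr_pos {v : D.I → ℤ} (h0 : 0 ≤ v) (hv : v ≠ 0) : ∃ j, 0 < v j ∧ 0 < cpr D.cs D.h v (sr j) := by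
  have := Fintype.ofFinite D.W
  simpa only [cpr_sr] using exists_pairing_pos D.cs D.h h0 hv

theorem no_vec (L : List (ℤ × D.I)) (hn : ∀ x ∈ L, 0 < x.1) (hne : L ≠ [])
    (h : ∀ x ∈ L, (L.map fun y => y.1 * B D y.2 x.2).sum ≤ 0) : False := by
  have key : ∀ L : List (ℤ × D.I), (∀ x ∈ L, 0 < x.1) → ∃ v : D.I → ℤ, 0 ≤ v ∧ (∀ j, 0 < v j ↔ ∃ x ∈ L, x.2 = j) ∧
      ∀ j, cpr D.cs D.h v (sr j) = (L.map fun y => y.1 * B D y.2 j).sum := by
    intro L
    induction L with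
    | nil => exact fun _ => ⟨0, le_rfl, by simp, fun j => map_zero (el D.cs D.h (sr j))⟩
    | cons x L ih =>
      intro hn
      obtain ⟨v, h1, h2, h3⟩ := ih fun y hy => hn y (List.mem_cons_of_mem _ hy)
      have h4 := hn x List.mem_cons_self
      refine ⟨x.1 • sr x.2 + v, add_nonneg (smul_nonneg h4.le (sr_nonneg _)) h1, fun j => ?_, fun j => ?_⟩
      · have h5 : 0 ≤ v j := h1 j
        rw [List.exists_mem_cons_iff, ← h2, Pi.add_apply, Pi.smul_apply, smul_eq_mul]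
        by_cases e : j = x.2
        · rw [e, sr_self]
          exact ⟨fun _ => Or.inl rfl, fun _ => by rw [e] at h5; omega⟩
        · rw [sr_ne e, mul_zero, zero_add]
          exact ⟨Or.inr, fun h => h.resolve_left (Ne.symm e)⟩
      · rw [cpr_add', cpr_smul', h3, List.map_cons, List.sum_cons]
  obtain ⟨v, h1, h2, h3⟩ := key L hn
  obtain ⟨x, hx⟩ := List.exists_mem_of_ne_nil L hne
  obtain ⟨j, hj, hj'⟩ := exists_cpr_pos h1 fun e => by simpa [e] using (h2 x.2).2 ⟨x, hx, rfl⟩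
  obtain ⟨y, hy, rfl⟩ := (h2 j).1 hj
  exact absurd (h y hy) (by rw [← h3]; omega)

theorem B_neg {i j : D.I} (h : i ≠ j) (h0 : B D i j ≠ 0) : B D i j < 0 ∧ B D j i < 0 :=
  ⟨lt_of_le_of_ne (B_le h) h0, lt_of_le_of_ne (B_le h.symm) fun e => h0 (B_zero.1 e)⟩

theorem no_four {i j : D.I} (h1 : B D i j = -2) (h2 : B D j i = -2) : False :=
  no_vec [(1, i), (1, j)] (by simp) (by simp) (by simp [B_self, h1, h2])

theorem no_tri {i j l : D.I} (h1 : B D i j < 0) (h2 : B D j l < 0) (h3 : B D l i < 0) : False := by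
  have ne : ∀ {a b : D.I}, B D a b < 0 → B D b a < 0 := fun {a b} h =>
    (B_neg (fun e => by rw [e, B_self] at h; omega) h.ne).2
  have := ne h1
  have := ne h2
  have := ne h3
  refine no_vec [(1, i), (1, j), (1, l)] (by simp) (by simp) ?_
  simp only [List.mem_cons, List.not_mem_nil, or_false, forall_eq_or_imp, forall_eq, List.map_cons, List.map_nil,
    List.sum_cons, List.sum_nil, B_self]
  omega

theorem star {i j l : D.I} (h1 : B D i j < 0) (h2 : B D i l < 0) (h : j ≠ l) :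
    B D i j * B D j i + B D i l * B D l i ≤ 3 := by
  by_contra h3
  have h4 := B_le h
  have h5 := B_le h.symm
  refine no_vec [(2, i), (-B D i j, j), (-B D i l, l)] (by simp [h1, h2]) (by simp) ?_
  simp only [List.mem_cons, List.not_mem_nil, or_false, forall_eq_or_imp, forall_eq, List.map_cons, List.map_nil,
    List.sum_cons, List.sum_nil, B_self]
  refine ⟨?_, ?_, ?_⟩ <;> nlinarith

/-- a root is supported on a component or on its complement -/
theorem supp {J : Set D.I} (h : ∀ i ∈ J, ∀ j ∉ J, B D i j = 0) {c : D.I → ℤ} (hc : D.Rt c) :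
    (∀ j ∉ J, c j = 0) ∨ ∀ j ∈ J, c j = 0 := by
  obtain ⟨w, i, rfl⟩ := hc
  have key : ∀ {J : Set D.I}, (∀ i ∈ J, ∀ j ∉ J, B D i j = 0) → ∀ c : D.I → ℤ, (∀ j ∉ J, c j = 0) → ∀ l, ∀ j ∉ J,
      rep D.cs D.h (D.cs.simple l) c j = 0 := fun {J} h c hc l j hj => by
    by_cases e : j = l
    · rw [e, rep_simple_apply_self, ← cpr_sr D.cs D.h, cpr_exp, ← e, hc j hj, Finset.sum_eq_zero, sub_zero]
      intro m _
      by_cases hm : m ∈ J
      · rw [show cpr D.cs D.h (sr m) (sr j) = 0 from h m hm j hj, mul_zero]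
      · rw [hc m hm, zero_mul]
    · rw [rep_simple_apply _ _ _ _ _ e, hc j hj]
  induction w using D.cs.simple_induction_left with
  | one =>
    rw [map_one, Module.End.one_apply]
    by_cases hi : i ∈ J
    · exact Or.inl fun j hj => sr_ne fun e => hj (e ▸ hi)
    · exact Or.inr fun j hj => sr_ne fun e => hi (e ▸ hj)
  | mul_simple_left w l ih =>
    rw [map_mul, Module.End.mul_apply]
    refine ih.imp (fun h1 => key h _ h1 l) fun h1 j hj => key (J := Jᶜ) (fun i hi j hj => B_zero.1 (h j (not_not.1 hj) i hi))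
      _ (fun j hj => h1 j (not_not.1 hj)) l j (not_not.2 hj)

variable (D) in
/-- the torus of `LL D` -/
def TL : Subgroup Y := D.T ⊓ LL D

theorem uni_Op (i : D.I) : D.Uni (Op D i) := by
  refine D.uni_of_subset_pos ⟨fun _ h => h.1, fun x hx y hy z hz =>
    ⟨hz.1, (D.cl_pos.btw x ⟨hx.1, hx.2.1⟩ y ⟨hy.1, hy.2.1⟩ z hz).2, fun j hj => ?_⟩⟩
    fun _ h => ⟨h.1, h.2.1⟩
  obtain ⟨-, m, a, b, hm, -, -, e⟩ := hz
  have := congrFun e j
  simp only [Pi.smul_apply, Pi.add_apply, smul_eq_mul, hx.2.2 j hj, hy.2.2 j hj, mul_zero, add_zero] at this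
  exact (mul_eq_zero.1 this).resolve_left hm.ne'

theorem XO_le_LL (i : D.I) : XO D i ≤ LL D := fun _ hy =>
  mem_LL_pos (fun _ h => h.1) htHom (fun a h => D.ht_pos_of_pos a ⟨h.1, h.2.1⟩) hy.1 hy.2

/-- **The criterion.** -/
theorem XO_le (i : D.I) (c : D.I → ℤ) (h : ∀ a ∈ Op D i, a ∈ D.Sz (TL D) → a = c ∧ Hd D c) : XO D i ≤ RR D := by
  have hp : p.Prime := Fact.out
  have := finite_LL (D := D)
  have hK : IsPGroup p ((XO D i).subgroupOf (LL D)) := fun y => by
    obtain ⟨j, hj⟩ := pel_of_uni (uni_Op i) y.2.1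
    exact ⟨j, Subtype.ext (Subtype.ext hj)⟩
  obtain ⟨n, hn⟩ := hK.exists_card_eq
  have h1 := S0026.result (D.T.subgroupOf (LL D)) ((XO D i).subgroupOf (LL D)) ?_ ?_
    (Or.inl (Group.isSolvable_of_comm fun a b => Subtype.ext (Subtype.ext (D.T_comm a.2 b.2))))
  · have h2 : (XO D i).subgroupOf (LL D) ≤ (RR D).subgroupOf (LL D) := by
      rw [← h1]
      refine sup_le (Subgroup.commutator_le.2 fun x _ y _ => comm_mem x.2 y.2) ?_
      rintro y ⟨hy, hy'⟩
      have h3 : (y : Y) ∈ D.S (Op D i ∩ D.Sz (TL D)) := by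
        rw [← (uni_Op i).inf_centralizer fun _ h => h.1]
        exact ⟨hy.1, fun t ht => congrArg Subtype.val (hy' ⟨t, ht.2⟩ ht.1)⟩
      by_cases h4 : Hd D c
      · exact h4 _ (S_le_X (fun a ha => (h a ha.1 ha.2).1) h3) hy.2
      · exact (RGD.Sup_le (fun a ha => (h4 (h a ha.1 ha.2).2).elim) : D.S _ ≤ RR D) h3
    exact fun y hy => h2 (show (⟨y, XO_le_LL i hy⟩ : LL D) ∈ _ from hy)
  · have key : ∀ t : LL D, (t : Y) ∈ D.T → ∀ y : LL D, (y : Y) ∈ XO D i → ((t * y * t⁻¹ : LL D) : Y) ∈ XO D i :=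
      fun t ht y hy => ⟨D.conj_mem_S_of_T (fun _ h => h.1) ht hy.1, LL_fix (t * y * t⁻¹).2⟩
    refine fun t ht => Subgroup.mem_normalizer_iff.2 fun y => ⟨key t ht y, fun hy => ?_⟩
    have := key t⁻¹ (inv_mem ht) (t * y * t⁻¹) hy
    rwa [inv_inv, ← mul_assoc, ← mul_assoc, inv_mul_cancel, one_mul, inv_mul_cancel_right] at this
  · rw [hn]
    refine Nat.Coprime.pow_right _ (Nat.Coprime.symm (hp.coprime_iff_not_dvd.2 fun h2 => ?_))
    obtain ⟨t, ht⟩ := exists_prime_orderOf_dvd_card' p h2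
    have h3 : t = 1 := Subtype.ext (Subtype.ext (eq_one_of_T_pel t.2 (j := 1) (by
      have h4 := pow_orderOf_eq_one t
      rw [ht] at h4
      rw [pow_one]
      exact congrArg (fun x : D.T.subgroupOf (LL D) => ((x : LL D) : Y)) h4)))
    rw [h3, orderOf_one] at ht
    exact hp.one_lt.ne ht

namespace Cx

variable {e : ℕ} (H : Cx D e)
include H

theorem B_ge (i j : D.I) : -2 ≤ B D i j := H.ge2 (rs i) (rs j)

theorem iter_sr (n : ℕ) (i : D.I) : D.g^[n] (sr i) = sr ((D.σ ^ n) i) := by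
  induction n with
  | zero => rfl
  | succ n ih => rw [Function.iterate_succ_apply', ih, H.qs.g_sr, pow_succ', Equiv.Perm.mul_apply]

theorem so_iff {i j : D.I} : So D i j ↔ D.σ.SameCycle i j := by
  refine ⟨fun ⟨n, hn⟩ => ⟨n, sr_inj (by rw [← hn, H.iter_sr, zpow_natCast])⟩, fun h => ?_⟩
  obtain ⟨n, -, hn⟩ := h.exists_pow_eq'
  exact ⟨n, by rw [H.iter_sr, hn]⟩

theorem B_pow (n : ℕ) (i j : D.I) : B D ((D.σ ^ n) i) ((D.σ ^ n) j) = B D i j := by
  rw [B, ← H.iter_sr, ← H.iter_sr, H.cpr_iter (rs i) (rs j)]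

theorem B_σ (i j : D.I) : B D (D.σ i) (D.σ j) = B D i j := H.B_pow 1 i j

theorem orb_pos {i j : D.I} (hj : D.σ.SameCycle i j) :
    0 < ∑ x ∈ Finset.univ.filter (D.σ.SameCycle i), B D x j := by
  have h1 : ∀ (n : ℕ) (y : D.I), ∑ x ∈ Finset.univ.filter (D.σ.SameCycle i), B D x ((D.σ ^ n) y) =
      ∑ x ∈ Finset.univ.filter (D.σ.SameCycle i), B D x y := fun n y =>
    (Finset.sum_equiv (D.σ ^ n) (fun x => by simp) fun x _ => (H.B_pow n x y).symm).symm
  have h2 : ∀ y, (∑ x ∈ Finset.univ.filter (D.σ.SameCycle i), (sr x : D.I → ℤ)) y = if D.σ.SameCycle i y then 1 else 0 :=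
    fun y => by simp [Finset.sum_apply, sr, Pi.single_apply]
  obtain ⟨y, h3, h4⟩ := exists_cpr_pos (D := D) (v := ∑ x ∈ Finset.univ.filter (D.σ.SameCycle i), sr x)
    (Finset.sum_nonneg fun x _ => sr_nonneg x) fun e => by
      have := h2 i
      rw [e, if_pos (Equiv.Perm.SameCycle.refl _ _)] at this
      exact zero_ne_one this
  rw [h2] at h3
  have h5 : D.σ.SameCycle i y := by_contra fun h => by rw [if_neg h] at h3; exact h3.false
  obtain ⟨n, -, rfl⟩ := (h5.symm.trans hj).exists_pow_eq'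
  rw [← el_apply, map_sum] at h4
  rw [h1]
  exact h4

theorem orb_le {i : D.I} {s : Finset D.I} (hi : i ∈ s) (hs : ∀ j ∈ s, D.σ.SameCycle i j) : 0 < ∑ x ∈ s, B D x i :=
  (H.orb_pos (Equiv.Perm.SameCycle.refl _ i)).trans_le (Finset.sum_le_sum_of_subset_of_nonpos'
    (fun j hj => by simpa using hs j hj) fun j _ hj => B_le fun e => hj (e ▸ hi))

theorem nb_one {i j : D.I} (hj : D.σ.SameCycle i j) (h : B D j i < 0) : B D j i = -1 := by
  have hne : i ≠ j := fun e => by rw [e, B_self] at h; omega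
  have := H.orb_le (i := i) (s := {i, j}) (by simp) (by simp [hj, Equiv.Perm.SameCycle.refl])
  rw [Finset.sum_pair hne, B_self] at this
  omega

theorem nb_two {i j l : D.I} (hj : D.σ.SameCycle i j) (hl : D.σ.SameCycle i l) (h : B D j i < 0) (h' : B D l i < 0) :
    j = l := by
  by_contra h3
  have h1 : i ≠ j := fun e => by rw [e, B_self] at h; omega
  have h2 : i ≠ l := fun e => by rw [e, B_self] at h'; omega
  have := H.orb_le (i := i) (s := {i, j, l}) (by simp) (by simp [hj, hl, Equiv.Perm.SameCycle.refl])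
  rw [Finset.sum_insert (by simp [h1, h2]), Finset.sum_pair h3, B_self] at this
  omega

/-- the roots supported on an orbit -/
theorem Op_cases {i : D.I} {a : D.I → ℤ} (ha : a ∈ Op D i) : (∃ j, D.σ.SameCycle i j ∧ a = sr j) ∨
    ∃ j l, D.σ.SameCycle i j ∧ D.σ.SameCycle i l ∧ B D j l = -1 ∧ a = sr j + sr l := by
  obtain ⟨n, hn⟩ : ∃ n : ℕ, ht a = n := ⟨(ht a).toNat, (Int.toNat_of_nonneg (D.ht_pos_of_pos a ⟨ha.1, ha.2.1⟩).le).symm⟩
  induction n using Nat.strong_induction_on generalizing a with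
  | _ n ih =>
  obtain ⟨j, h1, h2⟩ := exists_cpr_pos ha.2.1 ha.1.ne_zero
  have hj : D.σ.SameCycle i j := H.so_iff.1 (by_contra fun h => h1.ne' (ha.2.2 j h))
  by_cases e1 : a = sr j
  · exact Or.inl ⟨j, hj, e1⟩
  have h3 : rep D.cs D.h (D.cs.simple j) a ∈ Op D i := ⟨ha.1.act _, ha.1.simple_nonneg ha.2.1 j e1, fun l hl => by
    rw [rep_simple_apply D.cs D.h j a l fun e => hl (by rw [e]; exact H.so_iff.2 hj), ha.2.2 l hl]⟩
  have h4 := ht_simple D.cs D.h j a
  have h5 := D.ht_pos_of_pos _ ⟨h3.1, h3.2.1⟩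
  rw [htHom_apply] at h5
  rw [← cpr_sr D.cs D.h] at h4
  have h6 := ih (ht (rep D.cs D.h (D.cs.simple j) a)).toNat (by omega) h3 (by omega)
  rw [rep_simple_eq, ← cpr_sr D.cs D.h] at h6
  have h7 : cpr D.cs D.h (a - cpr D.cs D.h a (sr j) • sr j) (sr j) = -cpr D.cs D.h a (sr j) := by
    rw [cpr_sub, cpr_smul', cpr_self _ _ (rs j)]
    ring
  rcases h6 with ⟨l, hl, e⟩ | ⟨l, m, hl, hm, h8, e⟩
  · rw [e] at h7
    have h9 := H.nb_one (hj.symm.trans hl) (show B D l j < 0 by rw [B, h7]; omega)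
    refine Or.inr ⟨l, j, hl, hj, h9, ?_⟩
    rw [← e, show cpr D.cs D.h a (sr j) = 1 by rw [B, h7] at h9; omega, one_smul, sub_add_cancel]
  · exfalso
    rw [e, cpr_add'] at h7
    have h9 : B D l j + B D m j < 0 := by rw [B, B, h7]; omega
    have hne : l ≠ m := fun e => by rw [e, B_self] at h8; omega
    have h10 := H.nb_one (hl.symm.trans hm) (B_neg hne (by omega)).2
    by_cases e2 : j = l
    · rw [e2, B_self] at h9
      omega
    by_cases e3 : j = m
    · rw [e3, B_self] at h9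
      omega
    by_cases h11 : B D l j < 0
    · exact e3 (H.nb_two (hl.symm.trans hj) (hl.symm.trans hm) (B_neg (Ne.symm e2) h11.ne).2 (by omega))
    · have := B_le (Ne.symm e2)
      exact e2 (H.nb_two (hm.symm.trans hj) (hm.symm.trans hl) (B_neg (Ne.symm e3) (by omega)).2 (by omega))

theorem sz_iter {a : D.I → ℤ} (ha : D.Rt a) (n : ℕ) (h : D.g^[n] a ∈ D.Sz (TL D)) {t : Y} (ht : t ∈ D.T) (ht' : t ∈ LL D) :
    D.χ a t = 1 := by
  have h1 := H.χ_pow ha ht n
  rw [pow_fix (LL_fix ht'), h.2 t ⟨ht, ht'⟩, ← pow_mul] at h1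
  have h2 : (D.χ a t - 1) ^ p ^ (e * n) = 0 := by rw [sub_pow_char_pow, ← h1, one_pow, sub_self]
  exact sub_eq_zero.1 (pow_eq_zero_iff (pow_ne_zero _ (Fact.out : p.Prime).ne_zero) |>.1 h2)

end Cx

end Cfsg.Agent.TH.Ab.Cmp
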