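import Cfsg.Agent.TH.Ex.Ab.Defs

/-!
# S3541, `BoxMax` : the sub-boxes (helper10)

`BoxComp2` (`BoxComp` with a sharper exception), `BoxOrd` (prime divisors of the order of a small group), `BoxPos` (the number
of positive roots), `BoxFX` (facts on the root systems), `BoxNum` (the numerical end).
-/

set_option autoImplicit false
set_option linter.unusedSectionVars false

namespace Cfsg.Agent.TH.Ab

open CoxeterSystem Cfsg Cfsg.Lie Cfsg.Lie.ChevalleyDatum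
open Cfsg.Agent.ChevalleyStructure Cfsg.Agent.ChevalleyStructure.CoxeterGeom
  Cfsg.Agent.ChevalleyStructure.CoxeterGeomTypes
open Cfsg.Agent.Tits.Roots Cfsg.Agent.Nodes Cfsg.Agent.Nodes.Reps Cfsg.Agent.Nodes.BNOf
  Cfsg.Agent.Nodes.RGDChev Cfsg.Agent.Nodes.Coroot Cfsg.Agent.BpExc.Zc Cfsg.Agent.DS.Ex
open Cfsg.Agent.SB.Exc.Max (HE DC Shp Iso)

/-- [COMP2] `BoxComp`; in the exceptional case the double bond spans a component of the subsystem -/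
def BoxComp2 : Prop := ∀ (p : ℕ) [Fact p.Prime] (k : Type) [Field k] [CharP k p] [IsAlgClosed k] (Y : Type) [Group Y]
  (N : Type) [Fintype N] [DecidableEq N] (ρ : Y →* GL N k) (σ : MulAut Y) (G : Subgroup Y) (D : DL.Datum p ρ σ G) (e : ℕ)
  (Z : Set Y), 0 < e → (∀ a, D.Rt a → D.ex a = e) → CommZ D.cs D.h D.X → Z ⊆ D.T → (∀ a ∈ D.Sz Z, D.g a ∈ D.Sz Z) →
    (∀ a ∈ D.Sz Z, ∀ b ∈ D.Sz Z, cpr D.cs D.h a b ≤ 2) →
    ∀ E : Subgroup ↥(PE p σ (D.S (D.Sz Z))), IsComponent E →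
      FixBN.HasSplit p (↥E ⧸ Subgroup.center ↥E) ∨
      (p ^ e = 2 ∧ ∃ a ∈ D.Sz Z, ∃ b ∈ D.Sz Z, a ≠ b ∧ cpr D.cs D.h a b = 2 ∧
        ∀ c ∈ D.Sz Z, (cpr D.cs D.h c a = 0 ∧ cpr D.cs D.h c b = 0) ∨ ∃ i j : ℤ, c = i • a + j • b)

/-- [ORD] a rational element of prime order `s ∤ p (p² - 1)` of a group of type `A₁ ^ a (²A₂) ^ b` over `𝔽_p` is central -/
def BoxOrd : Prop := ∀ (p : ℕ) [Fact p.Prime] (k : Type) [Field k] [CharP k p] [IsAlgClosed k] (Y : Type) [Group Y]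
  (N : Type) [Fintype N] [DecidableEq N] (ρ : Y →* GL N k) (σ : MulAut Y) (G : Subgroup Y) (D : DL.Datum p ρ σ G),
    (∀ a, D.Rt a → D.ex a = 1) → CommZ D.cs D.h D.X → DC D.cs D.h D.X → HE p σ (D.S {a | D.Rt a}) →
    ∀ y ∈ G, σ y = y → ∀ s : ℕ, s.Prime → s ≠ p → ¬ s ∣ p ^ 2 - 1 → y ^ s = 1 → y ∈ D.T ∧ ∀ a, D.Rt a → D.χ a y = 1

/-- [POS] the number of positive roots of a subsystem of type `A₁ ^ a A₂ ^ b` -/
def BoxPos : Prop := ∀ (p : ℕ) [Fact p.Prime] (k : Type) [Field k] [CharP k p] [IsAlgClosed k] (Y : Type) [Group Y]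
  (N : Type) [Fintype N] [DecidableEq N] (ρ : Y →* GL N k) (σ : MulAut Y) (G : Subgroup Y) (D : DL.Datum p ρ σ G)
  (Z : Set Y), Z ⊆ D.T → (∀ a ∈ D.Sz Z, D.g a ∈ D.Sz Z) → Shp D.cs D.h (D.Sz Z) →
    2 * (RGD.Pos D.cs D.h ∩ D.Sz Z).ncard ≤ 3 * Fintype.card D.I ∧
    (Iso D.cs D.h (D.Sz Z) → (RGD.Pos D.cs D.h ∩ D.Sz Z).ncard ≤ Fintype.card D.I)

/-- no triple bond; the roots orthogonal to a double bond (this is vacuous in the simply laced case) -/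
structure FX {I W : Type*} [Fintype I] [DecidableEq I] [Group W] {M : CoxeterMatrix I} (cs : CoxeterSystem M W)
    {A : I → I → ℤ} (h : IsCartan M A) : Prop where
  le_two : ∀ a b, IsRoot cs h a → IsRoot cs h b → cpr cs h a b ≤ 2
  ext : ∀ a b c, IsRoot cs h a → IsRoot cs h b → IsRoot cs h c → a ≠ b → cpr cs h a b = 2 → cpr cs h c a = 0 →
    cpr cs h c b = 0 → ∃ r, IsRoot cs h r ∧ (cpr cs h r a ≠ 0 ∨ cpr cs h r b ≠ 0) ∧ cpr cs h r c ≠ 0 ∧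
      ∃ i j m : ℤ, (2 : ℤ) • r = i • a + j • b + m • c
  perp : ∀ a b, IsRoot cs h a → IsRoot cs h b → a ≠ b → cpr cs h a b = 2 → ∃ a' b', IsRoot cs h a' ∧ IsRoot cs h b' ∧
    a' ≠ b' ∧ cpr cs h a' b' = 2 ∧ cpr cs h a' a = 0 ∧ cpr cs h a' b = 0 ∧ cpr cs h b' a = 0 ∧ cpr cs h b' b = 0

/-- [FX] -/
def BoxFX : Prop := ∀ (D : ChevalleyDatum) (l : ℕ) (M : CoxeterMatrix (Fin l)) (hp : IsType D l M), Typ D →
  FX M.toCoxeterSystem hp.isCartan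

/-- the order of the Weyl group -/
def cW (l : ℕ) : ℕ := if l = 4 then 1152 else if l = 6 then 51840 else if l = 7 then 2903040 else 696729600

/-- [NUM] the numerical end: `q = p`, `X₀ ⊴ H` of index dividing `|W|` in `H ⊓ T` -/
def BoxNum : Prop := ∀ (D : ChevalleyDatum) (l : ℕ) (M : CoxeterMatrix (Fin l)), IsType D l M →
  ∀ (tw : Bool) (p : ℕ) (G : Type) [Group G] [Finite G] (T H E : Subgroup G) (m r : ℕ), XC D tw T H E m p 1 r →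
    ∀ X₀ : Subgroup G, X₀ ≤ H ⊓ T → (∀ h ∈ H, ∀ x ∈ X₀, h * x * h⁻¹ ∈ X₀) → X₀.relIndex (H ⊓ T) ∣ cW l →
      p ∣ Nat.card X₀ → (∀ s : ℕ, s.Prime → s ∣ Nat.card X₀ → s = p ∨ s ∣ p ^ 2 - 1) →
      ¬ p ^ (3 * l / 2 + 1) ∣ Nat.card X₀ → (p ≠ 2 → Nat.card (Sylow p X₀) ≤ (p + 1) ^ l) → False

end Cfsg.Agent.TH.Ab
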