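import Cfsg.Agent.TH.Ex.Ab.CompCfg
import Cfsg.Agent.TH.Ex.Ab.MaxDefs

/-!
# S3541, `BoxComp2`: the three parts (helper37)

`BoxRel` (the relative diagram of a quasi-split datum, group theory), `BoxRt` (the statement for a quasi-split datum and
all roots).  `BoxRel → BoxRt → BoxComp2`.
-/

set_option autoImplicit false
set_option linter.unusedSectionVars false
set_option linter.unusedVariables false

namespace Cfsg.Agent.TH.Ab.Cmp

open CoxeterSystem Cfsg.Agent.ChevalleyStructure.CoxeterGeom Cfsg.Agent.Tits.Roots Cfsg.Agent.Nodes.Reps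
  Cfsg.Agent.Nodes.BNOf Cfsg.Agent.Nodes.Bruhat Cfsg.Agent.LangThm Cfsg.Agent.Nodes.SubComb
  Cfsg.Agent.Nodes.Coroot Cfsg.Agent.Nodes.Slope Cfsg.Agent.Nodes.NormalForm Cfsg.Agent.DL.Base Cfsg.Agent.DL
  Cfsg.Agent.BpExc.Zc Cfsg.Agent.SB.Exc.Max
open scoped Pointwise commutatorElement

section Defs

variable {p : ℕ} [Fact p.Prime] {k : Type} [Field k] [CharP k p] {Y : Type} [Group Y] {N : Type} [Fintype N]
  [DecidableEq N] {ρ : Y →* GL N k} {F : MulAut Y} {G : Subgroup Y} [IsAlgClosed k] (D : Datum p ρ F G)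

/-- the simple roots `i`, `j` lie in one orbit -/
def So (i j : D.I) : Prop := ∃ n : ℕ, D.g^[n] (sr i) = sr j

/-- the positive roots supported on the orbit of `i` -/
def Op (i : D.I) : Set (D.I → ℤ) := {a | D.Rt a ∧ 0 ≤ a ∧ ∀ j, ¬ So D i j → a j = 0}

/-- the relative root group -/
def XO (i : D.I) : Subgroup Y := D.S (Op D i) ⊓ DL.fix F

/-- a connected component of the relative diagram -/
structure Cn (J : Set D.I) : Prop where
  ne : J.Nonempty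
  st : ∀ i ∈ J, ∀ j, So D i j → j ∈ J
  cl : ∀ i ∈ J, ∀ j ∉ J, cpr D.cs D.h (sr i) (sr j) = 0
  irr : ∀ J' ⊆ J, (∀ i ∈ J', ∀ j, So D i j → j ∈ J') → J'.Nonempty → (J \ J').Nonempty →
    ∃ i ∈ J', ∃ j ∈ J \ J', cpr D.cs D.h (sr i) (sr j) ≠ 0

end Defs

/-- [REL] the components of `LL D` and the relative diagram -/
def BoxRel : Prop := ∀ (p : ℕ) [Fact p.Prime] (k : Type) [Field k] [CharP k p] [IsAlgClosed k] (Y : Type) [Group Y]
  (N : Type) [Fintype N] [DecidableEq N] (ρ : Y →* GL N k) (F : MulAut Y) (G : Subgroup Y) (D : Datum p ρ F G) (e : ℕ),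
    Cx D e → ∀ E : Subgroup ↥(LL D), IsComponent E → ∃ J, Cn D J ∧
      ((∀ i ∈ J, XO D i ≤ RR D) → FixBN.HasSplit p (↥E ⧸ Subgroup.center ↥E)) ∧
      ∀ i, (∀ j ∈ J, So D i j) → 4 ≤ Nat.card (XO D i) ∧
        (Nat.card (XO D i) = 8 → ∃ t ∈ D.T, F t = t ∧ ∃ x ∈ XO D i, t ^ 3 * x ≠ x * t ^ 3)

/-- [RT] `BoxComp2` for a quasi-split datum and the set of all roots -/
def BoxRt : Prop := ∀ (p : ℕ) [Fact p.Prime] (k : Type) [Field k] [CharP k p] [IsAlgClosed k] (Y : Type) [Group Y]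
  (N : Type) [Fintype N] [DecidableEq N] (ρ : Y →* GL N k) (F : MulAut Y) (G : Subgroup Y) (D : Datum p ρ F G) (e : ℕ),
    Cx D e → ∀ E : Subgroup ↥(LL D), IsComponent E →
      FixBN.HasSplit p (↥E ⧸ Subgroup.center ↥E) ∨
      (p ^ e = 2 ∧ ∃ a b, D.Rt a ∧ D.Rt b ∧ a ≠ b ∧ cpr D.cs D.h a b = 2 ∧
        ∀ c, D.Rt c → (cpr D.cs D.h c a = 0 ∧ cpr D.cs D.h c b = 0) ∨ ∃ i j : ℤ, c = i • a + j • b)

end Cfsg.Agent.TH.Ab.Cmp
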