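import Cfsg.Agent.TH.Ex.Ab.CompDia

/-!
# S3541, `BoxComp2`: the root half (helper37)

`boxRt_of : BoxRel → BoxRt`.
-/

set_option autoImplicit false
set_option linter.unusedSectionVars false
set_option linter.unusedVariables false

namespace Cfsg.Agent.TH.Ab.Cmp

open CoxeterSystem Cfsg.Agent.ChevalleyStructure.CoxeterGeom Cfsg.Agent.Tits.Roots Cfsg.Agent.Nodes.Reps
  Cfsg.Agent.Nodes.BNOf Cfsg.Agent.Nodes.Bruhat Cfsg.Agent.LangThm Cfsg.Agent.Nodes.SubComb
  Cfsg.Agent.Nodes.Coroot Cfsg.Agent.Nodes.Slope Cfsg.Agent.Nodes.NormalForm Cfsg.Agent.DL.Base Cfsg.Agent.DL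
  Cfsg.Agent.BpExc.Zc Cfsg.Agent.SB.Exc.Max
open scoped Pointwise commutatorElement

variable {p : ℕ} [Fact p.Prime] {k : Type} [Field k] [CharP k p] {Y : Type} [Group Y] {N : Type} [Fintype N]
  [DecidableEq N] {ρ : Y →* GL N k} {F : MulAut Y} {G : Subgroup Y} [IsAlgClosed k] {D : Datum p ρ F G}

variable (D) in
/-- the exception -/
def Exc (e : ℕ) : Prop := p ^ e = 2 ∧ ∃ a b, D.Rt a ∧ D.Rt b ∧ a ≠ b ∧ cpr D.cs D.h a b = 2 ∧
  ∀ c, D.Rt c → (cpr D.cs D.h c a = 0 ∧ cpr D.cs D.h c b = 0) ∨ ∃ i j : ℤ, c = i • a + j • b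

theorem card_sol {C : k} (hC : C ≠ 0) {n : ℕ} (hn : 0 < n) : Nat.card {s : k | C * s ^ p ^ n = s} = p ^ n :=
  (Nat.card_coe_set_eq _).trans (ncard_sol hC hn)

namespace Cx

variable {e : ℕ} (H : Cx D e)
include H

/-! ### fixed roots -/

theorem hd_refl {b c : D.I → ℤ} (hb : D.Rt b) (gb : D.g b = b) (hc : D.Rt c) (h : Hd D c) {d : D.I → ℤ}
    (hd : d = c - cpr D.cs D.h c b • b) : Hd D d := fun y hy Fy => by
  obtain ⟨u, hu, Fu, u1⟩ := H.exists_fix_one hb gb
  obtain ⟨v, hv, v', hv', hm⟩ := exists_m hb hu u1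
  have m1 := H.nm_m hb (ort_of_fix gb) hu hv hv' hm (by rw [per_eq_one gb, pow_one, Fu])
  rw [per_eq_one gb, nm_one] at m1
  generalize v * u * v' = m at hm m1
  rw [hd, ← D.act_rf hb] at hy
  have h2 := D.conj_mem hm (hc.act _) hy
  rw [← Datum.act, ← act_mul, D.rf_mul_self hb, act_one] at h2
  have h3 := conj_RR (inv_mem m1) (h _ h2 (by rw [map_mul, map_mul, map_inv, LL_fix m1, Fy]))
  rwa [inv_inv, ← mul_assoc, ← mul_assoc, inv_mul_cancel, one_mul, inv_mul_cancel_right] at h3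

theorem hd_nb (he : e = 1) {c b : D.I → ℤ} (hc : D.Rt c) (hb : D.Rt b) (gc : D.g c = c) (gb : D.g b = b)
    (h1 : cpr D.cs D.h c b = -1) (h2 : cpr D.cs D.h b c = -1) : Hd D c :=
  H.hd_refl hb gb (rt_add hc hb h1) (H.hd_a2 he hc hb gc gb h1 h2) (by
    rw [cpr_add', h1, cpr_self _ _ hb, show (-1 + 2 : ℤ) = 1 from rfl, one_smul, add_sub_cancel_right])

theorem hd_dbl (he : e = 1) {a b : D.I → ℤ} (ha : D.Rt a) (hb : D.Rt b) (ga : D.g a = a) (gb : D.g b = b)
    (h1 : cpr D.cs D.h a b = -1) (h2 : cpr D.cs D.h b a = -2) : Hd D a ↔ Hd D b := by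
  have h3 := H.hd_b2 he ha hb ga gb h1 h2
  have e1 : b + (2 : ℤ) • a = b - cpr D.cs D.h b a • a := by rw [h2, neg_smul, sub_neg_eq_add]
  constructor
  · refine fun h => H.hd_refl ha ga (e1 ▸ isRoot_refl D.cs D.h hb ha)
      (h3.1 (H.hd_refl hb gb ha h (add_of_neg_one h1).symm)) ?_
    rw [cpr_add', cpr_smul', h2, cpr_self _ _ ha, show (-2 + 2 * 2 : ℤ) = 2 from rfl, add_sub_cancel_right]
  · refine fun h => H.hd_refl hb gb (rt_add ha hb h1) (h3.2 (H.hd_refl ha ga hb h e1)) ?_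
    rw [cpr_add', h1, cpr_self _ _ hb, show (-1 + 2 : ℤ) = 1 from rfl, one_smul, add_sub_cancel_right]

theorem g_fix {i : D.I} (gi : D.σ i = i) : D.g (sr i) = sr i := by rw [H.qs.g_sr, gi]

/-- a fixed node with a simple bond -/
theorem hd_one (he : e = 1) {i j : D.I} (gi : D.σ i = i) (h1 : B D i j = -1) (h2 : B D j i = -1) : Hd D (sr i) := by
  have gc := H.g_fix gi
  by_cases e1 : D.σ j = j
  · exact H.hd_nb he (rs i) (rs j) gc (H.g_fix e1) h1 h2
  have nx : ∀ {l : D.I}, B D i l = -1 ∧ B D l i = -1 → B D i (D.σ l) = -1 ∧ B D (D.σ l) i = -1 := fun {l} h => by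
    have a1 := H.B_σ i l
    have a2 := H.B_σ l i
    rw [gi] at a1 a2
    rwa [a1, a2]
  have ort : ∀ {l m : D.I}, B D i l = -1 ∧ B D l i = -1 → B D i m = -1 ∧ B D m i = -1 → l ≠ m → B D l m = 0 :=
    fun {l m} hl hm h => by_contra fun h0 => no_tri (i := i) (j := l) (l := m) (by omega) (B_neg h h0).1 (by omega)
  have n2 := nx ⟨h1, h2⟩
  have o12 := ort ⟨h1, h2⟩ n2 (Ne.symm e1)
  have o21 := B_zero.1 o12
  have ci := B_self i
  have c1 := B_self j
  have c2 := B_self (D.σ j)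
  have r1 := rt_add (rs (D.σ j)) (rs i) n2.2
  have k1 : cpr D.cs D.h (sr j) (sr (D.σ j) + sr i) = -1 := by
    rw [cpr_sum (rs _) (rs i) n2.2, ← B, ← B, ← B, o12, h2, n2.1]; rfl
  have k1' : cpr D.cs D.h (sr (D.σ j) + sr i) (sr j) = -1 := by rw [cpr_add', ← B, ← B, o21, h1]; rfl
  have r2 := rt_add (rs j) r1 k1
  have g2 : D.g (sr j + (sr (D.σ j) + sr i)) = sr (D.σ j) + (sr (D.σ (D.σ j)) + sr i) := by
    rw [g_add H.ex (rs j) r1 r2, g_add H.ex (rs _) (rs i) r1, gc, H.qs.g_sr, H.qs.g_sr]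
  by_cases e2 : D.σ (D.σ j) = j
  · have gn : D.g (-sr j) = -sr (D.σ j) := by rw [D.g_neg (rs j), H.qs.g_sr]
    have := H.hd_a3 he (rs j).neg r2 (by rw [gn, D.g_neg (rs _), H.qs.g_sr, e2]) (by rw [g2, e2, add_left_comm])
      (by rw [gn, cpr_neg', cpr_neg_right _ _ _ (rs j), ← B, o21]; rfl)
      (by rw [cpr_neg', cpr_sum (rs j) r1 k1, ← B, c1, k1, k1']; rfl)
      (by rw [cpr_neg_right _ _ _ (rs j), cpr_add', k1', ← B, c1]; rfl)
    rw [gn] at this
    convert this using 1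
    abel
  have n3 := nx n2
  have e3 : D.σ (D.σ j) ≠ D.σ j := fun h => e1 (D.σ.injective h)
  have o13 := ort ⟨h1, h2⟩ n3 (Ne.symm e2)
  have o31 := B_zero.1 o13
  have o23 := ort n2 n3 e3.symm
  have o32 := B_zero.1 o23
  have c3 := B_self (D.σ (D.σ j))
  have e4 : D.σ (D.σ (D.σ j)) = j := by
    by_contra e4
    have n4 := nx n3
    have o14 := ort ⟨h1, h2⟩ n4 (Ne.symm e4)
    have o24 := ort n2 n4 fun h => e2 (D.σ.injective h).symm
    have o34 := ort n3 n4 fun h => e3 (D.σ.injective h).symm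
    have o41 := B_zero.1 o14
    have o42 := B_zero.1 o24
    have o43 := B_zero.1 o34
    refine no_vec [(2, i), (1, j), (1, D.σ j), (1, D.σ (D.σ j)), (1, D.σ (D.σ (D.σ j)))] (by simp) (by simp) ?_
    simp only [List.mem_cons, List.not_mem_nil, or_false, forall_eq_or_imp, forall_eq, List.map_cons, List.map_nil,
      List.sum_cons, List.sum_nil, B_self]
    omega
  have k2 : cpr D.cs D.h (sr (D.σ (D.σ j))) (sr (D.σ j) + sr i) = -1 := by
    rw [cpr_sum (rs _) (rs i) n2.2, ← B, ← B, ← B, o32, n3.2, n2.1]; rfl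
  have k3 : cpr D.cs D.h (sr (D.σ (D.σ j))) (sr j + (sr (D.σ j) + sr i)) = -1 := by
    rw [cpr_sum (rs j) r1 k1, ← B, o31, k2, k1']; rfl
  have r3 := rt_add (rs _) r2 k3
  refine H.hd_nb he (rs i) r3 gc ?_ ?_ ?_
  · rw [g_add H.ex (rs _) r2 r3, g2, H.qs.g_sr, e4]
    abel
  · rw [cpr_sum (rs _) r2 k3, cpr_sum (rs j) r1 k1, cpr_sum (rs _) (rs i) n2.2, k1', cpr_add', cpr_add']
    simp only [n3.1, h1, n2.1, ci, o13, o23]
    rfl
  · rw [cpr_add', cpr_add', cpr_add']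
    simp only [n3.2, h2, n2.2, ci]
    rfl

/-- a double bond at a fixed node -/
theorem hd_two (he : e = 1) {J : Set D.I} (hJ : Cn D J) {i j : D.I} (hi : i ∈ J) (gi : D.σ i = i ∨ D.σ j = j)
    (h1 : B D i j = -1) (h2 : B D j i = -2) : (Hd D (sr i) ∧ Hd D (sr j)) ∨ Exc D e := by
  have hp : p.Prime := Fact.out
  have hj : j ∈ J := by_contra fun h => by have := hJ.cl i hi j h; rw [← B] at this; omega
  have hfix : D.σ i = i ∧ D.σ j = j := by
    have a1 := H.B_σ i j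
    have a2 := H.B_σ j i
    rcases gi with h | h <;> rw [h] at a1 a2
    · refine ⟨h, by_contra fun h3 => ?_⟩
      have := star (i := i) (j := D.σ j) (l := j) (by omega) (by omega) h3
      rw [a1, a2, h1, h2] at this
      omega
    · refine ⟨by_contra fun h3 => ?_, h⟩
      have := star (i := j) (j := D.σ i) (l := i) (by omega) (by omega) h3
      rw [a1, a2, h1, h2] at this
      omega
  have g1 := H.g_fix hfix.1
  have g2 := H.g_fix hfix.2
  have h3 := H.hd_dbl he (rs i) (rs j) g1 g2 h1 h2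
  by_cases hp2 : p = 2
  swap
  · obtain ⟨t, t1, t2, t3⟩ := H.tor_one (rs j) (ort_of_fix g2) (rs i) (fun n hn => (hn (Function.iterate_fixed g2 n)).elim)
      (l := -1) (by simp) (((hp.odd_of_ne_two hp2).pow).neg_one_pow) (by
        rw [← B, h1, zpow_neg_one, inv_neg, inv_one]
        exact fun h => hp2 ((Nat.prime_dvd_prime_iff_eq hp Nat.prime_two).1 ((CharP.cast_eq_zero_iff k p 2).1 (by
          push_cast
          linear_combination -h))))
    have h4 := H.hd_of_tor (rs i) g1 t1 t2 t3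
    exact Or.inl ⟨h4, h3.1 h4⟩
  by_cases h4 : (J \ {i, j}).Nonempty
  · obtain ⟨c, hc, d, hd, h5⟩ := hJ.irr {i, j} (by rintro _ (rfl | rfl); exacts [hi, hj]) (by
      rintro _ (rfl | rfl) l ⟨n, hn⟩
      · rw [Function.iterate_fixed g1] at hn
        exact Or.inl (sr_inj hn).symm
      · rw [Function.iterate_fixed g2] at hn
        exact Or.inr (sr_inj hn).symm) ⟨i, Or.inl rfl⟩ h4
    have h6 := B_neg (i := c) (j := d) (fun e => hd.2 (e ▸ hc)) h5
    have h7 := H.B_ge c d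
    have h8 := H.B_ge d c
    rcases hc with rfl | rfl
    · have h9 := star (i := c) (j := j) (l := d) (by omega) h6.1 fun e => hd.2 (Or.inr e.symm)
      rw [h1, h2] at h9
      have h10 := H.hd_one he (j := d) hfix.1 (by nlinarith [h6.1, h6.2]) (by nlinarith [h6.1, h6.2])
      exact Or.inl ⟨h10, h3.1 h10⟩
    · have h9 := star (i := c) (j := i) (l := d) (by omega) h6.1 fun e => hd.2 (Or.inl e.symm)
      rw [h1, h2] at h9
      have h10 := H.hd_one he (j := d) hfix.2 (by nlinarith [h6.1, h6.2]) (by nlinarith [h6.1, h6.2])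
      exact Or.inl ⟨h3.2 h10, h10⟩
  · have hij : i ≠ j := fun e => by rw [e, B_self] at h1; omega
    have h5 : ∀ l ∈ J, l = i ∨ l = j := fun l hl => by_contra fun h => h4 ⟨l, hl, h⟩
    refine Or.inr ⟨by rw [he, hp2, pow_one], -sr j, sr i, (rs j).neg, rs i, fun e => ?_, by rw [cpr_neg', ← B, h2]; rfl,
      fun c hc => ?_⟩
    · have := congrFun e i
      rw [Pi.neg_apply, sr_self, sr_ne hij] at this
      omega
    · rcases supp hJ.cl hc with h6 | h6
      · refine Or.inr ⟨-c j, c i, funext fun l => ?_⟩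
        simp only [Pi.add_apply, Pi.smul_apply, Pi.neg_apply, smul_eq_mul]
        by_cases e1 : l = i
        · rw [e1, sr_self, sr_ne hij]; ring
        by_cases e2 : l = j
        · rw [e2, sr_self, sr_ne hij.symm]; ring
        rw [sr_ne e1, sr_ne e2, h6 l fun h => (h5 l h).elim e1 e2]; ring
      · have key : ∀ l ∈ J, cpr D.cs D.h c (sr l) = 0 := fun l hl => by
          rw [cpr_exp]
          refine Finset.sum_eq_zero fun m _ => ?_
          by_cases hm : m ∈ J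
          · rw [h6 m hm, zero_mul]
          · rw [show cpr D.cs D.h (sr m) (sr l) = 0 from B_zero.1 (hJ.cl l hl m hm), mul_zero]
        exact Or.inl ⟨by rw [cpr_neg_right _ _ _ (rs j), key j hj, neg_zero], key i hi⟩

theorem hd_fix (he : e = 1) {J : Set D.I} (hJ : Cn D J) {i j : D.I} (hi : i ∈ J) (hj : j ∈ J) (gi : D.σ i = i)
    (hij : i ≠ j) (h : B D i j ≠ 0) : Hd D (sr i) ∨ Exc D e := by
  have h1 := B_neg hij h
  have h2 := H.B_ge i j
  have h3 := H.B_ge j i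
  by_cases e1 : B D i j = -1
  · by_cases e2 : B D j i = -1
    · exact Or.inl (H.hd_one he gi e1 e2)
    · exact (H.hd_two he hJ hi (Or.inl gi) e1 (by omega)).imp_left And.left
  · by_cases e2 : B D j i = -1
    · exact (H.hd_two he hJ hj (Or.inr gi) e2 (by omega)).imp_left And.right
    · exact (no_four (i := i) (j := j) (by omega) (by omega)).elim

theorem card_X {c : D.I → ℤ} (hc : D.Rt c) (gc : D.g c = c) : Nat.card ↥(D.X c ⊓ DL.fix F) = p ^ e := by
  rw [← card_sol (cF_ne (D := D) c) H.he]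
  refine (Nat.card_congr (Equiv.ofBijective (fun s : {s : k | cF D c * s ^ p ^ e = s} =>
    (⟨D.x c s, D.x_mem hc _, mem_fix.2 (by rw [F_x hc, gc, H.ex c hc, s.2])⟩ : ↥(D.X c ⊓ DL.fix F))) ⟨?_, ?_⟩)).symm
  · exact fun s t h => Subtype.ext (D.x_inj c hc (congrArg Subtype.val h))
  · rintro ⟨y, hy, Fy⟩
    obtain ⟨s, rfl⟩ := (D.mem_X c hc y).1 hy
    replace Fy := mem_fix.1 Fy
    rw [F_x hc, gc, H.ex c hc] at Fy
    exact ⟨⟨s, D.x_inj c hc Fy⟩, rfl⟩

theorem small {n : ℕ} (hn : 0 < n) (h : ¬ 3 < p ^ (e * n)) : e = 1 ∧ n = 1 := by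
  have h1 := H.he
  have h2 : ¬ 2 ≤ n := fun h2 => h (H.lt_pow h2)
  refine ⟨by_contra fun h3 => h ?_, by omega⟩
  calc 3 < 2 ^ 2 := by norm_num
    _ ≤ p ^ 2 := Nat.pow_le_pow_left (Fact.out : p.Prime).two_le 2
    _ ≤ _ := Nat.pow_le_pow_right (Fact.out : p.Prime).pos (by rw [show n = 1 by omega]; omega)

theorem not_sz {a b : D.I → ℤ} (ha : D.Rt a) (h : ∃ t ∈ D.T, t ∈ LL D ∧ D.χ a t ≠ 1) (hb : ∃ n, D.g^[n] a = b) :
    b ∉ D.Sz (TL D) := fun h1 => by
  obtain ⟨t, t1, t2, t3⟩ := h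
  obtain ⟨n, rfl⟩ := hb
  exact t3 (H.sz_iter ha n h1 t1 t2)

/-- orbits of orthogonal simple roots -/
theorem xo_ort {J : Set D.I} (hJ : Cn D J) {i : D.I} (hi : i ∈ J) (h4 : (∀ j ∈ J, So D i j) → 4 ≤ Nat.card (XO D i))
    (ho : ∀ j l, D.σ.SameCycle i j → D.σ.SameCycle i l → B D j l ≠ -1) : XO D i ≤ RR D ∨ Exc D e := by
  have h1 : ∀ a ∈ Op D i, ∃ n, D.g^[n] (sr i) = a := fun a ha => by
    rcases H.Op_cases ha with ⟨j, hj, rfl⟩ | ⟨j, l, hj, hl, h, -⟩
    · exact H.so_iff.2 hj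
    · exact (ho j l hj hl h).elim
  by_cases h2 : 3 < p ^ (e * per D (sr i))
  · refine Or.inl (XO_le i 0 fun a ha ha' => (H.not_sz (rs i) (H.tor_ort (rs i) (fun n hn => ?_) h2) (h1 a ha) ha').elim)
    rw [H.iter_sr] at hn ⊢
    by_contra h3
    have h5 : D.σ.SameCycle i ((D.σ ^ n) i) := ⟨n, by rw [zpow_natCast]⟩
    exact ho _ i h5 (Equiv.Perm.SameCycle.refl _ _) (H.nb_one h5 (B_neg (fun e => hn (by rw [e])) h3).1)
  obtain ⟨he, h3⟩ := H.small (per_pos (rs i)) h2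
  have gc : D.g (sr i) = sr i := Function.minimalPeriod_eq_one_iff_isFixedPt.1 h3
  have gi : D.σ i = i := sr_inj (by rw [← H.qs.g_sr, gc])
  have h5 : ∀ a ∈ Op D i, a = sr i := fun a ha => by
    obtain ⟨n, rfl⟩ := h1 a ha
    exact Function.iterate_fixed gc n
  by_cases h6 : (J \ {i}).Nonempty
  · obtain ⟨_, rfl, j, hj, h7⟩ := hJ.irr {i} (by rintro _ rfl; exact hi) (by
      rintro _ rfl l ⟨n, hn⟩
      rw [Function.iterate_fixed gc] at hn
      exact (sr_inj hn).symm) ⟨i, rfl⟩ h6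
    exact (H.hd_fix he hJ hi hj.1 gi (Ne.symm hj.2) h7).imp_left fun h => XO_le _ _ fun a ha _ => ⟨h5 a ha, h⟩
  · exfalso
    have h7 := h4 fun j hj => ⟨0, by rw [show j = i from by_contra fun h => h6 ⟨j, hj, h⟩]; rfl⟩
    have h8 : XO D i ≤ D.X (sr i) ⊓ DL.fix F := inf_le_inf_right _ (S_le_X h5)
    have h9 := H.card_X (rs i) gc
    have : Finite ↥(D.X (sr i) ⊓ DL.fix F) :=
      Nat.finite_of_card_ne_zero (by rw [h9]; exact pow_ne_zero _ (Fact.out : p.Prime).ne_zero)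
    have h10 := Subgroup.card_le_of_le h8
    rw [h3, mul_one] at h2
    omega

/-! ### orbits of type `A₂` -/

section Two

variable {i i' : D.I} (hs : D.σ.SameCycle i i') (h1 : B D i i' = -1)
include hs h1

theorem a2_symm : B D i' i = -1 := H.nb_one hs (B_neg (fun e => by rw [e, B_self] at h1; omega) (by omega)).2

theorem iter_c (n : ℕ) : D.g^[n] (sr i + sr i') = sr ((D.σ ^ n) i) + sr ((D.σ ^ n) i') := by
  induction n with
  | zero => rfl
  | succ n ih => rw [Function.iterate_succ_apply', ih, g_add H.ex (rs _) (rs _) (rt_add (rs _) (rs _)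
      ((H.B_pow n i i').trans h1)), H.qs.g_sr, H.qs.g_sr, pow_succ', Equiv.Perm.mul_apply, Equiv.Perm.mul_apply]

theorem a2_ort (n : ℕ) (hn : D.g^[n] (sr i + sr i') ≠ sr i + sr i') :
    cpr D.cs D.h (sr i) (D.g^[n] (sr i + sr i')) = 0 ∧ cpr D.cs D.h (sr i') (D.g^[n] (sr i + sr i')) = 0 := by
  have h2 := H.a2_symm hs h1
  rw [H.iter_c hs h1] at hn ⊢
  have a1 := (H.B_pow n i i').trans h1
  have a2 := (H.B_pow n i' i).trans h2
  have b1 : D.σ.SameCycle i ((D.σ ^ n) i) := ⟨n, by rw [zpow_natCast]⟩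
  have b2 : D.σ.SameCycle i ((D.σ ^ n) i') := hs.trans ⟨n, by rw [zpow_natCast]⟩
  generalize (D.σ ^ n) i = j at hn a1 a2 b1
  generalize (D.σ ^ n) i' = j' at hn a1 a2 b2
  have u1 : ∀ {l : D.I}, D.σ.SameCycle i l → B D l i < 0 → l = i' := fun hl h => H.nb_two hl hs h (by omega)
  have u2 : ∀ {l : D.I}, D.σ.SameCycle i l → B D l i' < 0 → l = i := fun hl h =>
    H.nb_two (hs.symm.trans hl) hs.symm h (by omega)
  have c1 : j ≠ i := fun e => hn (by rw [u1 b2 (by rw [← e]; omega), e])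
  have c2 : j ≠ i' := fun e => hn (by rw [u2 b2 (by rw [← e]; omega), e, add_comm])
  have c3 : j' ≠ i := fun e => c2 (u1 b1 (by rw [← e]; omega))
  have c4 : j' ≠ i' := fun e => c1 (u2 b1 (by rw [← e]; omega))
  have d1 : B D i j = 0 := B_zero.1 (by_contra fun h => c2 (u1 b1 (B_neg c1 h).1))
  have d2 : B D i j' = 0 := B_zero.1 (by_contra fun h => c4 (u1 b2 (B_neg c3 h).1))
  have d3 : B D i' j = 0 := B_zero.1 (by_contra fun h => c1 (u2 b1 (B_neg c2 h).1))
  have d4 : B D i' j' = 0 := B_zero.1 (by_contra fun h => c3 (u2 b2 (B_neg c4 h).1))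
  rw [cpr_sum (rs j) (rs j') a1, cpr_sum (rs j) (rs j') a1]
  simp only [d1, d2, d3, d4, zero_mul, sub_zero, and_self]

theorem a2_Ort : Ort D (sr i + sr i') := fun n hn => by
  have h2 := H.a2_ort hs h1 n hn
  have r := rt_add (rs i) (rs i') h1
  rw [cpr_zero_comm _ _ (D.iterate_g_root n r) r, cpr_add', h2.1, h2.2, add_zero]

theorem a2_Op {a : D.I → ℤ} (ha : a ∈ Op D i) : (∃ n, D.g^[n] (sr i) = a) ∨ ∃ n, D.g^[n] (sr i + sr i') = a := by
  rcases H.Op_cases ha with ⟨j, hj, rfl⟩ | ⟨j, l, hj, hl, h, rfl⟩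
  · exact Or.inl (H.so_iff.2 hj)
  · obtain ⟨n, -, rfl⟩ := hj.exists_pow_eq'
    have a2 := (H.B_pow n i' i).trans (H.a2_symm hs h1)
    have a3 : (D.σ ^ n) i' = l := H.nb_two (hj.symm.trans (hs.trans ⟨n, by rw [zpow_natCast]⟩)) (hj.symm.trans hl)
      (by omega) (B_neg (fun e => by rw [← e, B_self] at h; omega) (by omega)).2
    exact Or.inr ⟨n, by rw [H.iter_c hs h1, a3]⟩

theorem a2_swap (gc : D.g (sr i + sr i') = sr i + sr i') : D.σ i = i' ∧ D.σ i' = i := by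
  have h2 := H.iter_c hs h1 1
  rw [Function.iterate_one, gc, pow_one] at h2
  have h3 : D.σ i = i' := by
    by_contra h3
    have h4 : D.σ i ≠ i := fun e => by
      rw [← hs.eq_of_left e, B_self] at h1
      omega
    have h5 := congrFun h2 (D.σ i)
    have h6 : 0 ≤ sr (D.σ i') (D.σ i) := sr_nonneg _ _
    rw [Pi.add_apply, Pi.add_apply, sr_self, sr_ne h3, sr_ne h4] at h5
    omega
  rw [h3, add_comm] at h2
  exact ⟨h3, (sr_inj (add_left_cancel h2)).symm⟩

omit hs in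
/-- a torus element from a neighbouring pair of orthogonal roots -/
theorem a2_nb (g1 : D.σ i = i') (g2 : D.σ i' = i) {d : D.I} (e1 : d ≠ i) (e2 : d ≠ i') (h : B D i d ≠ 0) :
    ∃ t ∈ D.T, t ∈ LL D ∧ D.χ (sr i) t ≠ 1 := by
  have h2 : B D i' i = -1 := by rw [← H.B_σ, g1, g2, h1]
  have a0 := B_neg e1.symm h
  have nx : ∀ l, B D i' (D.σ l) = B D i l ∧ B D (D.σ l) i' = B D l i ∧ B D i (D.σ l) = B D i' l ∧ B D (D.σ l) i = B D l i' :=
    fun l => ⟨by rw [← g1, H.B_σ], by rw [← g1, H.B_σ], by rw [← H.B_σ i' l, g2], by rw [← H.B_σ l i', g2]⟩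
  have a1 : B D i' d = 0 := by_contra fun h3 => no_tri (i := i) (j := i') (l := d) (by omega) (B_neg e2.symm h3).1 a0.2
  have a2 := B_zero.1 a1
  have a3 := nx d
  have e3 : D.σ d ≠ d := fun e => by rw [e] at a3; omega
  have a4 : B D (D.σ d) d = 0 := by
    by_contra h3
    have a5 := B_neg e3 h3
    refine no_vec [(1, i), (1, i'), (1, d), (1, D.σ d)] (by simp) (by simp) ?_
    simp only [List.mem_cons, List.not_mem_nil, or_false, forall_eq_or_imp, forall_eq, List.map_cons, List.map_nil,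
      List.sum_cons, List.sum_nil, B_self]
    omega
  have a5 := H.B_ge i d
  have e4 : D.σ (D.σ d) = d := by
    by_contra e4
    have a6 := nx (D.σ d)
    have a7 := nx (D.σ (D.σ d))
    have e5 : D.σ (D.σ (D.σ d)) ≠ d := fun e => by rw [e] at a7; omega
    have e6 : D.σ (D.σ d) ≠ D.σ d := fun e => e3 (D.σ.injective e)
    have e7 : D.σ (D.σ (D.σ d)) ≠ D.σ d := fun e => e4 (D.σ.injective e)
    have e8 : D.σ (D.σ (D.σ d)) ≠ D.σ (D.σ d) := fun e => e6 (D.σ.injective e)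
    have b1 := B_le (D := D) e3.symm
    have b2 := B_le (D := D) e4
    have b3 := B_le (D := D) (Ne.symm e4)
    have b4 := B_le (D := D) e5
    have b5 := B_le (D := D) e5.symm
    have b6 := B_le (D := D) e6
    have b7 := B_le (D := D) e6.symm
    have b8 := B_le (D := D) e7
    have b9 := B_le (D := D) e7.symm
    have b10 := B_le (D := D) e8
    have b11 := B_le (D := D) e8.symm
    by_cases h3 : B D i d = -1
    · refine no_vec [(2, i), (2, i'), (1, d), (1, D.σ d), (1, D.σ (D.σ d)), (1, D.σ (D.σ (D.σ d)))] (by simp) (by simp) ?_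
      simp only [List.mem_cons, List.not_mem_nil, or_false, forall_eq_or_imp, forall_eq, List.map_cons, List.map_nil,
        List.sum_cons, List.sum_nil, B_self]
      omega
    · refine no_vec [(1, i), (1, i'), (1, d), (1, D.σ d), (1, D.σ (D.σ d)), (1, D.σ (D.σ (D.σ d)))] (by simp) (by simp) ?_
      simp only [List.mem_cons, List.not_mem_nil, or_false, forall_eq_or_imp, forall_eq, List.map_cons, List.map_nil,
        List.sum_cons, List.sum_nil, B_self]
      omega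
  have g3 : D.g (D.g (sr d)) = sr d := by rw [H.qs.g_sr, H.qs.g_sr, e4]
  have hp := per_eq_two g3 (by rw [H.qs.g_sr]; exact fun e => e3 (sr_inj e))
  obtain ⟨l, l1, l2, l3⟩ := H.exists_sq (H.lt_pow hp.ge)
  refine H.tor_one (rs d) (ort_of_two g3 (by rw [H.qs.g_sr]; exact a4)) (rs i) (fun n hn => ?_) l1 l2 fun h3 => l3 ?_
  · have h3 : D.g^[n] (sr d) = sr d ∨ D.g^[n] (sr d) = sr (D.σ d) := by
      clear hn
      induction n with
      | zero => exact Or.inl rfl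
      | succ n ih =>
        rw [Function.iterate_succ_apply']
        rcases ih with e | e <;> rw [e, H.qs.g_sr]
        exacts [Or.inr rfl, Or.inl (by rw [e4])]
    rw [h3.resolve_left hn]
    exact a3.2.2.1.trans a1
  · rw [← B] at h3
    by_cases h4 : B D i d = -1
    · rw [h4, zpow_neg_one, inv_eq_one] at h3
      rw [h3, one_zpow]
    · rwa [show B D i d = -2 by omega, zpow_neg, inv_eq_one] at h3

theorem a2_card (gc : D.g (sr i + sr i') = sr i + sr i') : Nat.card (XO D i) = p ^ e * p ^ (e + e) := by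
  classical
  obtain ⟨g1, g2⟩ := H.a2_swap hs h1 gc
  have g1' : D.g (sr i) = sr i' := by rw [H.qs.g_sr, g1]
  have g2' : D.g (sr i') = sr i := by rw [H.qs.g_sr, g2]
  have r := rt_add (rs i) (rs i') h1
  have hne : (sr i' : D.I → ℤ) ≠ sr i := fun e => by rw [sr_inj e, B_self] at h1; omega
  have m0 : ∀ j, D.σ.SameCycle i j → sr j ∈ Op D i := fun j hj =>
    ⟨rs j, sr_nonneg j, fun l hl => sr_ne fun e => hl (by rw [e]; exact H.so_iff.2 hj)⟩
  have m1 := m0 i (Equiv.Perm.SameCycle.refl _ _)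
  have m2 := m0 i' hs
  have m3 : sr i + sr i' ∈ Op D i := ⟨r, add_nonneg m1.2.1 m2.2.1, fun l hl => by
    rw [Pi.add_apply, m1.2.2 l hl, m2.2.2 l hl, add_zero]⟩
  have h2 : ∀ a ∈ Op D i, a ∈ ({sr i, sr i'} : Set (D.I → ℤ)) ∨ a = sr i + sr i' := fun a ha => by
    rcases H.a2_Op hs h1 ha with ⟨n, rfl⟩ | ⟨n, rfl⟩
    · refine Or.inl ?_
      clear ha
      induction n with
      | zero => exact Or.inl rfl
      | succ n ih =>
        rw [Function.iterate_succ_apply']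
        rcases ih with e | e <;> rw [e]
        exacts [Or.inr g1', Or.inl g2']
    · exact Or.inr (Function.iterate_fixed gc n)
  have hA : ∀ a ∈ Op D i, D.g a ∈ Op D i := fun a ha => by
    rcases h2 a ha with (rfl | rfl) | rfl
    exacts [g1' ▸ m2, g2' ▸ m1, gc.symm ▸ m3]
  obtain ⟨κ, K⟩ := exists_crd_uni (crel_cz H.cz) (uni_Op i) (B := {sr i, sr i'}) (by rintro _ (rfl | rfl); exacts [m1, m2]) (by
    rintro a ha a' ha' - b hb ⟨hc, -⟩
    obtain ⟨m, n, hm, hn, e1⟩ := hc.map htHom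
    have a1 := D.ht_pos_of_pos a ⟨ha.1, ha.2.1⟩
    have a2 := D.ht_pos_of_pos a' ⟨ha'.1, ha'.2.1⟩
    have a3 : htHom b = 1 := by rcases hb with rfl | rfl <;> simp [htHom_apply, ht, sr]
    nlinarith)
  have k1 : ∀ y ∈ XO D i, κ (sr i') y = cF D (sr i) * κ (sr i) y ^ p ^ e := fun y hy => by
    have := K.mapF hA (b := sr i) (Or.inl rfl) (Or.inr g1') hy.1
    rwa [g1', mem_fix.1 hy.2, H.ex _ (rs i)] at this
  have k2 : ∀ y ∈ XO D i, κ (sr i) y = cF D (sr i') * κ (sr i') y ^ p ^ e := fun y hy => by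
    have := K.mapF hA (b := sr i') (Or.inr rfl) (Or.inl g2') hy.1
    rwa [g2', mem_fix.1 hy.2, H.ex _ (rs i')] at this
  let φ : ↥(XO D i) →* Multiplicative k := MonoidHom.mk' (fun y => Multiplicative.ofAdd (κ (sr i) y))
    fun y y' => congrArg _ (K.mul _ (Or.inl rfl) _ y.2.1 _ y'.2.1)
  have hC : cF D (sr i') * cF D (sr i) ^ p ^ e ≠ 0 := mul_ne_zero (cF_ne _) (pow_ne_zero _ (cF_ne _))
  rw [← φ.ker.card_mul_index, Subgroup.index_ker, ← H.card_X r gc, ← card_sol hC (n := e + e) (by have := H.he; omega)]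
  congr 1
  · have h3 : D.X (sr i + sr i') ⊓ DL.fix F ≤ XO D i := inf_le_inf_right _ (RGD.le_Sup (X := D.X) m3)
    rw [← Nat.card_congr (Subgroup.subgroupOfEquivOfLe h3).toEquiv]
    congr 2
    ext y
    refine ⟨fun hy => ⟨S_le_X (fun a ha => (h2 a ha.1).resolve_left ha.2) (K.ker _ y.2.1 ?_), y.2.2⟩, fun hy => ?_⟩
    · have h4 : κ (sr i) y = 0 := hy
      rintro _ (rfl | rfl)
      · exact h4
      · exact (k1 _ y.2).trans (by rw [h4, zero_pow (pow_ne_zero _ (Fact.out : p.Prime).ne_zero), mul_zero])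
    · obtain ⟨s, hs⟩ := (D.mem_X _ r _).1 hy.1
      show κ (sr i) y = 0
      rw [show ((y : ↥(XO D i)) : Y) = D.x _ s from hs.symm]
      exact K.ne _ (Or.inl rfl) _ m3 (fun e => (rs i').ne_zero (add_eq_left.1 e)) s
  · refine Nat.card_congr (Equiv.subtypeEquiv Multiplicative.toAdd fun s => ⟨?_, fun h3 => ?_⟩)
    · rintro ⟨y, rfl⟩
      show _ * κ (sr i) y ^ p ^ (e + e) = κ (sr i) y
      conv_rhs => rw [k2 _ y.2, k1 _ y.2]
      rw [mul_pow, ← pow_mul, ← pow_add, mul_assoc]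
    · obtain ⟨y, y1, y2, y3⟩ := K.exists_fix hA (by rintro _ (rfl | rfl); exacts [Or.inr g1', Or.inl g2'])
        (t := fun b => if b = sr i then s.toAdd else cF D (sr i) * s.toAdd ^ p ^ e) (by
          rintro _ (rfl | rfl)
          · simp only [g1', if_neg hne, if_true, H.ex _ (rs i)]
          · simp only [g2', if_neg hne, if_true, H.ex _ (rs i')]
            rw [mul_pow, ← pow_mul, ← pow_add, ← mul_assoc]
            exact Eq.symm h3)
      refine ⟨⟨y, y1, y2⟩, ?_⟩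
      show Multiplicative.ofAdd (κ (sr i) y) = s
      rw [y3 _ (Or.inl rfl), if_pos rfl, ofAdd_toAdd]

theorem a2_cube (h : p ^ e = 2) (gc : D.g (sr i + sr i') = sr i + sr i') {t : Y} (ht : t ∈ D.T) (hF : F t = t) {x : Y}
    (hx : x ∈ XO D i) : t ^ 3 * x = x * t ^ 3 := by
  obtain ⟨g1, g2⟩ := H.a2_swap hs h1 gc
  have a1 := D.χ_F (rs i) ht
  have a2 := D.χ_F (rs i') ht
  rw [hF, H.qs.g_sr, H.ex _ (rs _), h] at a1 a2
  rw [g1] at a1
  rw [g2] at a2
  have a3 : D.χ (sr i) t ^ 3 = 1 := mul_left_cancel₀ (D.χ_ne_zero (sr i) t) (by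
    conv_rhs => rw [mul_one, a2, a1]
    ring)
  have a4 : ∀ n, D.χ (D.g^[n] (sr i)) t ^ 3 = 1 := fun n => by
    have := H.χ_pow (rs i) ht n
    rw [pow_fix hF] at this
    rw [this, ← pow_mul, mul_comm, pow_mul, a3, one_pow]
  refine comm_S (fun a ha u hu => Datum.X_le_centralizer (Z := {t ^ 3})
    (by rintro _ rfl; exact pow_mem ht 3) ⟨ha.1, ?_⟩ hu _ rfl) hx.1
  rintro _ rfl
  rw [pow_three, D.χ_mul a ht (mul_mem ht ht), D.χ_mul a ht ht, ← pow_three]
  rcases H.a2_Op hs h1 ha with ⟨n, rfl⟩ | ⟨n, rfl⟩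
  · exact a4 n
  · rw [Function.iterate_fixed gc, D.χ_add, a1, ← pow_succ', ← pow_mul, mul_comm, pow_mul, a3, one_pow]

theorem xo_a2 {J : Set D.I} (hJ : Cn D J) (hi : i ∈ J) (h8 : (∀ j ∈ J, So D i j) → Nat.card (XO D i) = 8 →
    ∃ t ∈ D.T, F t = t ∧ ∃ x ∈ XO D i, t ^ 3 * x ≠ x * t ^ 3) : XO D i ≤ RR D := by
  have hp : p.Prime := Fact.out
  have h2 := H.a2_symm hs h1
  have r := rt_add (rs i) (rs i') h1
  have ho := H.a2_Ort hs h1
  have ha : ∃ t ∈ D.T, t ∈ LL D ∧ D.χ (sr i) t ≠ 1 := by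
    by_cases h3 : 2 < p ^ (e * per D (sr i + sr i'))
    · obtain ⟨l, l1, l2⟩ := exists_sol (p := p) (k := k) one_ne_zero (Nat.mul_pos H.he (per_pos r)) (E := {0, 1})
        (Set.toFinite _) (lt_of_le_of_lt ((Set.ncard_insert_le _ _).trans (by rw [Set.ncard_singleton])) h3)
      simp only [Set.mem_insert_iff, Set.mem_singleton_iff, not_or] at l2
      refine H.tor_one r ho (rs i) (fun n hn => (H.a2_ort hs h1 n hn).1) l2.1 (by rwa [one_mul] at l1) ?_
      rw [cpr_sum (rs i) (rs i') h1, ← B, ← B, ← B, B_self, h1, h2]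
      simpa using l2.2
    obtain ⟨he, h4⟩ := H.small (per_pos r) (by omega)
    have gc : D.g (sr i + sr i') = sr i + sr i' := Function.minimalPeriod_eq_one_iff_isFixedPt.1 h4
    obtain ⟨g1, g2⟩ := H.a2_swap hs h1 gc
    by_cases h5 : (J \ {i, i'}).Nonempty
    · obtain ⟨c, hc, d, hd, h6⟩ := hJ.irr {i, i'} (by rintro _ (rfl | rfl); exacts [hi, hJ.st i hi _ (H.so_iff.2 hs)]) (by
        have key : ∀ (n : ℕ) (l : D.I), l ∈ ({i, i'} : Set D.I) → (D.σ ^ n) l ∈ ({i, i'} : Set D.I) := fun n l hl => by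
          induction n with
          | zero => exact hl
          | succ n ih =>
            rw [pow_succ', Equiv.Perm.mul_apply]
            rcases ih with e | e <;> rw [e]
            exacts [Or.inr g1, Or.inl g2]
        rintro l hl m ⟨n, hn⟩
        rw [H.iter_sr] at hn
        exact sr_inj hn ▸ key n l hl) ⟨i, Or.inl rfl⟩ h5
      have e1 : d ≠ i := fun e => hd.2 (Or.inl e)
      have e2 : d ≠ i' := fun e => hd.2 (Or.inr e)
      rcases hc with rfl | rfl
      · exact H.a2_nb h1 g1 g2 e1 e2 h6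
      · exact H.a2_nb h1 g1 g2 (d := D.σ d) (fun e => e2 (D.σ.injective (e.trans g2.symm)))
          (fun e => e1 (D.σ.injective (e.trans g1.symm))) (by rwa [← g2, H.B_σ])
    · exfalso
      have h6 : p ^ e = 2 := by
        rw [h4, mul_one] at h3
        have := Nat.one_lt_pow H.he.ne' hp.one_lt
        omega
      obtain ⟨t, t1, t2, x, hx, h7⟩ := h8 (fun j hj => by
        rcases (by_contra fun h => h5 ⟨j, hj, h⟩ : j ∈ ({i, i'} : Set D.I)) with rfl | rfl
        exacts [⟨0, rfl⟩, H.so_iff.2 hs]) (by rw [H.a2_card hs h1 gc, pow_add, h6]; rfl)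
      exact h7 (H.a2_cube hs h1 h6 gc t1 t2 hx)
  refine XO_le i (sr i + sr i') fun a h3 h4 => ?_
  rcases H.a2_Op hs h1 h3 with h5 | h5
  · exact (H.not_sz (rs i) ha h5 h4).elim
  by_cases h6 : 3 < p ^ (e * per D (sr i + sr i'))
  · exact (H.not_sz r (H.tor_ort r ho h6) h5 h4).elim
  obtain ⟨he, h7⟩ := H.small (per_pos r) h6
  have gc : D.g (sr i + sr i') = sr i + sr i' := Function.minimalPeriod_eq_one_iff_isFixedPt.1 h7
  obtain ⟨g1, g2⟩ := H.a2_swap hs h1 gc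
  obtain ⟨n, rfl⟩ := h5
  have h9 := H.hd_u3 he (rs i) (by rw [H.qs.g_sr, H.qs.g_sr, g1, g2]) (by rw [H.qs.g_sr, g1]; exact h1)
  rw [H.qs.g_sr, g1] at h9
  exact ⟨Function.iterate_fixed gc n, h9⟩

end Two

end Cx

/-- **The root half.** -/
theorem boxRt_of (h : BoxRel) : BoxRt := by
  intro p _ k _ _ _ Y _ N _ _ ρ F G D e H E hE
  obtain ⟨J, hJ, h1, h2⟩ := h p k Y N ρ F G D e H E hE
  refine or_iff_not_imp_right.2 fun h3 => h1 fun i hi => ?_
  by_cases h4 : ∀ j l, D.σ.SameCycle i j → D.σ.SameCycle i l → B D j l ≠ -1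
  · exact (H.xo_ort hJ hi (fun h5 => (h2 i h5).1) h4).resolve_right h3
  · push Not at h4
    obtain ⟨j, l, hj, hl, h5⟩ := h4
    obtain ⟨n, -, rfl⟩ := hj.symm.exists_pow_eq'
    exact H.xo_a2 (i' := (D.σ ^ n) l) (hl.trans ⟨n, by rw [zpow_natCast]⟩) ((H.B_pow n j l).trans h5) hJ hi
      fun h6 => (h2 _ h6).2

end Cfsg.Agent.TH.Ab.Cmp
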