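import Cfsg.Agent.FixBN.Transport
import Cfsg.Agent.H283.DescQuot
import Cfsg.Agent.S0319
import Cfsg.Agent.LieExceptional.BNPairCore

/-!
# S3541, [COMP], group half: normal subgroups of split (B, N)-pairs (helper60)

* `exists_res` : the (B, N)-pair of a normal subgroup containing `U`;
* `simple_split` : such a subgroup is simple with a split (B, N)-pair if it is perfect and the pair is irreducible.
-/

set_option autoImplicit false
set_option linter.unusedSectionVars false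

namespace Cfsg.Agent.TH.Ab.Grp

open Cfsg Subgroup Cfsg.Agent.FixBN Cfsg.Agent.Schreier.BNSch Cfsg.Agent.LieExceptional
open Cfsg.Agent.LieExceptional.BNPairCore (C mem_C)

variable {Q : Type*} [Group Q] {P : BNPair Q} {p : ℕ} {U : Subgroup Q} (h : Split P p U) (R : Subgroup Q) [hR : R.Normal]
  (hU : U ≤ R)

include h

theorem cover_r {b : Q} (hb : b ∈ P.B) : ∃ t ∈ P.B ⊓ P.N, ∃ u ∈ U, b = t * u := by
  obtain ⟨u, hu, t, ht, rfl⟩ := h.cover' hb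
  refine ⟨t, ht, t⁻¹ * u * t⁻¹⁻¹, h.norm _ (inv_mem ht.1) u hu, by group⟩

include hU

theorem rep_of_cell {r n : Q} (hr : r ∈ R) (hn : n ∈ P.N) (hC : r ∈ C P n) :
    ∃ m ∈ R, m ∈ P.N ∧ n⁻¹ * m ∈ P.B ∧ ∃ u ∈ U, ∃ v ∈ U, r = u * m * v := by
  obtain ⟨b, hb, b', hb', rfl⟩ := mem_C.1 hC
  obtain ⟨u, hu, t, ht, rfl⟩ := h.cover' hb
  obtain ⟨t', ht', v, hv, rfl⟩ := cover_r h hb'
  refine ⟨t * n * t', ?_, mul_mem (mul_mem ht.2 hn) ht'.2, ?_, u, hu, v, hv, by group⟩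
  · have e : t * n * t' = u⁻¹ * (u * t * n * (t' * v)) * v⁻¹ := by group
    rw [e]
    exact mul_mem (mul_mem (inv_mem (hU hu)) hr) (inv_mem (hU hv))
  · have e : n⁻¹ * (t * n * t') = n⁻¹ * t * n * t' := by group
    rw [e]
    exact mul_mem (BNPairCore.conj_mem_inv hn ht.1 ht.2) ht'.1

theorem exists_rep {s : Q} (hs : s ∈ P.S) : ∃ r ∈ R, r ∈ P.N ∧ s⁻¹ * r ∈ P.B := by
  obtain ⟨V, hV⟩ := h.node s hs
  obtain ⟨u, hu, huV⟩ := hV.ne
  have h1 : s ∈ P.parabolic {s} := mem_sup_right (subset_closure rfl)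
  have h2 : s⁻¹ * u * s ∈ P.parabolic {s} := mul_mem (mul_mem (inv_mem h1) (mem_sup_left (h.le hu))) h1
  rcases mem_parabolic_singleton P hs h2 with h3 | h3
  · exact absurd (hV.stab u hu h3) huV
  · have h4 : s⁻¹ * u * s ∈ R := by
      have := hR.conj_mem u (hU hu) s⁻¹
      rwa [inv_inv] at this
    obtain ⟨m, a1, a2, a3, -⟩ := rep_of_cell h R hU h4 (P.subset hs) (mem_C.2 h3)
    exact ⟨m, a1, a2, a3⟩

theorem cell_res {r m : ↥R} (hm : (m : Q) ∈ P.N) (hC : (r : Q) ∈ C P m) :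
    r ∈ DoubleCoset.doubleCoset m (P.B.subgroupOf R : Set ↥R) (P.B.subgroupOf R) := by
  obtain ⟨b, hb, b', hb', e⟩ := mem_C.1 hC
  obtain ⟨u, hu, t, ht, rfl⟩ := h.cover' hb
  rw [DoubleCoset.mem_doubleCoset]
  refine ⟨⟨u, hU hu⟩, h.le hu, m⁻¹ * (⟨u, hU hu⟩ : ↥R)⁻¹ * r, ?_, by group⟩
  show (m : Q)⁻¹ * u⁻¹ * r ∈ P.B
  have e2 : (m : Q)⁻¹ * u⁻¹ * r = (m : Q)⁻¹ * t * m * b' := by rw [e]; group
  rw [e2]
  exact mul_mem (BNPairCore.conj_mem_inv hm ht.1 ht.2) hb'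

/-- **The (B, N)-pair of a normal subgroup containing `U`.** -/
theorem exists_res : ∃ P' : BNPair ↥R, P'.B = P.B.subgroupOf R ∧ P'.N = P.N.subgroupOf R ∧
    (∀ x ∈ P'.S, ∃ s ∈ P.S, s⁻¹ * x ∈ P.B) ∧ ∀ s ∈ P.S, ∃ x ∈ P'.S, s⁻¹ * x ∈ P.B := by
  have h0 : ∀ s ∈ P.S, ∃ r : ↥R, (r : Q) ∈ P.N ∧ s⁻¹ * r ∈ P.B := fun s hs => by
    obtain ⟨r, a1, a2, a3⟩ := exists_rep h R hU hs
    exact ⟨⟨r, a1⟩, a2, a3⟩
  choose! σ hN hB using h0
  have hH : ∀ s ∈ P.S, s⁻¹ * σ s ∈ P.N := fun s hs => mul_mem (inv_mem (P.subset hs)) (hN s hs)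
  refine ⟨
    { B := P.B.subgroupOf R
      N := P.N.subgroupOf R
      S := σ '' P.S
      sup_eq_top := ?_
      conj_mem := fun n hn t ht => P.conj_mem n hn t ht
      subset := ?_
      sq_mem := ?_
      inj := ?_
      closure_sup := ?_
      mul_mem_union := ?_
      conj_ne := ?_ }, rfl, rfl, ?_, fun s hs => ⟨σ s, ⟨s, hs, rfl⟩, hB s hs⟩⟩
  · rw [eq_top_iff]
    intro r _
    obtain ⟨n, hn, hC⟩ := BNPairCore.bruhat (P := P) (r : Q)
    obtain ⟨m, a1, a2, -, u, hu, v, hv, e⟩ := rep_of_cell h R hU r.2 hn hC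
    have e2 : r = ⟨u, hU hu⟩ * ⟨m, a1⟩ * ⟨v, hU hv⟩ := Subtype.ext e
    rw [e2]
    exact mul_mem (mul_mem (mem_sup_left (h.le hu)) (mem_sup_right a2)) (mem_sup_left (h.le hv))
  · rintro _ ⟨s, hs, rfl⟩
    exact hN s hs
  · rintro _ ⟨s, hs, rfl⟩
    show (σ s : Q) * σ s ∈ P.B
    have e : (σ s : Q) * σ s = (s * s) * (s⁻¹ * (s⁻¹ * σ s) * s) * (s⁻¹ * σ s) := by group
    rw [e]
    exact mul_mem (mul_mem (P.sq_mem s hs) (BNPairCore.conj_mem_inv (P.subset hs) (hB s hs) (hH s hs))) (hB s hs)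
  · rintro _ ⟨s, hs, rfl⟩ _ ⟨t, ht, rfl⟩ hst
    have h1 : (σ s : Q)⁻¹ * σ t ∈ P.B := hst
    have e : s⁻¹ * t = (s⁻¹ * σ s) * ((σ s : Q)⁻¹ * σ t) * (t⁻¹ * σ t)⁻¹ := by group
    rw [P.inj s hs t ht (e ▸ mul_mem (mul_mem (hB s hs) h1) (inv_mem (hB t ht)))]
  · apply le_antisymm
    · refine sup_le ((closure_le _).2 ?_) inf_le_right
      rintro _ ⟨s, hs, rfl⟩
      exact hN s hs
    · have key : ∀ l : List Q, (∀ s ∈ l, s ∈ P.S) → ∃ w ∈ closure (σ '' P.S), (w : Q) ∈ P.N ∧ l.prod⁻¹ * w ∈ P.B := by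
        intro l
        induction l with
        | nil => exact fun _ => ⟨1, one_mem _, one_mem _, by simp⟩
        | cons s l ih =>
          intro hl
          have hs := hl s List.mem_cons_self
          have hl' : ∀ x ∈ l, x ∈ P.S := fun x hx => hl x (List.mem_cons_of_mem _ hx)
          obtain ⟨w, a1, a2, a3⟩ := ih hl'
          refine ⟨σ s * w, mul_mem (subset_closure ⟨s, hs, rfl⟩) a1, mul_mem (hN s hs) a2, ?_⟩
          have e : (s :: l).prod⁻¹ * ((σ s * w : ↥R) : Q) =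
              (l.prod⁻¹ * (s⁻¹ * σ s) * l.prod) * (l.prod⁻¹ * w) := by
            rw [List.prod_cons, Subgroup.coe_mul]; group
          rw [e]
          exact mul_mem (BNPairCore.conj_mem_inv (BNPairCore.prod_mem_N hl') (hB s hs) (hH s hs)) a3
      intro n hn
      have hn' : (n : Q) ∈ P.N := hn
      obtain ⟨l, hl, h1⟩ := BNPairCore.exists_word hn'
      obtain ⟨w, a1, a2, a3⟩ := key l hl
      have e : n = w * (w⁻¹ * n) := by group
      rw [e]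
      refine mul_mem (mem_sup_left a1) (mem_sup_right ⟨?_, ?_⟩)
      · exact BNPairCore.rel_trans (BNPairCore.rel_symm a3) h1
      · exact P.N.mul_mem (P.N.inv_mem a2) hn'
  · rintro _ ⟨s, hs, rfl⟩ n hn b hb
    have hn' : (n : Q) ∈ P.N := hn
    have hb' : (b : Q) ∈ P.B := hb
    have e : ((σ s * b * n : ↥R) : Q) = s * ((s⁻¹ * σ s) * b) * n := by
      rw [Subgroup.coe_mul, Subgroup.coe_mul]; group
    rcases BNPairCore.axiom_left hs hn' (mul_mem (hB s hs) hb') with h1 | h1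
    · left
      refine cell_res h R hU (mul_mem (hN s hs) hn') ?_
      rw [e, Subgroup.coe_mul, ← BNPairCore.C_eq_of_rel
        (BNPairCore.rel_mul_right (P.subset hs) (hN s hs) hn' (hB s hs))]
      exact h1
    · right
      refine cell_res h R hU hn' ?_
      rw [e]
      exact h1
  · rintro _ ⟨s, hs, rfl⟩ hcon
    obtain ⟨V, hV⟩ := h.node s hs
    obtain ⟨u, hu, huV⟩ := hV.ne
    have h1 : (⟨u, hU hu⟩ : ↥R) ∈ ((P.B.subgroupOf R : Subgroup ↥R) : Set ↥R) := h.le hu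
    rw [← hcon] at h1
    obtain ⟨b, hb, e⟩ := h1
    have hb' : (b : Q) ∈ P.B := hb
    have e1 : (σ s : Q) * b * σ s = u := congrArg Subtype.val e
    refine huV (hV.stab u hu ?_)
    have e2 : s⁻¹ * u * s = (s⁻¹ * σ s) * b * (s * (s⁻¹ * σ s) * s⁻¹) * (s * s) := by rw [← e1]; group
    rw [e2]
    exact mul_mem (mul_mem (mul_mem (hB s hs) hb') (BNPairCore.conj_mem' (P.subset hs) (hB s hs) (hH s hs)))
      (P.sq_mem s hs)
  · rintro _ ⟨s, hs, rfl⟩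
    exact ⟨s, hs, hB s hs⟩

theorem sup_B : ∀ g : Q, ∃ b ∈ P.B, ∃ r ∈ R, g = b * r := by
  have h1 : P.B ⊔ R = ⊤ := by
    rw [eq_top_iff, ← BNPairCore.parabolic_S_eq_top (P := P)]
    refine sup_le le_sup_left ((closure_le _).2 fun s hs => ?_)
    obtain ⟨r, a1, -, a3⟩ := exists_rep h R hU hs
    have e : s = r * (s⁻¹ * r)⁻¹ := by group
    rw [SetLike.mem_coe, e]
    exact mul_mem (mem_sup_right a1) (mem_sup_left (inv_mem a3))
  intro g
  obtain ⟨b, hb, r, hr, e⟩ := mem_sup_of_normal_right.1 (show g ∈ P.B ⊔ R by rw [h1]; exact mem_top g)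
  exact ⟨b, hb, r, hr, e.symm⟩

theorem split_res {P' : BNPair ↥R} (hB : P'.B = P.B.subgroupOf R) (hN : P'.N = P.N.subgroupOf R)
    (hS : ∀ x ∈ P'.S, ∃ s ∈ P.S, s⁻¹ * x ∈ P.B) : Split P' p (U.subgroupOf R) where
  le := by rw [hB]; exact comap_mono h.le
  norm := by
    rw [hB]
    exact fun b hb u hu => h.norm b hb u hu
  isP := h.isP.comap_subtype
  cover := by
    rw [hB, hN]
    intro b hb
    obtain ⟨u, hu, h1⟩ := h.cover b hb
    exact ⟨⟨u, hU hu⟩, hu, h1⟩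
  tor := by
    rw [hB, hN]
    obtain ⟨m, hm, h1⟩ := h.tor
    exact ⟨m, hm, fun t a1 a2 => Subtype.ext (h1 t a1 a2)⟩
  node := by
    intro x hx
    obtain ⟨s, hs, h1⟩ := hS x hx
    obtain ⟨V, hV⟩ := h.node s hs
    refine ⟨V.subgroupOf R, comap_mono hV.le, ?_, ?_, ?_, ?_⟩
    · obtain ⟨u, hu, huV⟩ := hV.ne
      exact ⟨⟨u, hU hu⟩, hu, huV⟩
    · rw [hB]
      exact fun b hb v hv => hV.conj_B b hb v hv
    · intro v hv
      show (x : Q)⁻¹ * v * x ∈ V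
      have e : (x : Q)⁻¹ * v * x = (s⁻¹ * x)⁻¹ * (s⁻¹ * v * s) * (s⁻¹ * x)⁻¹⁻¹ := by group
      rw [e]
      exact hV.conj_B _ (inv_mem h1) _ (hV.conj_s v hv)
    · rw [hB]
      intro u hu h2
      have h3 : (x : Q)⁻¹ * u * x ∈ P.B := h2
      refine hV.stab u hu ?_
      have e : s⁻¹ * u * s = (s⁻¹ * x) * ((x : Q)⁻¹ * u * x) * (s⁻¹ * x)⁻¹ := by group
      rw [e]
      exact mul_mem (mul_mem h1 h3) (inv_mem h1)
  core := by
    rw [hB, eq_bot_iff]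
    intro x hx
    have h1 : (x : Q) ∈ P.B.normalCore := by
      intro g
      obtain ⟨b, hb, r, hr, rfl⟩ := sup_B h R hU g
      have h2 : r * x * r⁻¹ ∈ P.B := hx ⟨r, hr⟩
      have e : b * r * x * (b * r)⁻¹ = b * (r * x * r⁻¹) * b⁻¹ := by group
      rw [e]
      exact mul_mem (mul_mem hb h2) (inv_mem hb)
    rw [h.core, mem_bot] at h1
    exact mem_bot.2 (Subtype.ext h1)

omit h hU hR in
/-- commutators modulo `B` depend only on the classes -/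
theorem comm_congr {s t x y : Q} (hs : s ∈ P.N) (ht : t ∈ P.N) (hx : x ∈ P.N) (hy : y ∈ P.N) (h1 : s⁻¹ * x ∈ P.B)
    (h2 : t⁻¹ * y ∈ P.B) (h3 : s * t * s⁻¹ * t⁻¹ ∈ P.B) : x * y * x⁻¹ * y⁻¹ ∈ P.B := by
  have n1 : s⁻¹ * x ∈ P.N := mul_mem (inv_mem hs) hx
  have n2 : t⁻¹ * y ∈ P.N := mul_mem (inv_mem ht) hy
  have e : x * y * x⁻¹ * y⁻¹ = (s * (s⁻¹ * x) * s⁻¹) * ((s * t) * (t⁻¹ * y) * (s * t)⁻¹) *
      ((s * t) * (s⁻¹ * x)⁻¹ * (s * t)⁻¹) * (s * t * s⁻¹ * t⁻¹) * (t * (t⁻¹ * y)⁻¹ * t⁻¹) := by group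
  rw [e]
  exact mul_mem (mul_mem (mul_mem (mul_mem (BNPairCore.conj_mem' hs h1 n1) (BNPairCore.conj_mem' (mul_mem hs ht) h2 n2))
    (BNPairCore.conj_mem' (mul_mem hs ht) (inv_mem h1) (inv_mem n1))) h3)
    (BNPairCore.conj_mem' ht (inv_mem h2) (inv_mem n2))

omit h hU hR in
theorem irr_res {P' : BNPair ↥R} (hB : P'.B = P.B.subgroupOf R) (hN : P'.N = P.N.subgroupOf R)
    (hS : ∀ x ∈ P'.S, ∃ s ∈ P.S, s⁻¹ * x ∈ P.B) (hS' : ∀ s ∈ P.S, ∃ x ∈ P'.S, s⁻¹ * x ∈ P.B) (hi : P.Irreducible) :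
    P'.Irreducible := by
  intro J hJ h1 h2
  have hn : ∀ x ∈ P'.S, (x : Q) ∈ P.N := fun x hx => by
    have := P'.subset hx
    rw [hN] at this
    exact this
  obtain ⟨s, ⟨hs, x, hx, hsx⟩, t, ⟨ht, ht'⟩, hc⟩ := hi {s | s ∈ P.S ∧ ∃ x ∈ J, s⁻¹ * (x : Q) ∈ P.B} (fun s hs => hs.1)
    (by
      obtain ⟨x, hx⟩ := h1
      obtain ⟨s, hs, h3⟩ := hS x (hJ hx)
      exact ⟨s, hs, x, hx, h3⟩)
    (by
      obtain ⟨x, hx, hxJ⟩ := h2
      obtain ⟨s, hs, h3⟩ := hS x hx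
      refine ⟨s, hs, ?_⟩
      rintro ⟨-, y, hy, h4⟩
      have h5 : x⁻¹ * y ∈ P'.B := by
        rw [hB]
        exact BNPairCore.rel_trans (BNPairCore.rel_symm h3) h4
      rw [P'.inj x hx y (hJ hy) h5] at hxJ
      exact hxJ hy)
  obtain ⟨y, hy, hty⟩ := hS' t ht
  refine ⟨x, hx, y, ⟨hy, fun hyJ => ht' ⟨ht, y, hyJ, hty⟩⟩, fun h3 => hc ?_⟩
  rw [hB] at h3
  exact comm_congr (hn x (hJ hx)) (hn y hy) (P.subset hs) (P.subset ht) (BNPairCore.rel_symm hsx)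
    (BNPairCore.rel_symm hty) h3

/-- **A perfect normal subgroup containing `U`.** -/
theorem simple_split (hi : P.Irreducible) (hne : P.S.Nonempty) (hsol : Group.IsSolvable P.B) (hp : ⁅R, R⁆ = R) :
    IsSimpleGroup ↥R ∧ HasSplit p ↥R := by
  obtain ⟨P', hB, hN, hS, hS'⟩ := exists_res h R hU
  have h1 := split_res h R hU hB hN hS
  obtain ⟨s, hs⟩ := hne
  obtain ⟨x, hx, -⟩ := hS' s hs
  have : Nontrivial ↥R := ⟨x, 1, fun e => S0319.not_mem_of_mem_S P' hx (e ▸ one_mem _)⟩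
  refine ⟨S0319.result P' (irr_res R hB hN hS hS' hi) ?_ ?_ h1.core, P', _, ⟨x, hx⟩, h1⟩
  · rw [hB]
    exact Group.isSolvable_of_isSolvable_injective
      (f := ({ toFun := fun x : ↥(P.B.subgroupOf R) => (⟨((x : ↥R) : Q), x.2⟩ : ↥P.B)
               map_one' := rfl
               map_mul' := fun _ _ => rfl } : ↥(P.B.subgroupOf R) →* ↥P.B))
      (fun x y e => Subtype.ext (Subtype.ext (congrArg (fun z : ↥P.B => (z : Q)) e)))
  · apply map_injective R.subtype_injective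
    rw [_root_.commutator_def, map_commutator, ← MonoidHom.range_eq_map, range_subtype, hp]

end Cfsg.Agent.TH.Ab.Grp
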