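import Cfsg.Agent.TH.Ex.Ab.GrpA
import Cfsg.Agent.BpTab.Final
import Cfsg.Agent.Lib.ComponentSolvable

/-!
# S3541, [COMP], group half: the quotient attached to a component of the diagram (helper60)

`SX P p U X` : split (B, N)-pairs with root groups; `Cn P J` : connected components of the diagram;
`QJ P J` : the quotient of `K` acting on the building of `J`; `SX.split` : its split (B, N)-pair;
`SX.comp` : the quotient attached to a component of `K`.
-/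

set_option autoImplicit false
set_option linter.unusedSectionVars false

namespace Cfsg.Agent.TH.Ab.Grp

open Cfsg Subgroup Cfsg.Agent.FixBN Cfsg.Agent.Schreier.BNSch Cfsg.Agent.LieExceptional Cfsg.Agent.BpExc.TitsRed
  Cfsg.Agent.H283.DescQuot
open Cfsg.Agent.LieExceptional.BNPairCore (C mem_C)

variable {K : Type*} [Group K]

/-- the normal closure of the root groups of `J` -/
def DJ (X : K → Subgroup K) (J : Set K) : Subgroup K := normalClosure {x | ∃ t ∈ J, x ∈ X t}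

theorem DJ_normal (X : K → Subgroup K) (J : Set K) : (DJ X J).Normal := normalClosure_normal

theorem le_DJ {X : K → Subgroup K} {J : Set K} {t : K} (ht : t ∈ J) : X t ≤ DJ X J :=
  fun _ hx => subset_normalClosure ⟨t, ht, hx⟩

theorem DJ_le {X : K → Subgroup K} {J : Set K} {R : Subgroup K} [R.Normal] (h : ∀ t ∈ J, X t ≤ R) : DJ X J ≤ R := by
  refine normalClosure_le_normal ?_
  rintro x ⟨t, ht, hx⟩
  exact h t ht hx

/-- **Split (B, N)-pairs with root groups.** -/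
structure SX (P : BNPair K) (p : ℕ) (U : Subgroup K) (X : K → Subgroup K) : Prop extends Dat P U X where
  isP : IsPGroup p U
  cover : ∀ b ∈ P.B, ∃ u ∈ U, u⁻¹ * b ∈ P.N
  tor : ∃ m : ℕ, ¬ p ∣ m ∧ ∀ h ∈ P.B, h ∈ P.N → h ^ m = 1
  node : ∀ s ∈ P.S, ∃ V, Node P U s V ∧ (∀ u ∈ U, ∃ x ∈ X s, ∃ v ∈ V, u = x * v) ∧ ∀ x ∈ X s, x ∈ V → x = 1
  rep : ∀ s ∈ P.S, ∃ h ∈ P.B ⊓ P.N, h * s ∈ normalClosure (X s : Set K)
  HX : ∀ s ∈ P.S, ∀ h ∈ P.B ⊓ P.N, ∀ x ∈ X s, h * x * h⁻¹ ∈ X s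
  span : U ≤ DJ X P.S
  opp : ∃ g ∈ P.N, ∀ u ∈ U, g⁻¹ * u * g ∈ P.B → u = 1

/-- connected components of the diagram -/
structure Cn (P : BNPair K) (J : Set K) : Prop where
  sub : J ⊆ P.S
  ne : J.Nonempty
  cl : ∀ s ∈ J, ∀ t ∈ P.S \ J, s * t * s⁻¹ * t⁻¹ ∈ P.B
  irr : ∀ J' ⊆ J, J'.Nonempty → (J \ J').Nonempty → ∃ s ∈ J', ∃ t ∈ J \ J', s * t * s⁻¹ * t⁻¹ ∉ P.B

variable {P : BNPair K}

theorem exists_cn [Finite K] {s : K} (hs : s ∈ P.S) : ∃ J, Cn P J ∧ s ∈ J := by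
  obtain ⟨J, hJ⟩ := (Set.toFinite {J : Set K | J ⊆ P.S ∧ s ∈ J ∧ ∀ a ∈ J, ∀ t ∈ P.S \ J,
    a * t * a⁻¹ * t⁻¹ ∈ P.B}).exists_minimal ⟨P.S, le_rfl, hs, fun a _ t ht => absurd ht.1 ht.2⟩
  obtain ⟨⟨h1, h2, h3⟩, hmin⟩ := hJ
  refine ⟨J, ⟨h1, ⟨s, h2⟩, h3, fun J' hJ' a1 a2 => ?_⟩, h2⟩
  by_contra hcon
  push Not at hcon
  by_cases hs' : s ∈ J'
  · have h4 : J ⊆ J' := hmin (y := J') ⟨hJ'.trans h1, hs', fun a ha t ht => by
      by_cases htJ : t ∈ J
      · exact hcon a ha t ⟨htJ, ht.2⟩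
      · exact h3 a (hJ' ha) t ⟨ht.1, htJ⟩⟩ hJ'
    obtain ⟨x, hx, hx'⟩ := a2
    exact hx' (h4 hx)
  · have h4 : J ⊆ J \ J' := hmin (y := J \ J') ⟨Set.sdiff_subset.trans h1, ⟨h2, hs'⟩, fun a ha t ht => by
      by_cases htJ : t ∈ J
      · have h5 : t ∈ J' := by
          by_contra h6
          exact ht.2 ⟨htJ, h6⟩
        have h6 := inv_mem (hcon t h5 a ha)
        have e : (t * a * t⁻¹ * a⁻¹)⁻¹ = a * t * a⁻¹ * t⁻¹ := by group
        rwa [e] at h6
      · exact h3 a ha.1 t ⟨ht.1, htJ⟩⟩ Set.sdiff_subset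
    obtain ⟨x, hx⟩ := a1
    exact (h4 (hJ' hx)).2 hx

theorem comm_closure {J : Set K} (hJ : J ⊆ P.S) {s : K} (h : ∀ t ∈ J, s * t * s⁻¹ * t⁻¹ ∈ P.B) (hs : s ∈ P.S) {n : K}
    (hn : n ∈ closure J) : n ∈ P.N ∧ s * n * s⁻¹ * n⁻¹ ∈ P.B := by
  have hsN := P.subset hs
  have key : ∀ x ∈ P.N, s * x * s⁻¹ * x⁻¹ ∈ P.N := fun x hx =>
    mul_mem (mul_mem (mul_mem hsN hx) (inv_mem hsN)) (inv_mem hx)
  induction hn using closure_induction with
  | mem x hx => exact ⟨P.subset (hJ hx), h x hx⟩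
  | one => exact ⟨one_mem _, by simp⟩
  | mul x y _ _ h1 h2 =>
    refine ⟨mul_mem h1.1 h2.1, ?_⟩
    have e : s * (x * y) * s⁻¹ * (x * y)⁻¹ = (s * x * s⁻¹ * x⁻¹) * (x * (s * y * s⁻¹ * y⁻¹) * x⁻¹) := by group
    rw [e]
    exact mul_mem h1.2 (BNPairCore.conj_mem' h1.1 h2.2 (key y h2.1))
  | inv x _ h1 =>
    refine ⟨inv_mem h1.1, ?_⟩
    have e : s * x⁻¹ * s⁻¹ * x⁻¹⁻¹ = x⁻¹ * (s * x * s⁻¹ * x⁻¹)⁻¹ * x := by group
    rw [e]
    exact BNPairCore.conj_mem_inv h1.1 (inv_mem h1.2) (inv_mem (key x h1.1))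

/-- `K = P_{S \ J} P_J` -/
theorem exists_mul {J : Set K} (hc : ∀ s ∈ J, ∀ t ∈ P.S \ J, s * t * s⁻¹ * t⁻¹ ∈ P.B) (g : K) :
    ∃ a ∈ P.parabolic (P.S \ J), ∃ c ∈ P.parabolic J, g = a * c := by
  have hB : ∀ {I : Set K} {b : K}, b ∈ P.B → b ∈ P.parabolic I := fun hb => mem_sup_left hb
  have key : ∀ l : List K, (∀ s ∈ l, s ∈ P.S) → ∃ a ∈ P.parabolic (P.S \ J), ∃ c ∈ P.parabolic J, l.prod = a * c := by
    intro l
    induction l with
    | nil => exact fun _ => ⟨1, one_mem _, 1, one_mem _, by simp⟩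
    | cons s l ih =>
      intro hl
      have hs := hl s List.mem_cons_self
      obtain ⟨a, ha, c, hc', e⟩ := ih fun x hx => hl x (List.mem_cons_of_mem _ hx)
      rw [List.prod_cons, e]
      by_cases hsJ : s ∈ J
      · obtain ⟨n, hn, hC⟩ := (BNPairCore.mem_parabolic_iff Set.sdiff_subset a).1 ha
        obtain ⟨b, hb, b', hb', rfl⟩ := mem_C.1 hC
        obtain ⟨hnN, h1⟩ := comm_closure Set.sdiff_subset (hc s hsJ) hs hn
        have hn' : n ∈ P.parabolic (P.S \ J) := mem_sup_right hn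
        have hs' : s ∈ P.parabolic J := mem_sup_right (subset_closure hsJ)
        rcases BNPairCore.axiom_left hs hnN hb with h2 | h2
        · obtain ⟨x, hx, y, hy, e2⟩ := mem_C.1 h2
          refine ⟨x * (s * n * s⁻¹ * n⁻¹) * n, mul_mem (mul_mem (hB hx) (hB h1)) hn', s * y * b' * c,
            mul_mem (mul_mem (mul_mem hs' (hB hy)) (hB hb')) hc', ?_⟩
          calc s * (b * n * b' * c) = (s * b * n) * b' * c := by group
            _ = _ := by rw [e2]; group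
        · obtain ⟨x, hx, y, hy, e2⟩ := mem_C.1 h2
          refine ⟨x * n, mul_mem (hB hx) hn', y * b' * c, mul_mem (mul_mem (hB hy) (hB hb')) hc', ?_⟩
          calc s * (b * n * b' * c) = (s * b * n) * b' * c := by group
            _ = _ := by rw [e2]; group
      · exact ⟨s * a, mul_mem (mem_sup_right (subset_closure ⟨hs, hsJ⟩)) ha, c, hc', by group⟩
  obtain ⟨n, hn, hC⟩ := BNPairCore.bruhat (P := P) g
  obtain ⟨b, hb, b', hb', rfl⟩ := mem_C.1 hC
  obtain ⟨l, hl, h1⟩ := BNPairCore.exists_word hn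
  obtain ⟨a, ha, c, hc', e⟩ := key l hl
  refine ⟨b * a, mul_mem (hB hb) ha, c * (l.prod⁻¹ * n) * b', mul_mem (mul_mem hc' (hB h1)) (hB hb'), ?_⟩
  calc b * n * b' = b * l.prod * (l.prod⁻¹ * n) * b' := by group
    _ = b * (a * c) * (l.prod⁻¹ * n) * b' := by rw [← e]
    _ = _ := by group

variable {p : ℕ} {U : Subgroup K} {X : K → Subgroup K}

theorem DJ_le_par (D : Dat P U X) {J : Set K} (hJ : J ⊆ P.S)
    (hc : ∀ s ∈ J, ∀ t ∈ P.S \ J, s * t * s⁻¹ * t⁻¹ ∈ P.B) : DJ X (P.S \ J) ≤ P.parabolic (P.S \ J) := by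
  have hnorm : ∀ t ∈ P.S \ J, P.parabolic J ≤ normalizer (Rt P.B (X t) : Set K) := by
    intro t ht
    refine sup_le (Rt_le_normalizer _ _) ((closure_le _).2 fun s hs => ?_)
    have h1 := D.comm s (hJ hs) t ht.1 (fun e => ht.2 (e ▸ hs)) (hc s hs t ht)
    show s ∈ normalizer _
    rw [mem_normalizer_iff]
    intro x
    refine ⟨h1 x, fun hx => ?_⟩
    have h4 := Rt_conj (inv_mem (P.sq_mem s (hJ hs))) (h1 _ hx)
    have h5 : (s * s)⁻¹ * (s * (s * x * s⁻¹) * s⁻¹) * (s * s)⁻¹⁻¹ = x := by group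
    rwa [h5] at h4
  unfold DJ normalClosure
  rw [closure_le]
  intro y hy
  rw [Group.mem_conjugatesOfSet_iff] at hy
  obtain ⟨x, ⟨t, ht, hx⟩, hxy⟩ := hy
  rw [isConj_iff] at hxy
  obtain ⟨g, rfl⟩ := hxy
  obtain ⟨a, ha, c, hc', rfl⟩ := exists_mul hc g
  have h1 := (mem_normalizer_iff.1 (hnorm t ht hc') x).1 (le_Rt _ _ hx)
  have h2 : Rt P.B (X t) ≤ P.B :=
    Rt_le ((D.le t ht.1).trans D.U_le) fun b hb x hx => mul_mem (mul_mem hb hx) (inv_mem hb)
  have h3 : a * c * x * (a * c)⁻¹ = a * (c * x * c⁻¹) * a⁻¹ := by group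
  rw [SetLike.mem_coe, h3]
  exact mul_mem (mul_mem ha (mem_sup_left (h2 h1))) (inv_mem ha)

theorem DJ_le_par' (D : Dat P U X) {J : Set K} (hJ : J ⊆ P.S)
    (hc : ∀ s ∈ J, ∀ t ∈ P.S \ J, s * t * s⁻¹ * t⁻¹ ∈ P.B) : DJ X J ≤ P.parabolic J := by
  have e : P.S \ (P.S \ J) = J := Set.sdiff_sdiff_cancel_left hJ
  have h1 := DJ_le_par D (J := P.S \ J) Set.sdiff_subset fun s hs t ht => by
    rw [e] at ht
    have h6 := inv_mem (hc t ht s hs)
    have e2 : (t * s * t⁻¹ * s⁻¹)⁻¹ = s * t * s⁻¹ * t⁻¹ := by group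
    rwa [e2] at h6
  rwa [e] at h1

/-- the quotient acting on the building of `J` -/
abbrev QJ (P : BNPair K) (J : Set K) := K ⧸ (P.parabolic (P.S \ J)).normalCore

/-- the quotient map -/
abbrev fJ (P : BNPair K) (J : Set K) : K →* QJ P J := QuotientGroup.mk' _

/-- the (B, N)-pair of the quotient -/
abbrev PJ (P : BNPair K) (J : Set K) : BNPair (QJ P J) := quo P (fJ P J) (QuotientGroup.mk'_surjective _)

theorem fJ_eq_one {J : Set K} {x : K} : fJ P J x = 1 ↔ x ∈ (P.parabolic (P.S \ J)).normalCore :=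
  QuotientGroup.eq_one_iff x

namespace SX

variable (D : SX P p U X) {J : Set K} (hJ : Cn P J)
include D

theorem cover' {b : K} (hb : b ∈ P.B) : ∃ u ∈ U, ∃ t ∈ P.B ⊓ P.N, b = u * t := by
  obtain ⟨u, hu, hun⟩ := D.cover b hb
  exact ⟨u, hu, u⁻¹ * b, ⟨P.B.mul_mem (P.B.inv_mem (D.U_le hu)) hb, hun⟩, by group⟩

theorem pow_eq {u t : K} (hu : u ∈ U) (ht : t ∈ P.B) (n : ℕ) : ∃ v ∈ U, (u * t) ^ n = v * t ^ n := by
  induction n with
  | zero => exact ⟨1, one_mem _, by simp⟩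
  | succ n ih =>
    obtain ⟨v, hv, e⟩ := ih
    refine ⟨v * (t ^ n * u * (t ^ n)⁻¹), mul_mem hv (D.norm _ (pow_mem ht n) u hu), ?_⟩
    rw [pow_succ, e, pow_succ]
    group

include hJ

theorem ker_DJ {x : K} (hx : x ∈ DJ X (P.S \ J)) : fJ P J x = 1 := by
  have := DJ_normal X (P.S \ J)
  exact fJ_eq_one.2 (normal_le_normalCore.2 (DJ_le_par D.toDat hJ.sub hJ.cl) hx)

theorem mem_B_iff {g : K} : fJ P J g ∈ (PJ P J).B ↔ g ∈ P.parabolic (P.S \ J) := by
  constructor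
  · rintro ⟨b, hb, e⟩
    have h1 : fJ P J (b⁻¹ * g) = 1 := by rw [map_mul, map_inv, e, inv_mul_cancel]
    have h2 := mul_mem (mem_sup_left hb : b ∈ P.parabolic (P.S \ J)) (normalCore_le _ (fJ_eq_one.1 h1))
    rwa [mul_inv_cancel_left] at h2
  · intro hg
    have h1 : P.parabolic (P.S \ J) ≤ (P.B.map (fJ P J)).comap (fJ P J) := by
      refine sup_le (fun b hb => ⟨b, hb, rfl⟩) ((closure_le _).2 fun s hs => ?_)
      obtain ⟨h, hh, h1⟩ := D.rep s hs.1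
      have := DJ_normal X (P.S \ J)
      have h2 := D.ker_DJ hJ (normalClosure_le_normal (N := DJ X (P.S \ J)) (le_DJ hs) h1)
      refine ⟨h⁻¹, inv_mem hh.1, ?_⟩
      rw [map_mul] at h2
      rw [map_inv, inv_eq_of_mul_eq_one_right h2]
    exact h1 hg

theorem mem_B_of {g : K} (hg : g ∈ P.parabolic J) (h : fJ P J g ∈ (PJ P J).B) : g ∈ P.B := by
  rw [← parabolic_inf P hJ.sub (K := P.S \ J) Set.sdiff_subset (Set.inter_sdiff_self J P.S)]
  exact ⟨hg, (D.mem_B_iff hJ).1 h⟩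

theorem S_eq : (PJ P J).S = fJ P J '' J := by
  show fJ P J '' {s | s ∈ P.S ∧ s ∉ KK P (fJ P J)} = _
  congr 1
  ext s
  constructor
  · rintro ⟨hs, h1⟩
    by_contra h2
    exact h1 ((D.mem_B_iff hJ).2 (mem_sup_right (subset_closure ⟨hs, h2⟩)))
  · intro hs
    exact ⟨hJ.sub hs, fun h1 => ((BNPairCore.mem_parabolic_gen_iff Set.sdiff_subset (hJ.sub hs)).1
      ((D.mem_B_iff hJ).1 h1)).2 hs⟩

theorem exists_tor {x : QJ P J} (h1 : x ∈ (PJ P J).B) (h2 : x ∈ (PJ P J).N) : ∃ t ∈ P.B ⊓ P.N, fJ P J t = x := by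
  obtain ⟨n, hn, rfl⟩ := h2
  obtain ⟨n', hn', hC⟩ := (BNPairCore.mem_parabolic_iff Set.sdiff_subset n).1 ((D.mem_B_iff hJ).1 h1)
  have key : ∀ y ∈ closure (P.S \ J), y ∈ P.N ∧ ∃ t ∈ P.B ⊓ P.N, fJ P J t = fJ P J y := by
    intro y hy
    induction hy using closure_induction with
    | mem s hs =>
      obtain ⟨h, hh, h1⟩ := D.rep s hs.1
      have := DJ_normal X (P.S \ J)
      have h2 := D.ker_DJ hJ (normalClosure_le_normal (N := DJ X (P.S \ J)) (le_DJ hs) h1)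
      refine ⟨P.subset hs.1, h⁻¹, inv_mem hh, ?_⟩
      rw [map_mul] at h2
      rw [map_inv, inv_eq_of_mul_eq_one_right h2]
    | one => exact ⟨one_mem _, 1, one_mem _, rfl⟩
    | mul x y _ _ a1 a2 =>
      obtain ⟨a1, t, ht, e⟩ := a1
      obtain ⟨a2, t', ht', e'⟩ := a2
      exact ⟨mul_mem a1 a2, t * t', mul_mem ht ht', by rw [map_mul, map_mul, e, e']⟩
    | inv x _ a1 =>
      obtain ⟨a1, t, ht, e⟩ := a1
      exact ⟨inv_mem a1, t⁻¹, inv_mem ht, by rw [map_inv, map_inv, e]⟩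
  obtain ⟨a1, t, ht, e⟩ := key n' hn'
  have h3 := BNPairCore.rel_of_C_eq a1 hn (BNPairCore.C_eq_of_mem hC).symm
  exact ⟨t * (n'⁻¹ * n), mul_mem ht ⟨h3, P.N.mul_mem (P.N.inv_mem a1) hn⟩, by rw [map_mul, e, ← map_mul, mul_inv_cancel_left]⟩

theorem node_quo {s : K} (hs : s ∈ J) {V : Subgroup K} (hV : Node P U s V) :
    Node (PJ P J) (U.map (fJ P J)) (fJ P J s) (V.map (fJ P J)) ∧ ∀ u ∈ U, fJ P J u ∈ V.map (fJ P J) → u ∈ V := by
  have hsJ : s ∈ P.parabolic J := mem_sup_right (subset_closure hs)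
  have key : ∀ u ∈ U, fJ P J (s⁻¹ * u * s) ∈ (PJ P J).B → u ∈ V := fun u hu h =>
    hV.stab u hu (D.mem_B_of hJ (mul_mem (mul_mem (inv_mem hsJ) (mem_sup_left (D.U_le hu))) hsJ) h)
  have key2 : ∀ u ∈ U, fJ P J u ∈ V.map (fJ P J) → u ∈ V := by
    rintro u hu ⟨v, hv, e⟩
    refine key u hu ⟨s⁻¹ * v * s, D.U_le (hV.le (hV.conj_s v hv)), ?_⟩
    rw [map_mul, map_mul, map_mul, map_mul, e]
  refine ⟨⟨map_mono hV.le, ?_, ?_, ?_, ?_⟩, key2⟩
  · obtain ⟨u, hu, huV⟩ := hV.ne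
    exact ⟨_, ⟨u, hu, rfl⟩, fun h => huV (key2 u hu h)⟩
  · rintro _ ⟨b, hb, rfl⟩ _ ⟨v, hv, rfl⟩
    exact ⟨b * v * b⁻¹, hV.conj_B b hb v hv, by rw [map_mul, map_mul, map_inv]⟩
  · rintro _ ⟨v, hv, rfl⟩
    exact ⟨s⁻¹ * v * s, hV.conj_s v hv, by rw [map_mul, map_mul, map_inv]⟩
  · rintro _ ⟨u, hu, rfl⟩ h
    rw [← map_inv, ← map_mul, ← map_mul] at h
    exact ⟨u, key u hu h, rfl⟩

/-- **The quotient is split.** -/
theorem split : Split (PJ P J) p (U.map (fJ P J)) where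
  le := map_mono D.U_le
  norm := by
    rintro _ ⟨b, hb, rfl⟩ _ ⟨u, hu, rfl⟩
    exact ⟨b * u * b⁻¹, D.norm b hb u hu, by rw [map_mul, map_mul, map_inv]⟩
  isP := D.isP.map _
  cover := by
    rintro _ ⟨b, hb, rfl⟩
    obtain ⟨u, hu, h1⟩ := D.cover b hb
    exact ⟨_, ⟨u, hu, rfl⟩, u⁻¹ * b, h1, by rw [map_mul, map_inv]⟩
  tor := by
    obtain ⟨m, hm, h1⟩ := D.tor
    refine ⟨m, hm, fun x a1 a2 => ?_⟩
    obtain ⟨t, ht, rfl⟩ := D.exists_tor hJ a1 a2
    rw [← map_pow, h1 t ht.1 ht.2, map_one]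
  node := by
    rw [D.S_eq hJ]
    rintro _ ⟨s, hs, rfl⟩
    obtain ⟨V, hV, -⟩ := D.node s (hJ.sub hs)
    exact ⟨_, (D.node_quo hJ hs hV).1⟩
  core := by
    rw [eq_bot_iff]
    intro x hx
    obtain ⟨x, rfl⟩ := QuotientGroup.mk'_surjective _ x
    refine mem_bot.2 (fJ_eq_one.2 fun g => (D.mem_B_iff hJ).1 ?_)
    rw [map_mul, map_mul, map_inv]
    exact hx _

theorem irr : (PJ P J).Irreducible := by
  intro I hI h1 h2
  rw [D.S_eq hJ] at hI h2
  obtain ⟨s, hs, t, ht, hc⟩ := hJ.irr {s | s ∈ J ∧ fJ P J s ∈ I} (fun s hs => hs.1)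
    (by
      obtain ⟨x, hx⟩ := h1
      obtain ⟨s, hs, rfl⟩ := hI hx
      exact ⟨s, hs, hx⟩)
    (by
      obtain ⟨_, ⟨s, hs, rfl⟩, hx⟩ := h2
      exact ⟨s, hs, fun h => hx h.2⟩)
  refine ⟨_, hs.2, fJ P J t, ⟨?_, fun h => ht.2 ⟨ht.1, h⟩⟩, fun h => hc ?_⟩
  · rw [D.S_eq hJ]
    exact ⟨t, ht.1, rfl⟩
  · have a1 : s ∈ P.parabolic J := mem_sup_right (subset_closure hs.1)
    have a2 : t ∈ P.parabolic J := mem_sup_right (subset_closure ht.1)
    refine D.mem_B_of hJ (mul_mem (mul_mem (mul_mem a1 a2) (inv_mem a1)) (inv_mem a2)) ?_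
    rw [map_mul, map_mul, map_mul, map_inv, map_inv]
    exact h

omit hJ in
theorem DS_le (J : Set K) : DJ X P.S ≤ DJ X J ⊔ DJ X (P.S \ J) := by
  have := DJ_normal X J
  have := DJ_normal X (P.S \ J)
  refine DJ_le fun t ht => ?_
  by_cases h : t ∈ J
  · exact (le_DJ h).trans le_sup_left
  · exact (le_DJ (J := P.S \ J) ⟨ht, h⟩).trans le_sup_right

theorem simple_quo (h : ∀ s ∈ J, X s ≤ ⁅normalClosure (U : Set K), normalClosure (U : Set K)⁆) :
    IsSimpleGroup ↥((normalClosure (U : Set K)).map (fJ P J)) ∧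
      HasSplit p ↥((normalClosure (U : Set K)).map (fJ P J)) := by
  set L := normalClosure (U : Set K) with hL
  have := DJ_normal X J
  have := DJ_normal X (P.S \ J)
  have := DJ_normal X P.S
  have hn : (L.map (fJ P J)).Normal := Normal.map inferInstance _ (QuotientGroup.mk'_surjective _)
  refine simple_split (D.split hJ) _ (map_mono le_normalClosure) (D.irr hJ) ?_ ?_ ?_
  · rw [D.S_eq hJ]
    exact hJ.ne.image _
  · have := D.solv
    exact Group.isSolvable_of_surjective (MonoidHom.subgroupMap_surjective (fJ P J) P.B)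
  · refine le_antisymm (commutator_le_left _ _) ?_
    rw [← map_commutator]
    rintro _ ⟨x, hx, rfl⟩
    have h1 : L ≤ DJ X J ⊔ DJ X (P.S \ J) := (normalClosure_le_normal D.span).trans (D.DS_le J)
    obtain ⟨a, ha, b, hb, rfl⟩ := mem_sup_of_normal_right.1 (h1 hx)
    exact ⟨a, DJ_le h ha, by rw [map_mul, D.ker_DJ hJ hb, mul_one]⟩

omit hJ in
/-- **The quotient attached to a component.** -/
theorem comp [Finite K] (E : Subgroup K) (h1 : E.IsSubnormal) (h2 : IsQuasisimple ↥E)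
    (h3 : E ≤ normalClosure (U : Set K)) : ∃ J, Cn P J ∧ ¬ Group.IsSolvable (QJ P J) ∧
      Nat.card (↥E ⧸ center ↥E) ∣ Nat.card (QJ P J) ∧
      ((∀ s ∈ J, X s ≤ ⁅normalClosure (U : Set K), normalClosure (U : Set K)⁆) → HasSplit p (↥E ⧸ center ↥E)) := by
  have hns : ¬ Group.IsSolvable ↥E := fun h => Lib.ComponentSolvable.quasisimple_center_ne_top h2 (top_le_iff.1
    (Lib.ComponentSolvable.quasisimple_solvable_normal_le_center h2 (N := ⊤) inferInstance inferInstance))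
  set V := normalClosure (E : Set K) with hV
  have hVB : V ⊔ P.B = P.parabolic (P.S ∩ ((V ⊔ P.B : Subgroup K) : Set K)) := BNPairCore.eq_parabolic le_sup_right
  obtain ⟨s, hs, hsV⟩ : (P.S ∩ ((V ⊔ P.B : Subgroup K) : Set K)).Nonempty := by
    by_contra h
    rw [Set.not_nonempty_iff_eq_empty] at h
    rw [h] at hVB
    have h4 : E ≤ P.B := by
      refine (le_normalClosure.trans (le_sup_left : V ≤ V ⊔ P.B)).trans ?_
      rw [hVB]
      exact sup_le le_rfl (by rw [Subgroup.closure_empty]; exact bot_le)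
    have := D.solv
    exact hns (Group.isSolvable_of_isSolvable_injective (inclusion_injective h4))
  obtain ⟨J, hJ, hsJ⟩ := exists_cn hs
  set φ : ↥E →* QJ P J := (fJ P J).comp E.subtype with hφ
  have hk : φ.ker ≤ center ↥E := by
    rcases Lib.ComponentSolvable.quasisimple_normal_cases h2 (N := φ.ker) inferInstance with h | h
    · exfalso
      have h4 : V ≤ (P.parabolic (P.S \ J)).normalCore := normalClosure_le_normal fun x hx =>
        fJ_eq_one.1 (show (⟨x, hx⟩ : ↥E) ∈ φ.ker by rw [h]; exact mem_top _)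
      have h5 : s ∈ P.parabolic (P.S \ J) :=
        (sup_le (h4.trans (normalCore_le _)) le_sup_left : V ⊔ P.B ≤ P.parabolic (P.S \ J)) hsV
      exact ((BNPairCore.mem_parabolic_gen_iff Set.sdiff_subset hs).1 h5).2 hsJ
    · exact h
  refine ⟨J, hJ, fun hsol => hns ?_, ?_, fun h => ?_⟩
  · have : Group.IsSolvable ↥φ.ker := Group.isSolvable_of_comm fun a b =>
      Subtype.ext (mem_center_iff.1 (hk b.2) a)
    exact Group.isSolvable_of_ker_le_range φ.ker.subtype φ (by rw [range_subtype])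
  · refine (index_dvd_of_le hk).trans ?_
    rw [index_ker]
    exact card_subgroup_dvd_card _
  · obtain ⟨a1, a2⟩ := D.simple_quo hJ h
    set L := (normalClosure (U : Set K)).map (fJ P J) with hL
    set ψ : ↥E →* ↥L := φ.codRestrict L fun x => ⟨x, h3 x.2, rfl⟩ with hψ
    have hker : ψ.ker = φ.ker := MonoidHom.ker_codRestrict _ _ _
    have hsub : ((E.map (fJ P J)).subgroupOf L).IsSubnormal := (h1.map (QuotientGroup.mk'_surjective _)).subgroupOf
    have hr : ψ.range = (E.map (fJ P J)).subgroupOf L := by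
      ext y
      constructor
      · rintro ⟨x, rfl⟩
        exact ⟨x, x.2, rfl⟩
      · rintro ⟨x, hx, e⟩
        exact ⟨⟨x, hx⟩, Subtype.ext e⟩
    have hsurj : Function.Surjective ψ := by
      rw [← MonoidHom.range_eq_top, hr]
      refine (hsub.eq_bot_or_top_of_isSimpleGroup a1).resolve_left fun h4 => ?_
      rw [← hr, MonoidHom.range_eq_bot_iff] at h4
      refine Lib.ComponentSolvable.quasisimple_center_ne_top h2 (top_le_iff.1 (le_trans ?_ hk))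
      rw [← hker, h4]
      exact fun x _ => rfl
    have hc : center ↥E = ψ.ker := by
      refine le_antisymm ?_ (hker ▸ hk)
      have hn : ((center ↥E).map ψ).Normal := Normal.map inferInstance _ hsurj
      rcases hn.eq_bot_or_eq_top with h4 | h4
      · exact (Subgroup.map_eq_bot_iff _).1 h4
      · exfalso
        refine Lib.ComponentSolvable.quasisimple_center_ne_top h2 (top_le_iff.1 fun x _ => ?_)
        obtain ⟨z, hz, e⟩ : ψ x ∈ (center ↥E).map ψ := by rw [h4]; exact mem_top _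
        have h5 : z⁻¹ * x ∈ ψ.ker := by rw [MonoidHom.mem_ker, map_mul, map_inv, e, inv_mul_cancel]
        have h6 := mul_mem hz (hk (hker ▸ h5))
        rwa [mul_inv_cancel_left] at h6
    exact Transport.hasSplit_congr ((QuotientGroup.quotientMulEquivOfEq hc).trans
      (QuotientGroup.quotientKerEquivOfSurjective ψ hsurj)).symm a2

end SX

end Cfsg.Agent.TH.Ab.Grp
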