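import Cfsg.Agent.TH.Ex.Ab.GrpB
import Cfsg.Agent.H580.RankTwo
import Cfsg.Agent.H95.Hig.Num
import Cfsg.Agent.S0144

/-!
# S3541, [COMP], group half: small root groups (helper60)

* `SX.rank_one` : an isolated node with non-solvable quotient has a large root group;
* `SX.rank_two` : two nodes with root groups of order two and Weyl group of order eight.
-/

set_option autoImplicit false
set_option linter.unusedSectionVars false

namespace Cfsg.Agent.TH.Ab.Grp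

open Cfsg Subgroup Cfsg.Agent.FixBN Cfsg.Agent.Schreier.BNSch Cfsg.Agent.LieExceptional Cfsg.Agent.BpExc.TitsRed
  Cfsg.Agent.H283.DescQuot Cfsg.Agent.LieRecognition.FeitHigmanGroup
open Cfsg.Agent.LieExceptional.BNPairCore (C mem_C len)

theorem solv23 {Q : Type*} [Group Q] [Finite Q] (h : ∀ r : ℕ, r.Prime → r ∣ Nat.card Q → r = 2 ∨ r = 3) :
    Group.IsSolvable Q := by
  obtain ⟨a, n, h1, e1⟩ := Nat.exists_eq_pow_mul_and_not_dvd (Nat.card_pos (α := Q)).ne' 2 (by norm_num)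
  have hn : n ≠ 0 := by
    rintro rfl
    exact h1 (dvd_zero 2)
  obtain ⟨b, k, h2, e2⟩ := Nat.exists_eq_pow_mul_and_not_dvd hn 3 (by norm_num)
  have hk : k = 1 := by
    rw [Nat.eq_one_iff_not_exists_prime_dvd]
    intro r hr hd
    have h3 : r ∣ n := e2 ▸ Dvd.dvd.mul_left hd _
    rcases h r hr (e1 ▸ Dvd.dvd.mul_left h3 _) with rfl | rfl
    · exact h1 h3
    · exact h2 hd
  exact S0144.result 2 3 a b Nat.prime_two Nat.prime_three (by rw [e1, e2, hk, mul_one])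

theorem sq_comm {K : Type*} [Group K] [Finite K] {Z : Subgroup K} (hZ : Nat.card Z ≤ 3) {h : K}
    (hh : ∀ x ∈ Z, h * x * h⁻¹ ∈ Z) {x : K} (hx : x ∈ Z) : h ^ 2 * x = x * h ^ 2 := by
  classical
  by_contra hc
  have a1 : x ≠ 1 := by
    rintro rfl
    exact hc (by rw [mul_one, one_mul])
  have a2 : h * (h * x * h⁻¹) * h⁻¹ ≠ x := fun e => hc (by
    calc h ^ 2 * x = h * (h * x * h⁻¹) * h⁻¹ * h ^ 2 := by rw [pow_two]; group
      _ = _ := by rw [e])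
  have a3 : h * x * h⁻¹ ≠ x := fun e => a2 (by rw [e, e])
  have a4 : h * (h * x * h⁻¹) * h⁻¹ ≠ h * x * h⁻¹ := fun e => a3 (by simpa using e)
  have a5 : h * x * h⁻¹ ≠ 1 := fun e => a1 (conj_eq_one_iff.1 e)
  have a6 : h * (h * x * h⁻¹) * h⁻¹ ≠ 1 := fun e => a5 (conj_eq_one_iff.1 e)
  have h1 : ({1, x, h * x * h⁻¹, h * (h * x * h⁻¹) * h⁻¹} : Set K) ⊆ Z := by
    rintro y (rfl | rfl | rfl | rfl)
    exacts [one_mem _, hx, hh _ hx, hh _ (hh _ hx)]
  have h2 := Set.ncard_le_ncard h1 (Set.toFinite _)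
  rw [Set.ncard_insert_of_notMem (by
      rintro (e | e | e)
      exacts [a1 e.symm, a5 e.symm, a6 e.symm]), Set.ncard_insert_of_notMem (by
      rintro (e | e)
      exacts [a3 e.symm, a2 e.symm]), Set.ncard_pair a4.symm] at h2
  have h3 : (Z : Set K).ncard = Nat.card Z := (Nat.card_coe_set_eq _).symm
  omega

theorem comm_two {K : Type*} [Group K] {Z : Subgroup K} (hZ : Nat.card Z = 2) {h : K}
    (hh : ∀ x ∈ Z, h * x * h⁻¹ ∈ Z) {x : K} (hx : x ∈ Z) : h * x = x * h := by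
  obtain ⟨y, -, hy⟩ := (Nat.card_eq_two_iff' (1 : Z)).1 hZ
  by_cases a1 : x = 1
  · rw [a1, mul_one, one_mul]
  · have a2 := hy ⟨x, hx⟩ fun e => a1 (congrArg Subtype.val e)
    have a3 := hy ⟨_, hh x hx⟩ fun e => a1 (conj_eq_one_iff.1 (congrArg Subtype.val e))
    have a4 : h * x * h⁻¹ = x := congrArg Subtype.val (a3.trans a2.symm)
    rwa [mul_inv_eq_iff_eq_mul] at a4

theorem q_of {Q : Type*} [Group Q] {P : BNPair Q} {p : ℕ} {U V Z : Subgroup Q} {s : Q} (h : Split P p U) (hs : s ∈ P.S)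
    (hV : Node P U s V) (hZ : Z ≤ U) (dec : ∀ u ∈ U, ∃ x ∈ Z, ∃ v ∈ V, u = x * v) (free : ∀ x ∈ Z, x ∈ V → x = 1) :
    q P s = Nat.card Z := by
  unfold q
  symm
  let f : Z → {y : Q ⧸ P.B // R P s ((1 : Q) : Q ⧸ P.B) y} := fun u => ⟨(((u : Q) * s : Q) : Q ⧸ P.B), by
    rw [R_mk_iff, inv_one, one_mul]
    exact mem_C.2 ⟨u, h.le (hZ u.2), 1, one_mem _, by rw [mul_one]⟩⟩
  refine Nat.card_congr (Equiv.ofBijective f ⟨?_, ?_⟩)
  · intro u u' huu
    have h1 : (((u : Q) * s : Q) : Q ⧸ P.B) = (((u' : Q) * s : Q) : Q ⧸ P.B) := congrArg Subtype.val huu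
    rw [QuotientGroup.eq] at h1
    have e : ((u : Q) * s)⁻¹ * ((u' : Q) * s) = s⁻¹ * ((u : Q)⁻¹ * u') * s := by group
    rw [e] at h1
    have h2 := mul_mem (inv_mem u.2) u'.2
    exact Subtype.ext (inv_mul_eq_one.mp (free _ h2 (hV.stab _ (hZ h2) h1)))
  · rintro ⟨y, hy⟩
    induction y using QuotientGroup.induction_on with
    | H g =>
      have hy' := hy
      rw [R_mk_iff, inv_one, one_mul] at hy'
      obtain ⟨b, hb, b', hb', rfl⟩ := mem_C.1 hy'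
      obtain ⟨u, hu, t, ht, rfl⟩ := h.cover' hb
      obtain ⟨x, hx, v, hv, rfl⟩ := dec u hu
      refine ⟨⟨x, hx⟩, Subtype.ext (QuotientGroup.eq.2 ?_)⟩
      have e : (x * s)⁻¹ * (x * v * t * s * b') = (s⁻¹ * v * s) * (s⁻¹ * t * s) * b' := by group
      rw [e]
      exact mul_mem (mul_mem (h.le (hV.le (hV.conj_s v hv))) (BNPairCore.conj_mem_inv (P.subset hs) ht.1 ht.2)) hb'

theorem map_alt {M N : Type*} [Monoid M] [Monoid N] (f : M →* N) (k : ℕ) : ∀ a b : M, f (alt k a b) = alt k (f a) (f b) := by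
  induction k with
  | zero => exact fun _ _ => map_one f
  | succ k ih => exact fun a b => by rw [alt_succ, alt_succ, map_mul, ih]

theorem alt_mem {K : Type*} [Group K] {H : Subgroup K} (k : ℕ) : ∀ {a b : K}, a ∈ H → b ∈ H → alt k a b ∈ H := by
  induction k with
  | zero => exact fun _ _ => one_mem _
  | succ k ih => exact fun ha hb => mul_mem ha (ih hb ha)

theorem q_alt {Q : Type*} [Group Q] [Finite Q] {P : BNPair Q} (k : ℕ) : ∀ {s t : Q}, s ∈ P.S → t ∈ P.S → q P s = 2 →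
    q P t = 2 → len P (alt k s t) = k → q P (alt k s t) = 2 ^ k := by
  induction k with
  | zero => exact fun _ _ _ _ _ => H580.RankTwo.q_one
  | succ k ih =>
    intro s t hs ht h1 h2 h3
    have h4 := len_alt_pred hs ht h3
    rw [alt_succ] at h3 ⊢
    rw [H580.RankTwo.q_mul hs (alt_mem_N ht hs k) (by omega), h1, ih ht hs h2 h1 h4, pow_succ']

namespace SX

variable {K : Type*} [Group K] [Finite K] {P : BNPair K} {p : ℕ} [hp : Fact p.Prime] {U : Subgroup K} {X : K → Subgroup K}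
  (D : SX P p U X) {J : Set K} (hJ : Cn P J)
include D

theorem p_dvd {s : K} (hs : s ∈ P.S) : p ∣ Nat.card (X s) := by
  obtain ⟨V, hV, h1, -⟩ := D.node s hs
  obtain ⟨u, hu, huV⟩ := hV.ne
  obtain ⟨x, hx, v, hv, rfl⟩ := h1 u hu
  have : Nontrivial (X s) := ⟨⟨x, hx⟩, 1, fun e => huV (by
    rw [show x = 1 from congrArg Subtype.val e, one_mul]; exact hv)⟩
  obtain ⟨n, hn, e⟩ := (D.isP.to_le (D.le s hs)).nontrivial_iff_card.1 this
  rw [e]
  exact dvd_pow_self p hn.ne'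

include hJ

theorem tor_ker (H : Set K) (h1 : ∀ h ∈ H, h ∈ P.B) (h2 : ∀ s ∈ J, ∀ h ∈ H, s⁻¹ * h * s ∈ H)
    (h3 : ∀ s ∈ J, ∀ h ∈ H, ∀ x ∈ X s, h * x = x * h) {h : K} (hh : h ∈ H) : fJ P J h = 1 := by
  have key : ∀ l : List K, (∀ s ∈ l, s ∈ J) → ∀ b' ∈ P.B, ∀ b ∈ P.B, ∀ h ∈ H,
      (b * l.prod * b')⁻¹ * h * (b * l.prod * b') ∈ P.B := by
    intro l
    induction l with
    | nil =>
      intro _ b' hb' b hb h hh
      rw [List.prod_nil, mul_one]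
      exact mul_mem (mul_mem (inv_mem (mul_mem hb hb')) (h1 h hh)) (mul_mem hb hb')
    | cons s l ih =>
      intro hl b' hb' b hb h hh
      have hs := hl s List.mem_cons_self
      obtain ⟨V, hV, a1, -⟩ := D.node s (hJ.sub hs)
      obtain ⟨u, hu, t, ht, rfl⟩ := D.cover' hb
      obtain ⟨x, hx, v, hv, rfl⟩ := a1 u hu
      have a2 := ih (fun y hy => hl y (List.mem_cons_of_mem _ hy)) b' hb' ((s⁻¹ * v * s) * (s⁻¹ * t * s))
        (mul_mem (D.U_le (hV.le (hV.conj_s v hv))) (BNPairCore.conj_mem_inv (P.subset (hJ.sub hs)) ht.1 ht.2)) _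
        (h2 s hs h hh)
      have e : (x * v * t * (s :: l).prod * b')⁻¹ * h * (x * v * t * (s :: l).prod * b') =
          (s⁻¹ * v * s * (s⁻¹ * t * s) * l.prod * b')⁻¹ * (s⁻¹ * (x⁻¹ * (h * x)) * s) *
            (s⁻¹ * v * s * (s⁻¹ * t * s) * l.prod * b') := by
        rw [List.prod_cons]; group
      rw [e, h3 s hs h hh x hx, inv_mul_cancel_left]
      exact a2
  refine fJ_eq_one.2 fun g => ?_
  obtain ⟨a, ha, c, hc, rfl⟩ := exists_mul hJ.cl g
  obtain ⟨n, hn, hC⟩ := (BNPairCore.mem_parabolic_iff hJ.sub c⁻¹).1 (inv_mem hc)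
  obtain ⟨b, hb, b', hb', e⟩ := mem_C.1 hC
  obtain ⟨l, hl, a1⟩ := BNPairCore.exists_word_of_mem hJ.sub (mem_sup_left hn)
  have a2 := key l hl _ (mul_mem a1 hb') b hb h hh
  have e2 : b * l.prod * (l.prod⁻¹ * n * b') = c⁻¹ := by rw [e]; group
  rw [e2, inv_inv] at a2
  have e3 : a * c * h * (a * c)⁻¹ = a * (c * h * c⁻¹) * a⁻¹ := by group
  rw [e3]
  exact mul_mem (mul_mem ha (mem_sup_left a2)) (inv_mem ha)

theorem q_quo {s : K} (hs : s ∈ J) : q (PJ P J) (fJ P J s) = Nat.card (X s) := by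
  obtain ⟨V, hV, a1, a2⟩ := D.node s (hJ.sub hs)
  obtain ⟨b1, b2⟩ := D.node_quo hJ hs hV
  have hle := D.le s (hJ.sub hs)
  rw [q_of (Z := (X s).map (fJ P J)) (D.split hJ) (by rw [D.S_eq hJ]; exact ⟨s, hs, rfl⟩) b1 (map_mono hle)]
  · refine (Nat.card_congr (Equiv.ofBijective ((fJ P J).subgroupMap (X s))
      ⟨?_, MonoidHom.subgroupMap_surjective _ _⟩)).symm
    rw [injective_iff_map_eq_one]
    intro x hx
    have h1 : fJ P J x = 1 := congrArg Subtype.val hx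
    exact Subtype.ext (a2 x x.2 (b2 x (hle x.2) (h1 ▸ one_mem _)))
  · rintro _ ⟨u, hu, rfl⟩
    obtain ⟨x, hx, v, hv, rfl⟩ := a1 u hu
    exact ⟨_, ⟨x, hx, rfl⟩, _, ⟨v, hv, rfl⟩, map_mul _ _ _⟩
  · rintro _ ⟨x, hx, rfl⟩ h
    rw [a2 x hx (b2 x (hle hx) h), map_one]

theorem prime_B {m : ℕ} (hm : ∀ s ∈ J, ∀ h ∈ P.B ⊓ P.N, ∀ x ∈ X s, h ^ m * x = x * h ^ m) {r : ℕ} (hr : r.Prime)
    (hd : r ∣ Nat.card (PJ P J).B) : r = p ∨ r ∣ m := by
  have := Fact.mk hr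
  obtain ⟨⟨_, b, hb, rfl⟩, hx⟩ := exists_prime_orderOf_dvd_card' r hd
  obtain ⟨u, hu, t, ht, rfl⟩ := D.cover' hb
  obtain ⟨v, hv, e⟩ := D.pow_eq hu ht.1 m
  have h1 : fJ P J (t ^ m) = 1 := by
    refine D.tor_ker hJ {y | ∃ h ∈ P.B ⊓ P.N, y = h ^ m} ?_ ?_ ?_ ⟨t, ht, rfl⟩
    · rintro _ ⟨h, hh, rfl⟩
      exact pow_mem hh.1 m
    · rintro s hs _ ⟨h, hh, rfl⟩
      have a1 := P.subset (hJ.sub hs)
      refine ⟨s⁻¹ * h * s, ⟨BNPairCore.conj_mem_inv a1 hh.1 hh.2,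
        P.N.mul_mem (P.N.mul_mem (P.N.inv_mem a1) hh.2) a1⟩, ?_⟩
      have a2 := conj_pow (a := s⁻¹) (b := h) (i := m)
      rw [inv_inv] at a2
      exact a2.symm
    · rintro s hs _ ⟨h, hh, rfl⟩
      exact hm s hs h hh
  obtain ⟨k, hk⟩ := D.isP ⟨v, hv⟩
  have hk' : v ^ p ^ k = 1 := congrArg Subtype.val hk
  have h2 : r ∣ m * p ^ k := by
    rw [← hx]
    refine orderOf_dvd_of_pow_eq_one (Subtype.ext ?_)
    show fJ P J (u * t) ^ (m * p ^ k) = 1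
    rw [pow_mul, ← map_pow, e, map_mul, h1, mul_one, ← map_pow, hk', map_one]
  rcases (Nat.Prime.dvd_mul hr).1 h2 with h | h
  · exact Or.inr h
  · exact Or.inl ((Nat.prime_dvd_prime_iff_eq hr hp.1).1 (hr.dvd_of_dvd_pow h))

omit hJ in
theorem prime_one {s : K} (hJ : Cn P {s}) {m : ℕ} (hm : ∀ h ∈ P.B ⊓ P.N, ∀ x ∈ X s, h ^ m * x = x * h ^ m) {r : ℕ}
    (hr : r.Prime) (hd : r ∣ Nat.card (QJ P {s})) : r ∣ 1 + Nat.card (X s) ∨ r = p ∨ r ∣ m := by
  have hS : (PJ P {s}).S = {fJ P {s} s} := by rw [D.S_eq hJ, Set.image_singleton]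
  have h1 := H580.RankTwo.relIndex_parabolic (P := PJ P {s}) (s := fJ P {s} s) (by rw [hS]; rfl)
  rw [← hS, BNPairCore.parabolic_S_eq_top, relIndex_top_right, D.q_quo hJ rfl] at h1
  rw [← (PJ P {s}).B.index_mul_card, h1] at hd
  refine ((Nat.Prime.dvd_mul hr).1 hd).imp_right (D.prime_B hJ ?_ hr)
  rintro _ rfl
  exact hm

omit hJ in
/-- **Isolated nodes.** -/
theorem rank_one {s : K} (hJ : Cn P {s}) (hn : ¬ Group.IsSolvable (QJ P {s})) : 4 ≤ Nat.card (X s) ∧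
    (Nat.card (X s) = 8 → ∃ h ∈ P.B ⊓ P.N, ∃ x ∈ X s, h ^ 3 * x ≠ x * h ^ 3) := by
  have hs : s ∈ P.S := hJ.sub rfl
  have hd := D.p_dvd hs
  constructor
  · by_contra h
    have h1 : Nat.card (X s) ≤ 3 := by omega
    have h2 := (Nat.le_of_dvd Nat.card_pos hd).trans h1
    have h3 := hp.1.two_le
    have h4 := Nat.le_of_dvd Nat.card_pos hd
    refine hn (solv23 fun r hr hd => ?_)
    rcases D.prime_one hJ (m := 2) (fun h hh x hx => sq_comm h1 (D.HX s hs h hh) hx) hr hd with a | a | a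
    · rcases (by omega : Nat.card (X s) = 2 ∨ Nat.card (X s) = 3) with e | e
      · rw [e] at a
        exact Or.inr ((Nat.prime_dvd_prime_iff_eq hr Nat.prime_three).1 a)
      · rw [e] at a
        exact Or.inl ((Nat.prime_dvd_prime_iff_eq hr Nat.prime_two).1 (hr.dvd_of_dvd_pow (n := 2) a))
    · omega
    · exact Or.inl ((Nat.prime_dvd_prime_iff_eq hr Nat.prime_two).1 a)
  · intro e
    by_contra h
    push Not at h
    rw [e] at hd
    refine hn (solv23 fun r hr hd' => ?_)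
    rcases D.prime_one hJ h hr hd' with a | a | a
    · rw [e] at a
      exact Or.inr ((Nat.prime_dvd_prime_iff_eq hr Nat.prime_three).1 (hr.dvd_of_dvd_pow (n := 2) a))
    · exact Or.inl (a.trans ((Nat.prime_dvd_prime_iff_eq hp.1 Nat.prime_two).1 (hp.1.dvd_of_dvd_pow (n := 3) hd)))
    · exact Or.inr ((Nat.prime_dvd_prime_iff_eq hr Nat.prime_three).1 a)

/-- an opposite chamber -/
theorem opp_quo : ∃ g ∈ (PJ P J).N, ∀ u ∈ U.map (fJ P J), g⁻¹ * u * g ∈ (PJ P J).B → u = 1 := by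
  obtain ⟨g, hg, h1⟩ := D.opp
  obtain ⟨m, hm, h2⟩ := D.tor
  have n1 := DJ_normal X J
  have n2 := DJ_normal X (P.S \ J)
  refine ⟨_, ⟨g, hg, rfl⟩, ?_⟩
  rintro _ ⟨u, hu, rfl⟩ h3
  rw [← map_inv, ← map_mul, ← map_mul, D.mem_B_iff hJ] at h3
  obtain ⟨a, ha, b, hb, rfl⟩ := mem_sup_of_normal_right.1 (D.DS_le J (D.span hu))
  have p1 := DJ_le_par' D.toDat hJ.sub hJ.cl
  have p2 := DJ_le_par D.toDat hJ.sub hJ.cl
  have p3 := parabolic_inf P hJ.sub (K := P.S \ J) Set.sdiff_subset (Set.inter_sdiff_self J P.S)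
  have a1 : a ∈ P.B := by
    rw [← p3]
    refine ⟨p1 ha, ?_⟩
    have := mul_mem (mem_sup_left (D.U_le hu) : _ ∈ P.parabolic (P.S \ J)) (inv_mem (p2 hb))
    rwa [mul_inv_cancel_right] at this
  have a2 : g⁻¹ * a * g⁻¹⁻¹ ∈ P.B := by
    rw [← p3]
    refine ⟨p1 (n1.conj_mem a ha _), ?_⟩
    have e : g⁻¹ * a * g⁻¹⁻¹ = g⁻¹ * (a * b) * g * (g⁻¹ * b * g⁻¹⁻¹)⁻¹ := by group
    rw [SetLike.mem_coe, e]
    exact Subgroup.mul_mem _ h3 (Subgroup.inv_mem _ (p2 (n2.conj_mem b hb _)))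
  obtain ⟨v, hv, t, ht, rfl⟩ := D.cover' a1
  obtain ⟨w, hw, e⟩ := D.pow_eq hv ht.1 m
  rw [h2 t ht.1 ht.2, mul_one] at e
  have a3 : w = 1 := h1 w hw (by
    have := pow_mem a2 m
    rwa [conj_pow, e, inv_inv] at this)
  obtain ⟨k, hk⟩ := D.isP ⟨_, hu⟩
  have hk' : (v * t * b) ^ p ^ k = 1 := congrArg Subtype.val hk
  have a4 : fJ P J (v * t * b) ^ m = 1 := by
    rw [map_mul, D.ker_DJ hJ hb, mul_one, ← map_pow, e, a3, map_one]
  have a5 : fJ P J (v * t * b) ^ p ^ k = 1 := by rw [← map_pow, hk', map_one]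
  exact orderOf_eq_one_iff.1 (Nat.eq_one_of_dvd_coprimes
    (Nat.Coprime.pow_right k ((Nat.Prime.coprime_iff_not_dvd hp.1).2 hm).symm) (orderOf_dvd_of_pow_eq_one a4)
    (orderOf_dvd_of_pow_eq_one a5))

omit hJ in
/-- **The generalized quadrangle of order two.** -/
theorem rank_two {s t : K} (hJ : Cn P {s, t}) (hst : s ≠ t) (h1 : Nat.card (X s) = 2) (h2 : Nat.card (X t) = 2)
    (h3 : (alt 3 s t)⁻¹ * alt 3 t s ∉ P.B) (h4 : (alt 4 s t)⁻¹ * alt 4 t s ∈ P.B) : Nat.card (QJ P {s, t}) ∣ 720 := by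
  set J : Set K := {s, t} with hJd
  have hs : s ∈ J := Or.inl rfl
  have ht : t ∈ J := Or.inr rfl
  have ps : s ∈ P.parabolic J := mem_sup_right (subset_closure hs)
  have pt : t ∈ P.parabolic J := mem_sup_right (subset_closure ht)
  have hS : (PJ P J).S = {fJ P J s, fJ P J t} := by rw [D.S_eq hJ, hJd, Set.image_pair]
  have hs' : fJ P J s ∈ (PJ P J).S := by rw [hS]; exact Or.inl rfl
  have ht' : fJ P J t ∈ (PJ P J).S := by rw [hS]; exact Or.inr rfl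
  have tr : ∀ k, (alt k (fJ P J s) (fJ P J t))⁻¹ * alt k (fJ P J t) (fJ P J s) ∈ (PJ P J).B ↔
      (alt k s t)⁻¹ * alt k t s ∈ P.B := fun k => by
    rw [← map_alt, ← map_alt, ← map_inv, ← map_mul]
    exact ⟨D.mem_B_of hJ (mul_mem (inv_mem (alt_mem k ps pt)) (alt_mem k pt ps)), fun h => ⟨_, h, rfl⟩⟩
  have hst' : fJ P J s ≠ fJ P J t := fun e => hst (P.inj s (hJ.sub hs) t (hJ.sub ht)
    (D.mem_B_of hJ (mul_mem (inv_mem ps) pt) (by rw [map_mul, map_inv, e, inv_mul_cancel]; exact one_mem _)))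
  obtain ⟨n, n2, hred, hbr, hne⟩ := exists_max_red hS hst'
  have n4 : n = 4 := by
    have a1 : n ≤ 4 := by
      by_contra h
      exact hne 4 (by norm_num) (by omega) ((tr 4).2 h4)
    have a2 : n ≠ 3 := by
      rintro rfl
      exact h3 ((tr 3).1 hbr)
    have a3 : n ≠ 2 := by
      rintro rfl
      have b1 := (tr 2).1 hbr
      obtain ⟨a, rfl, b, ⟨hb, hb'⟩, hc⟩ := hJ.irr {s} (Set.singleton_subset_iff.2 hs) ⟨s, rfl⟩ ⟨t, ht, hst.symm⟩
      obtain rfl : b = t := hb.resolve_left hb'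
      have c1 := P.subset (hJ.sub hs)
      have c2 := P.subset (hJ.sub ht)
      have b2 := BNPairCore.conj_mem' (mul_mem c2 c1) (inv_mem b1)
        (inv_mem (mul_mem (inv_mem (alt_mem 2 c1 c2)) (alt_mem 2 c2 c1)))
      refine hc ?_
      convert b2 using 1
      simp only [alt]
      group
    omega
  subst n4
  have q1 : q (PJ P J) (fJ P J s) = 2 := (D.q_quo hJ hs).trans h1
  have q2 : q (PJ P J) (fJ P J t) = 2 := (D.q_quo hJ ht).trans h2
  have qa : ∀ k ≤ 4, q (PJ P J) (alt k (fJ P J s) (fJ P J t)) = 2 ^ k ∧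
      q (PJ P J) (alt k (fJ P J t) (fJ P J s)) = 2 ^ k := fun k hk =>
    ⟨q_alt k hs' ht' q1 q2 (hred.of_le hs' ht' hk).1, q_alt k ht' hs' q2 q1 (hred.of_le hs' ht' hk).2⟩
  have hi : (PJ P J).B.index = 45 := by
    rw [H580.RankTwo.index_B hS (by norm_num) hred hbr hne]
    simp only [Finset.sum_range_succ, Finset.sum_range_zero]
    rw [(qa 0 (by norm_num)).1, (qa 1 (by norm_num)).1, (qa 2 (by norm_num)).1, (qa 3 (by norm_num)).1,
      (qa (0 + 1) (by norm_num)).2, (qa (1 + 1) (by norm_num)).2, (qa (2 + 1) (by norm_num)).2,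
      (qa (3 + 1) (by norm_num)).2]
    norm_num
  have hBU : (PJ P J).B ≤ U.map (fJ P J) := by
    rintro _ ⟨b, hb, rfl⟩
    obtain ⟨u, hu, h, hh, rfl⟩ := D.cover' hb
    have a1 : fJ P J h = 1 := by
      refine D.tor_ker hJ (P.B ⊓ P.N : Subgroup K) (fun h hh => hh.1) (fun a ha h hh => ?_) ?_ hh
      · have a1 := P.subset (hJ.sub ha)
        exact ⟨BNPairCore.conj_mem_inv a1 hh.1 hh.2, P.N.mul_mem (P.N.mul_mem (P.N.inv_mem a1) hh.2) a1⟩
      · rintro a (rfl | rfl) h hh x hx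
        · exact comm_two h1 (D.HX _ (hJ.sub hs) h hh) hx
        · exact comm_two h2 (D.HX _ (hJ.sub ht) h hh) hx
    exact ⟨u, hu, by rw [map_mul, a1, mul_one]⟩
  obtain ⟨g, hg, ho⟩ := D.opp_quo hJ
  have hq := H95.Hig.relIndex_eq_q (PJ P J) g
  have hb : (PJ P J).B ⊓ (PJ P J).B.map (MulAut.conj g).toMonoidHom = ⊥ := by
    rw [eq_bot_iff]
    rintro x ⟨a1, y, hy, e⟩
    refine mem_bot.2 (ho x (hBU a1) ?_)
    have e2 : g⁻¹ * x * g = y := by
      rw [← e]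
      show g⁻¹ * (g * y * g⁻¹) * g = y
      group
    rw [e2]
    exact hy
  rw [hb, relIndex_bot_left] at hq
  have hc : Nat.card (PJ P J).B ∣ 16 := by
    obtain ⟨⟨a, k⟩, hk⟩ := (H580.RankTwo.word_bij hS (by norm_num) hred hbr hne).2 g hg
    rw [hq, ← H580.RankTwo.q_congr hk]
    have k4 := k.2
    cases a
    · show q (PJ P J) (alt (k + 1) (fJ P J t) (fJ P J s)) ∣ 2 ^ 4
      rw [(qa (k + 1) (by omega)).2]
      exact pow_dvd_pow 2 (by omega)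
    · show q (PJ P J) (alt k (fJ P J s) (fJ P J t)) ∣ 2 ^ 4
      rw [(qa k (by omega)).1]
      exact pow_dvd_pow 2 (by omega)
  rw [← (PJ P J).B.index_mul_card, hi]
  exact Nat.mul_dvd_mul_left 45 hc

end SX

end Cfsg.Agent.TH.Ab.Grp
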