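import Cfsg.Agent.TH.Ex.Ab.MaxDefs
import Cfsg.Agent.SB.Exc.Max.Frame
import Cfsg.Agent.SB.Exc.Max.Perp
import Cfsg.Agent.SB.Exc.Max.Inst

/-!
# S3541, `BoxMax` : the abstract situation (interface, helper64)

`GC2`, `Sit2` : the analogues of `SB.Exc.Max.GC`, `SB.Exc.Max.Sit`; `NcA`, `NcB`, `NcC`, `NcD` : the statements proved in
`TH/Ex/Ab/NC`.
-/

set_option autoImplicit false
set_option linter.unusedSectionVars false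

namespace Cfsg.Agent.TH.Ab

open CoxeterSystem Cfsg Cfsg.Agent.ChevalleyStructure.CoxeterGeom Cfsg.Agent.Tits.Roots Cfsg.Agent.Nodes.Reps
  Cfsg.Agent.Nodes.BNOf Cfsg.Agent.Nodes.Bruhat Cfsg.Agent.LangThm Cfsg.Agent.Nodes.SubComb
  Cfsg.Agent.Nodes.Coroot Cfsg.Agent.Nodes.Slope Cfsg.Agent.Nodes.NormalForm Cfsg.Agent.DL.Base Cfsg.Agent.DL
  Cfsg.Agent.BpExc.Zc
open Cfsg.Agent.SB.Exc.Max (Inv HE Hyp FA IsFA DC Perp fa_self exists_reframe exists_conj_le_T)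

/-- the group theoretic context -/
structure GC2 (p : ℕ) {Y : Type} [Group Y] (σ : MulAut Y) (Γ : Subgroup (MulAut Y)) (K R : Subgroup Y) : Prop where
  σ_mem : σ ∈ Γ
  comm : ∀ φ ∈ Γ, ∀ y, σ (φ y) = φ (σ y)
  fix : ∀ y ∈ K, σ y = y
  conj_mem : ∀ r ∈ R, MulAut.conj r ∈ Γ
  pel : ∀ u, σ u = u → (∃ j : ℕ, u ^ p ^ j = 1) → u ∈ K
  cent : ∀ y, (∀ x ∈ K, y * x = x * y) → y = 1
  inv : ∀ M, Inv Γ M → ¬ K ≤ M → ∀ y ∈ M, y ∈ K → y ∈ R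
  nc : ∀ M, Inv Γ M → ¬ K ≤ M → ∀ E : Subgroup ↥(PE p σ M), IsComponent E →
    ¬ FixBN.HasSplit p (↥E ⧸ Subgroup.center ↥E)
  he0 : ∀ M, Inv Γ M → ¬ K ≤ M → (∀ E : Subgroup ↥(PE p σ M), ¬ IsComponent E) → HE p σ M

theorem GC2.not_le {p : ℕ} {Y : Type} [Group Y] {σ : MulAut Y} {Γ : Subgroup (MulAut Y)} {K R : Subgroup Y}
    (C : GC2 p σ Γ K R) {M : Subgroup Y} {z : Y} (hz : z ≠ 1) (h : ∀ m ∈ M, z * m = m * z) : ¬ K ≤ M :=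
  fun hK => hz (C.cent z fun x hx => h x (hK hx))

section

variable {p : ℕ} [Fact p.Prime] {k : Type} [Field k] [CharP k p] {Y : Type} [Group Y] {N : Type} [Fintype N]
  [DecidableEq N] {ρ : Y →* GL N k} {σ : MulAut Y} [IsAlgClosed k]

/-- the hypotheses that do not depend on `Z` -/
structure Sit0 (D : Datum p ρ σ ⊤) (e : ℕ) (Γ : Subgroup (MulAut Y)) (K R : Subgroup Y) : Prop where
  gc : GC2 p σ Γ K R
  hyp : Hyp D e Γ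
  fx : FX D.cs D.h
  dbl : (∃ a b, D.Rt a ∧ D.Rt b ∧ a ≠ b ∧ cpr D.cs D.h a b = 2) → Group.IsSolvable D.W

/-- an invariant subgroup of the torus on which a root is trivial -/
structure Sit2 (D : Datum p ρ σ ⊤) (e : ℕ) (Γ : Subgroup (MulAut Y)) (K R Z : Subgroup Y) : Prop
    extends Sit0 D e Γ K R where
  le : (Z : Set Y) ⊆ D.T
  ne : Z ≠ ⊥
  inv : Inv Γ Z
  rt : (D.Sz Z).Nonempty

variable {D : Datum p ρ σ ⊤} {e : ℕ} {Γ : Subgroup (MulAut Y)} {K R Z : Subgroup Y}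

theorem Sit0.conj (H : Sit0 D e Γ K R) {y : Y} (hy : y ∈ ⊤) (hF : y⁻¹ * σ y ∈ D.NN) : Sit0 (D.conj hy hF) e Γ K R :=
  ⟨H.gc, H.hyp.conj hy hF, H.fx, H.dbl⟩

/-- an invariant toral subgroup on which a root is trivial lies in the torus of a conjugate datum -/
theorem Sit0.exists_sit2 (H : Sit0 D e Γ K R) (ne : Z ≠ ⊥) (inv : Inv Γ Z) {x b} (h1 : ∀ z ∈ Z, x⁻¹ * z * x ∈ D.T)
    (hb : D.Rt b) (h2 : ∀ z ∈ Z, D.χ b (x⁻¹ * z * x) = 1) :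
    ∃ (y : Y) (hy : y ∈ ⊤) (hF : y⁻¹ * σ y ∈ D.NN), Sit2 (D.conj hy hF) e Γ K R Z := by
  obtain ⟨y, hy, hy', h3, h4⟩ := exists_conj_le_T D (Z := Z) (inv σ H.gc.σ_mem) (Subgroup.mem_top x) h1
  exact ⟨y, hy, hy', H.conj hy hy', h3, ne, inv, b, hb, fun z hz => by
    rw [← h2 z hz, ← D.conj_χ hy hy' b (h1 z hz), ← h4 z hz]
    congr 1
    group⟩

namespace Sit2

variable (H : Sit2 D e Γ K R Z)
include H

theorem g_mem {a : D.I → ℤ} (ha : a ∈ D.Sz Z) : D.g a ∈ D.Sz Z := D.g_mem_Sz H.le (H.inv σ H.gc.σ_mem) ha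

/-- the form of the lifts -/
theorem str {ψ : MulAut Y} (hψ : ψ ∈ Γ) {ex : (D.I → ℤ) → ℕ} (h : IsFA D ψ ex) :
    ∃ c ∈ D.S (D.Sz Z), ∃ β h, FA D β h ex ∧ ψ = MulAut.conj c * β ∧ ∀ z ∈ Z, β z ∈ Z := by
  obtain ⟨y, β, h, hβ, e⟩ := h
  obtain ⟨c, hc, m, hm, h1, h2⟩ := D.exists_conj_form (s := fun z : Z => β z) (t := fun z : Z => ψ z)
    (fun z => hβ.dat.F_mem_T (H.le z.2)) (fun z => H.le (H.inv ψ hψ z z.2)) (Subgroup.mem_top y)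
    (fun z => by rw [e, MulAut.mul_apply, MulAut.conj_apply, inv_mul_cancel_right])
  have hr : Set.range (fun z : Z => ψ z) = Z := by
    ext u
    constructor
    · rintro ⟨z, rfl⟩
      exact H.inv ψ hψ z z.2
    · intro hu
      exact ⟨⟨ψ⁻¹ u, H.inv _ (inv_mem hψ) u hu⟩, MulAut.apply_inv_self _ _ _⟩
  rw [hr] at hc
  refine ⟨c, hc, _, _, hβ.twist hm, by rw [e, h2, map_mul, mul_assoc], fun z hz => ?_⟩
  rw [MulAut.mul_apply, MulAut.conj_apply, h1 ⟨z, hz⟩, mul_inv_cancel_right]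
  exact H.inv ψ hψ z hz

/-- invariance of a subgroup; `E` describes the exponents -/
theorem inv_of {M : Subgroup Y} {E : ((D.I → ℤ) → ℕ) → Prop} (hE : E D.ex)
    (hΓ : ∀ φ ∈ Γ, ∃ (n : ℕ) (ex : (D.I → ℤ) → ℕ), E ex ∧ IsFA D (φ * σ ^ n) ex)
    (h1 : ∀ c ∈ D.S (D.Sz Z), ∀ m ∈ M, c * m * c⁻¹ ∈ M)
    (h2 : ∀ β h ex, E ex → FA D β h ex → (∀ z ∈ Z, β z ∈ Z) → ∀ m ∈ M, β m ∈ M) : Inv Γ M := by
  intro φ hφ m hm
  obtain ⟨n, ex, he, h⟩ := hΓ φ hφ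
  obtain ⟨c, hc, β, h, hβ, e, hZ⟩ := H.str (mul_mem hφ (pow_mem H.gc.σ_mem n)) h
  have hσ : ∀ m ∈ M, σ m ∈ M := h2 σ _ _ hE (fa_self D) (H.inv σ H.gc.σ_mem)
  have h3 : (σ ^ n)⁻¹ m ∈ M := by
    rcases Nat.eq_zero_or_pos n with rfl | hn
    · rwa [pow_zero, inv_one]
    · exact ((D.amb.pow hn).mem_iff (H := M) (fun y hy => pow_mem_of_maps hσ n hy) _).1
        (by rwa [MulAut.apply_inv_self])
  have h4 : φ m = (φ * σ ^ n) ((σ ^ n)⁻¹ m) := by rw [MulAut.mul_apply, MulAut.apply_inv_self]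
  rw [h4, e]
  exact h1 c hc _ (h2 β h ex he hβ hZ _ h3)

theorem inv_S {P : Set (D.I → ℤ)} (hP : ∀ a ∈ P, D.Rt a)
    (h1 : ∀ c ∈ D.S (D.Sz Z), ∀ m ∈ D.S P, c * m * c⁻¹ ∈ D.S P)
    (h2 : ∀ β h ex, FA D β h ex → (∀ z ∈ Z, β z ∈ Z) → ∀ a ∈ P, h a ∈ P) : Inv Γ (D.S P) :=
  H.inv_of (E := fun _ => True) trivial
    (fun φ hφ => by obtain ⟨n, ex, h⟩ := H.hyp.fa φ hφ; exact ⟨n, ex, trivial, h⟩) h1
    fun β h ex _ hβ hZ _ hm => hβ.dat.F_mem_S hP (h2 β h ex hβ hZ) hm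

theorem inv_M : Inv Γ (D.S (D.Sz Z)) :=
  H.inv_S D.Sz_root (fun _ hc _ hm => mul_mem (mul_mem hc hm) (inv_mem hc))
    fun _ _ _ hβ hZ _ ha => hβ.dat.g_mem_Sz H.le hZ ha

theorem not_le_M : ¬ K ≤ D.S (D.Sz Z) := by
  obtain ⟨⟨z, hz⟩, h0⟩ := Subgroup.ne_bot_iff_exists_ne_one.1 H.ne
  exact H.gc.not_le (z := z) (fun e => h0 (Subtype.ext e)) fun m hm =>
    D.cen_le_centralizer H.le (D.S_le_cen _ hm) z hz

open SB.Exc.Max.PerpL in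
theorem inv_perp (hC : DC D.cs D.h D.X) : Inv Γ (D.S (Perp D (D.Sz Z))) :=
  H.inv_S perp_root (fun c hc m hm => by rwa [comm_perp hC hc hm, mul_inv_cancel_right])
    fun _ _ _ hβ hZ => perp_g (D := hβ.dat) D.Sz_root fun _ ha => hβ.dat.g_mem_Sz H.le hZ ha

open SB.Exc.Max SB.Exc.Max.PerpL in
theorem not_le_perp (hC : DC D.cs D.h D.X) : ¬ K ≤ D.S (Perp D (D.Sz Z)) := by
  obtain ⟨a, ha⟩ := H.rt
  exact H.gc.not_le (z := D.x a 1) (fun e => one_ne_zero ((D.x_eq_one_iff ha.1).1 e)) fun m hm =>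
    comm_perp hC (x_mem_S ha ha.1 1) hm

/-- a frame in which `σ` preserves the positive roots trivial on `Z` -/
theorem reframe : ∃ (y : Y) (hy : y ∈ ⊤) (hy' : y⁻¹ * σ y ∈ D.NN), Sit2 (D.conj hy hy') e Γ K R Z ∧
      ∀ a ∈ (D.conj hy hy').Sz Z, 0 ≤ a → 0 ≤ (D.conj hy hy').g a := by
  obtain ⟨y, hy, hy', h1, -, h2⟩ := exists_reframe D H.le fun _ => H.g_mem
  have h3 : ∀ z ∈ Z, y * z * y⁻¹ = z := fun z hz => by
    rw [← D.cen_le_centralizer H.le h1 z hz, mul_inv_cancel_right]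
  have h4 : ∀ a, ∀ z ∈ Z, (D.conj hy hy').χ a z = D.χ a z := fun a z hz => by
    rw [← D.conj_χ hy hy' a (H.le hz), h3 z hz]
  obtain ⟨b, hb⟩ := H.rt
  refine ⟨y, hy, hy', ⟨H.toSit0.conj hy hy', fun z hz => ?_, H.ne, H.inv, b, hb.1, fun z hz => ?_⟩,
    fun a ha => h2 a ⟨ha.1, fun z hz => h4 a z hz ▸ ha.2 z hz⟩⟩
  · rw [← h3 z hz]
    exact Nodes.Reps.conj_mem_cj.2 (H.le hz)
  · rw [h4 b z hz]
    exact hb.2 z hz

end Sit2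

end

/-- (A) root groups of roots with non-negative inner product commute -/
def NcA : Prop := ∀ (p : ℕ) [Fact p.Prime] (k : Type) [Field k] [CharP k p] [IsAlgClosed k] (Y : Type) [Group Y]
  (N : Type) [Fintype N] [DecidableEq N] (ρ : Y →* GL N k) (σ : MulAut Y) (D : Datum p ρ σ ⊤) (e : ℕ)
  (Γ : Subgroup (MulAut Y)) (K R Z : Subgroup Y), Sit2 D e Γ K R Z → DC D.cs D.h D.X

/-- (B) the orthogonal subsystem (`Perp D (D.Sz Z) = D.Sz (PerpL.Zc D (D.Sz Z))` by `PerpL.sz_zc`) -/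
def NcB : Prop := ∀ (p : ℕ) [Fact p.Prime] (k : Type) [Field k] [CharP k p] [IsAlgClosed k] (Y : Type) [Group Y]
  (N : Type) [Fintype N] [DecidableEq N] (ρ : Y →* GL N k) (σ : MulAut Y) (D : Datum p ρ σ ⊤) (e : ℕ)
  (Γ : Subgroup (MulAut Y)) (K R Z : Subgroup Y), Sit2 D e Γ K R Z → ∃ Zc : Set Y, Zc ⊆ D.T ∧
    D.Sz Zc = Perp D (D.Sz Z) ∧ (∀ a ∈ D.Sz Zc, D.g a ∈ D.Sz Zc) ∧ HE p σ (D.S (Perp D (D.Sz Z)))

/-- (C) the subsystem of `Z` -/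
def NcC : Prop := ∀ (p : ℕ) [Fact p.Prime] (k : Type) [Field k] [CharP k p] [IsAlgClosed k] (Y : Type) [Group Y]
  (N : Type) [Fintype N] [DecidableEq N] (ρ : Y →* GL N k) (σ : MulAut Y) (D : Datum p ρ σ ⊤) (e : ℕ)
  (Γ : Subgroup (MulAut Y)) (K R Z : Subgroup Y), Sit2 D e Γ K R Z → HE p σ (D.S (D.Sz Z))

open Cfsg.Lie Cfsg.Agent.ChevalleyStructure Cfsg.Agent.Nodes.RGDChev Cfsg.Agent.H316.U6 Cfsg.Agent.H469.Exc
  Cfsg.Agent.DS.Ex Cfsg.Agent.SB.Exc in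
/-- (D) the situation of `BoxMax` (for other invariant subgroups use `Sit0.exists_sit2`) -/
def NcD : Prop := ∀ (D : ChevalleyDatum) (l : ℕ) (M : CoxeterMatrix (Fin l)) (hp : IsType D l M)
  (tw : Bool) (p : ℕ) [Fact p.Prime] (G : Type) [Group G] [Finite G] (T H E : Subgroup G) (m f r : ℕ),
    XC D tw T H E m p f r → ∀ (F : XF hp p (p ^ f) T),
      Sit0 F.dat F.m.e (F.L.GH H) F.L.ι.range (DS.Nt.im F.L (H ⊓ T)) ∧
      ∀ A₀ : Subgroup (YY D p), A₀ ≠ ⊥ → F.L.Inv H A₀ → HasRt hp p A₀ →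
        ∃ (y : YY D p) (hy : y ∈ ⊤) (hF : y⁻¹ * F.m.σ y ∈ F.dat.NN),
          Sit2 (F.dat.conj hy hF) F.m.e (F.L.GH H) F.L.ι.range (DS.Nt.im F.L (H ⊓ T)) A₀

end Cfsg.Agent.TH.Ab
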