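import Cfsg.Agent.TH.Ex.Ab.MaxEnd
import Cfsg.Agent.TH.Ex.Ab.NCDefs

/-!
# S3541, `BoxMax` from `NcA`, `NcB`, `NcC`, `NcD` (helper10)
-/

set_option autoImplicit false
set_option linter.unusedSectionVars false

namespace Cfsg.Agent.TH.Ab.Mx

open CoxeterSystem Cfsg Cfsg.Agent.ChevalleyStructure.CoxeterGeom Cfsg.Agent.Tits.Roots Cfsg.Agent.Nodes.Reps
  Cfsg.Agent.Nodes.BNOf Cfsg.Agent.Nodes.Coroot Cfsg.Agent.DL.Base Cfsg.Agent.DL Cfsg.Agent.BpExc.Zc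
  Cfsg.Agent.SB.Exc.Max Cfsg.Agent.SB.Exc.Max.PerpL

section

variable {p : ℕ} [Fact p.Prime] {k : Type} [Field k] [CharP k p] {Y : Type} [Group Y] {N : Type} [Fintype N]
  [DecidableEq N] {ρ : Y →* GL N k} {σ : MulAut Y} [IsAlgClosed k] {D : Datum p ρ σ ⊤} {e : ℕ}
  {Γ : Subgroup (MulAut Y)} {K R Z : Subgroup Y} (H : Sit2 D e Γ K R Z)
include H

theorem inv_cen : Inv Γ (D.cen Z) :=
  H.inv_of (E := fun _ => True) trivial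
    (fun φ hφ => by obtain ⟨n, ex, h⟩ := H.hyp.fa φ hφ; exact ⟨n, ex, trivial, h⟩)
    (fun _ hc _ hm => mul_mem (mul_mem (D.S_le_cen _ hc) hm) (inv_mem (D.S_le_cen _ hc)))
    fun β h ex _ hβ hZ m hm => by
      obtain ⟨s, hs, t, ht, rfl⟩ := (D.mem_TS D.Sz_root).1 hm
      rw [map_mul]
      exact mul_mem (D.S_le_cen _ (hβ.dat.F_mem_S D.Sz_root (fun _ ha => hβ.dat.g_mem_Sz H.le hZ ha) hs))
        (D.T_le_cen _ (hβ.dat.F_mem_T ht))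

theorem iso_perp (hC : DC D.cs D.h D.X) (hE : HE p σ (D.S (Perp D (D.Sz Z)))) : Iso D.cs D.h (Perp D (D.Sz Z)) := by
  have e1 : D.Sz (Zc D (D.Sz Z)) = Perp D (D.Sz Z) := sz_zc D.Sz_root
  have hF : ∀ a ∈ D.Sz (Zc D (D.Sz Z)), D.g a ∈ D.Sz (Zc D (D.Sz Z)) := by
    rw [e1]
    exact perp_g D.Sz_root fun _ => H.g_mem
  obtain ⟨-, h2, h3⟩ := boxShape p k Y N ρ σ ⊤ D e (Zc D (D.Sz Z)) H.hyp.he H.hyp.ex H.hyp.cz zc_le hF
    (by rw [e1]; exact hE) (dcon_of_dc hC D.Sz_root)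
  rw [← e1]
  rcases h3 with h3 | ⟨hp, y, hy, hσ, h4, h5⟩
  · exact h3
  have h6 := H.gc.conj_mem y (H.gc.inv _ (H.inv_perp hC) (H.not_le_perp hC) y (by rwa [← e1])
    (H.gc.pel y hσ ⟨2, by rwa [hp]⟩))
  refine absurd (sq_eq_one_of_shp ((shp_sub_iff zc_le hF rfl).2 h2) ?_ h4 hp) h5
  refine mem_NN_of_norm (D := D.sub zc_le hF rfl) H.le (Set.eq_empty_of_forall_notMem fun c hc => ?_)
    (D.S_le_cen _ hy) (H.inv _ h6) fun z hz => ?_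
  · have h5 := io_mem zc_le hF rfl hc.1
    rw [e1] at h5
    have h6 := h5.2 _ ⟨h5.1, hc.2⟩
    rw [cpr_self _ _ h5.1] at h6
    omega
  · have := H.inv _ (inv_mem h6) z hz
    rwa [MulAut.conj_inv_apply] at this

end

theorem boxMax_nc (hA : NcA) (hB : NcB) (hC : NcC) (hD : NcD) : BoxMax := by
  intro D l M hp tw p _ G _ _ T H E m f r C F A₀ h0 hI hR
  obtain ⟨y, hy, hy', S1⟩ := (hD D l M hp tw p G T H E m f r C F).2 A₀ h0 hI hR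
  obtain ⟨y₂, hy₂, hy₂', S, q⟩ := S1.reframe
  have dc := hA p _ _ _ _ _ _ _ _ _ _ _ S
  obtain ⟨-, -, -, -, hE⟩ := hB p _ _ _ _ _ _ _ _ _ _ _ S
  exact false_of C F _ (Fintype.card_fin l) (card_W hp C.typ) (((gw F).conj hy hy').conj hy₂ hy₂') S.hyp S.le S.ne S.inv
    S.rt (fun _ => S.g_mem) q dc (hC p _ _ _ _ _ _ _ _ _ _ _ S) hE (iso_perp S dc hE) (inv_cen S)

end Cfsg.Agent.TH.Ab.Mx
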