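import Cfsg.Agent.TH.Ex.Ab.MaxNumK
import Cfsg.Agent.TH.Uni

/-!
# S3541, `BoxNum` (helper48)

`c_le` : a normal subgroup `X₀` of `H` whose index in `H ⊓ T` is prime to `p`; `lt_c` : the numerical inequality;
`boxNum` : the assembly with the sieve of `MaxNumK`.
-/

set_option autoImplicit false
set_option linter.unusedSectionVars false

namespace Cfsg.Agent.TH.Ab.MxN

open Sv

section

variable {G : Type*} [Group G] [Finite G]

theorem le_normalizer {H X : Subgroup G} (hn : ∀ h ∈ H, ∀ x ∈ X, h * x * h⁻¹ ∈ X) :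
    H ≤ Subgroup.normalizer (X : Set G) := fun h hh => Subgroup.mem_normalizer_iff.2 fun x =>
  ⟨hn h hh x, fun hx => by simpa [mul_assoc] using hn h⁻¹ (H.inv_mem hh) _ hx⟩

/-- a `p`-subgroup lies in a normal subgroup of index prime to `p` -/
theorem le_of_not_dvd {L X Q : Subgroup G} {p : ℕ} (hp : p.Prime) (hn : ∀ h ∈ L, ∀ x ∈ X, h * x * h⁻¹ ∈ X)
    (hi : ¬ p ∣ X.relIndex L) (hQ : IsPGroup p Q) (h : Q ≤ L) : Q ≤ X := by
  have := Fact.mk hp
  have hN : (X.subgroupOf L).Normal := ⟨fun x hx g => hn g g.2 x hx⟩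
  have h1 : X.relIndex Q ∣ X.relIndex L := by
    rw [← Subgroup.relIndex_subgroupOf (H := X) h]
    exact Subgroup.relIndex_dvd_index_of_normal _ _
  obtain ⟨n, hn'⟩ := IsPGroup.iff_card.1 hQ
  obtain ⟨i, -, h2⟩ := (Nat.dvd_prime_pow hp).1 (hn' ▸ Subgroup.relIndex_dvd_card X Q)
  cases i with
  | zero => exact Subgroup.relIndex_eq_one.1 h2
  | succ i => exact absurd ((h2 ▸ dvd_pow_self p i.succ_ne_zero).trans h1) hi

theorem c_le {T H X : Subgroup G} {m p c : ℕ} (hT : AS T) (hH : Half H m) (hp : p.Prime) (hd : ¬ p ∣ Nat.card H / m)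
    (hX : X ≤ H ⊓ T) (hn : ∀ h ∈ H, ∀ x ∈ X, h * x * h⁻¹ ∈ X) (hi : ¬ p ∣ X.relIndex (H ⊓ T)) (hpX : p ∣ Nat.card X)
    (hc : ∀ P : Subgroup G, P ≤ T → P ≠ ⊥ → IsPGroup p P → c ≤ (Subgroup.normalizer (P : Set G)).relIndex T) :
    c ≤ Nat.card (Sylow p X) ^ 2 := by
  obtain ⟨P, hP⟩ := exists_sub (L := X) hp (Nat.ordProj_dvd (Nat.card X) p)
  have hPT : P ≤ T := hP.1.trans (hX.trans inf_le_right)
  refine (hc P hPT (sub.ne_bot hp hpX hP) (sub.isP hP)).trans ((syl_bound hT hH (hX.trans inf_le_left)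
    (le_normalizer hn) hp hd hP fun t _ h => ?_).trans ?_)
  · refine le_of_not_dvd hp (L := H ⊓ T) (fun h hh => hn h hh.1) hi ((sub.isP hP).map _) (le_inf h fun x hx => ?_)
    simpa [mul_assoc] using hT.normal.conj_mem _ (hPT (mem_cj.1 hx)) t
  · rw [sq]
    exact Nat.mul_le_mul_left _ (min_le_left _ _)

end

/-- `(p + 1) ^ k < p ^ c` from `(5 + 1) ^ k < 5 ^ c` -/
theorem lt_c {p k c : ℕ} (hp : 5 ≤ p) (h : 6 ^ k < 5 ^ c) (hk : k ≤ c) : (p + 1) ^ k < p ^ c := by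
  obtain ⟨j, rfl⟩ := Nat.exists_eq_add_of_le hk
  have h1 : (5 * (p + 1)) ^ k ≤ (6 * p) ^ k := Nat.pow_le_pow_left (by omega) k
  have h2 : 5 ^ j ≤ p ^ j := Nat.pow_le_pow_left hp j
  have h3 : 0 < p ^ k := pow_pos (by omega) k
  rw [mul_pow, mul_pow] at h1
  rw [pow_add] at h ⊢
  refine Nat.lt_of_mul_lt_mul_left (a := 5 ^ k) (h1.trans_lt ?_)
  calc 6 ^ k * p ^ k < 5 ^ k * 5 ^ j * p ^ k := Nat.mul_lt_mul_of_pos_right h h3
    _ ≤ 5 ^ k * p ^ j * p ^ k := Nat.mul_le_mul_right _ (Nat.mul_le_mul_left _ h2)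
    _ = 5 ^ k * (p ^ k * p ^ j) := by ring

theorem five_le {p l : ℕ} (hp : p.Prime) (h : ¬ p ∣ cW l) : 5 ≤ p := by
  have h1 : 6 ∣ cW l := by
    unfold cW
    split_ifs <;> norm_num
  refine hp.five_le_of_ne_two_of_ne_three (fun h2 => h ?_) fun h2 => h ?_
  · rw [h2]
    exact (show 2 ∣ 6 by norm_num).trans h1
  · rw [h2]
    exact (show 3 ∣ 6 by norm_num).trans h1

end Cfsg.Agent.TH.Ab.MxN

namespace Cfsg.Agent.TH.Ab

open MxN MxK Dat

/-- [NUM] -/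
theorem boxNum : BoxNum := by
  intro D l M hp tw p G _ _ T H E m r C X hX hn hi hpX hs he hν
  have hP := C.ctx.prime
  by_cases h : p ∣ cW l
  · refine false_of_small hp C h ?_ (hpX.trans (Subgroup.card_dvd_of_le hX))
    rw [← Own.card_mul_relIndex hX]
    exact dvd_NB hP Nat.card_pos.ne' (Subgroup.card_dvd_of_le (hX.trans inf_le_right)) hs he hi
  · have h5 := five_le hP h
    have h1 := c_le C.ctx.as C.ctx.half hP C.ctx.toLieCtx.not_dvd_d hX hn (fun h' => h (h'.trans hi)) hpX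
      fun P _ h0 hq => C.par h0 hq
    have h2 := h1.trans (Nat.pow_le_pow_left (hν (by omega)) 2)
    rw [pow_one, ← pow_mul] at h2
    refine absurd h2 (not_le.2 (lt_c h5 ?_ ?_)) <;>
      rcases cases_sh hp C.typ C.iso with ⟨h3, rfl⟩ | ⟨h3, rfl⟩ | ⟨h3, rfl⟩ | ⟨h3, rfl⟩ | ⟨h3, rfl⟩ <;> rw [h3] <;> decide

end Cfsg.Agent.TH.Ab
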