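import Cfsg.Agent.TH.Ex.Ab.MaxP
import Cfsg.Agent.TH.Ex.Ab.MaxOrd
import Cfsg.Agent.TH.Ex.Ab.MaxPos
import Cfsg.Agent.TH.Ex.Ab.MaxNum
import Cfsg.Agent.SB.Exc.Max.Inst
import Cfsg.Agent.SB.Exc.Tor.W

/-!
# S3541, `BoxMax` : the end of the argument (helper10)
-/

set_option autoImplicit false
set_option linter.unusedSectionVars false

namespace Cfsg.Agent.TH.Ab.Mx

open CoxeterSystem Cfsg Cfsg.Lie Cfsg.Lie.ChevalleyDatum
open Cfsg.Agent.ChevalleyStructure Cfsg.Agent.ChevalleyStructure.CoxeterGeom Cfsg.Agent.Tits.Roots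
  Cfsg.Agent.Nodes.RGDChev Cfsg.Agent.KFacts.RgdChevCoord Cfsg.Agent.BpExc.TorChev Cfsg.Agent.BpExc.Fr
  Cfsg.Agent.BpExc.LangFr Cfsg.Agent.Nodes.BNOf
open Cfsg.Agent.H469.Exc Cfsg.Agent.H316.U6 Cfsg.Agent.H129.TorusChar Cfsg.Agent.DS.Ex
open Cfsg.Agent.SB.Exc Cfsg.Agent.SB.Exc.Max Cfsg.Agent.SB.Exc.Max.PerpL Cfsg.Agent.DS.Nt Cfsg.Agent.DL

variable {D : ChevalleyDatum} {l : ℕ} {M : CoxeterMatrix (Fin l)} {hp : IsType D l M} {p : ℕ} [Fact p.Prime]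
  {G : Type} [Group G] [Finite G] {T H E : Subgroup G} {tw : Bool} {m f r : ℕ}

theorem card_W (hp : IsType D l M) (hD : Typ D) : Nat.card M.Group = cW l := by
  rcases Tor.typ_cases hp hD with ⟨-, h⟩ | ⟨-, h⟩ | ⟨-, h⟩ | ⟨-, h⟩ <;> cases h
  exacts [Tor.cardW4, Tor.cardW6, Tor.cardW7, Tor.cardW8]

theorem gw {q : ℕ} (F : XF hp p q T) : GW F.dat := by
  obtain ⟨w, h | h⟩ := F.gW
  exacts [⟨w, Or.inl h⟩, ⟨w, Or.inr h.2⟩]

omit [Fact p.Prime] in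
theorem le_of_norm (hT : AS T) (hH : IsCoatom H) {X : Subgroup G} (hX : X ≤ T) (hne : ¬ T ≤ X)
    (hn : H ≤ Subgroup.normalizer (X : Set G)) : X ≤ H := by
  by_contra h
  have h1 : Subgroup.normalizer (X : Set G) = ⊤ :=
    hH.2 _ (lt_of_le_of_ne hn fun e => h (e ▸ Subgroup.le_normalizer))
  have h2 := Subgroup.normalizer_eq_top_iff.1 h1
  have := hT.simple
  rcases (h2.subgroupOf T).eq_bot_or_eq_top with e | e
  · rw [Subgroup.subgroupOf_eq_bot, disjoint_iff, inf_eq_left.2 hX] at e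
    exact h (e.le.trans bot_le)
  · exact hne (Subgroup.subgroupOf_eq_top.1 e)

/-- **The end of the argument.** -/
theorem false_of (C : XC D tw T H E m p f r) (F : XF hp p (p ^ f) T) (Dd : Datum p (D.group (KK p)).subtype F.m.σ ⊤)
    (hl : Fintype.card Dd.I = l) (hW : Nat.card Dd.W = cW l) (hg : GW Dd) (hy : Hyp Dd F.m.e (F.L.GH H))
    {Z : Subgroup (YY D p)} (hZ : (Z : Set (YY D p)) ⊆ Dd.T) (h0 : Z ≠ ⊥) (hI : Inv (F.L.GH H) Z)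
    (hr : (Dd.Sz Z).Nonempty) (hF : ∀ a ∈ Dd.Sz Z, Dd.g a ∈ Dd.Sz Z) (hq : ∀ a ∈ Dd.Sz Z, 0 ≤ a → 0 ≤ Dd.g a)
    (dc : DC Dd.cs Dd.h Dd.X) (hE : HE p F.m.σ (Dd.S (Dd.Sz Z))) (hE' : HE p F.m.σ (Dd.S (Perp Dd (Dd.Sz Z))))
    (hP : Iso Dd.cs Dd.h (Perp Dd (Dd.Sz Z))) (hC : Inv (F.L.GH H) (Dd.cen Z)) : False := by
  have hT := C.ctx.as
  have hp' : p.Prime := Fact.out
  obtain ⟨h1, h2, h3⟩ := boxShape p _ _ _ _ _ _ Dd F.m.e Z hy.he hy.ex hy.cz hZ hF hE (dcon_of_dc dc Dd.Sz_root)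
  obtain ⟨he, y, hy1, hy2, hy3, hy4⟩ := h1 hr
  obtain rfl : f = 1 := (Nat.pow_right_injective hp'.two_le F.m.hq).symm.trans he
  obtain ⟨p1, p2⟩ := boxPos p _ _ _ _ _ _ Dd Z hZ hF h2
  have fx : ∀ x : T, F.m.σ (F.L.ι x) = F.L.ι x := fun x => F.hσ ▸ F.L.fix x
  have hn := norm_pb hT.normal (F.L.inv_iff.2 hC)
  have hX : pb F.L (Dd.cen Z) ≤ H := le_of_norm hT C.ctx.half.max (pb_le _) (fun h => by
    obtain ⟨⟨z, hz⟩, h4⟩ := Subgroup.ne_bot_iff_exists_ne_one.1 h0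
    exact h4 (Subtype.ext (F.L.cent z fun x => Dd.cen_le_centralizer hZ (coe_mem_pb.1 (h x.2)) z hz))) hn
  let φ : pb F.L (Dd.cen Z) →* GF F.m.σ (Dd.cen Z) :=
    (F.L.ι.comp (Subgroup.inclusion (pb_le _))).codRestrict _ fun x => mem_GF.2 ⟨(mem_pb.1 x.2).2, fx _⟩
  have hφ : Function.Injective φ := fun a b e =>
    Subgroup.inclusion_injective (pb_le _) (F.L.inj (congrArg Subtype.val e))
  have hFq : Card.Fq p _ F.m.σ 1 := he ▸ CI.fq F.m.he F.m.frob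
  refine boxNum D l M hp tw p G T H E m r C (pb F.L (Dd.cen Z)) (le_inf hX (pb_le _))
    (fun h hh x hx => (Subgroup.mem_normalizer_iff.1 (hn hh) x).1 hx) ?_ ?_ (fun s hs hd => ?_) ?_ fun h2 => ?_
  · have h4 := relIndex_dvd (D := Dd) (R := im F.L (H ⊓ T)) hZ le_top (by
      rintro _ ⟨x, hx, rfl⟩ z hz
      exact hI _ (F.L.conj_mem_GH hT.normal hT.cent hx.1) z hz)
    rw [hW, im, ← Subgroup.relIndex_comap, ← Subgroup.relIndex_map_map_of_injective _ _ T.subtype_injective,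
      Subgroup.subgroupOf_map_subtype, inf_assoc, inf_idem] at h4
    exact h4
  · obtain ⟨x, rfl⟩ := F.L.pel y (F.hσ ▸ hy2) ⟨1, by rwa [pow_one]⟩
    have h4 : orderOf (⟨x, coe_mem_pb.2 (Dd.S_le_cen _ hy1)⟩ : pb F.L (Dd.cen Z)) = p := by
      rw [← orderOf_injective φ hφ, ← Subgroup.orderOf_coe]
      exact orderOf_eq_prime hy3 hy4
    exact h4.symm.dvd.trans (orderOf_dvd_natCard _)
  · by_contra h4
    push Not at h4
    have := Fact.mk hs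
    obtain ⟨x, hx⟩ := exists_prime_orderOf_dvd_card' s hd
    rw [← orderOf_injective φ hφ, ← Subgroup.orderOf_coe] at hx
    have h5 := mem_GF.1 (φ x).2
    have h6 := ord boxOrd hZ hF (fun a ha => (hy.ex a ha).trans he) hy.cz dc hE
      (gg hZ hF hy.he hy.ex hy.cz dc hE hq hE' hP hg) h5.1 h5.2 hs h4.1 h4.2 (hx ▸ pow_orderOf_eq_one _)
    rw [F.L.cent _ fun x => h6 _ trivial, orderOf_one] at hx
    exact hs.ne_one hx.symm
  · refine not_pow_dvd hFq hZ hF φ hφ ?_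
    rw [hl] at p1
    unfold Max.Ps
    omega
  · refine (syl_le hFq hZ hF φ hφ).trans ?_
    have h4 := (p2 (h3.resolve_right fun h => h2 h.1)).trans hl.le
    exact (Nat.pow_le_pow_right (Nat.succ_pos _) h4).trans_eq (by rw [pow_one])

end Cfsg.Agent.TH.Ab.Mx
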