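import Cfsg.Agent.TH.Ex.Ab.MaxDefs
import Cfsg.Agent.TH.Ex.Si.Cls
import Cfsg.Agent.TH.Sv.Sieve
import Cfsg.Agent.TH.Sv.Nec

/-!
# S3541, `BoxNum` : the sieve for the small characteristics (helper74)
-/

set_option autoImplicit false

namespace Cfsg.Agent.TH.Ab.MxK

open Cfsg Subgroup Cfsg.Agent.H902 Cfsg.Agent.H252.EN Cfsg.Agent.TH.Sv Cfsg.Agent.TH.Ex

/-- a multiple of `|H ⊓ T|` -/
def NB (l p N : ℕ) : ℕ := p ^ (3 * l / 2) * (p ^ 2 - 1) ^ Nat.log2 N * cW l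

theorem dvd_pow_log {y z N : ℕ} (hN : N ≠ 0) (hz : z ≠ 0) (hy : y ∣ N) (h : ∀ s, s.Prime → s ∣ y → s ∣ z) :
    y ∣ z ^ Nat.log2 N := by
  have h0 : y ≠ 0 := ne_zero_of_dvd_ne_zero hN hy
  refine (Nat.factorization_prime_le_iff_dvd h0 (pow_ne_zero _ hz)).1 fun s hs => ?_
  by_cases h1 : s ∣ y
  · have h2 : y.factorization s ≤ Nat.log2 N := by
      rw [Nat.le_log2 hN]
      exact (Nat.pow_le_pow_left hs.two_le _).trans (Nat.le_of_dvd (Nat.pos_of_ne_zero hN) ((Nat.ordProj_dvd y s).trans hy))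
    rw [Nat.factorization_pow, Finsupp.smul_apply, smul_eq_mul]
    exact h2.trans (Nat.le_mul_of_pos_right _ (hs.factorization_pos_of_dvd hz (h s hs h1)))
  · rw [Nat.factorization_eq_zero_of_not_dvd h1]
    exact Nat.zero_le _

theorem dvd_NB {l p N x i : ℕ} (hp : p.Prime) (hN : N ≠ 0) (hx : x ∣ N)
    (h1 : ∀ s, s.Prime → s ∣ x → s = p ∨ s ∣ p ^ 2 - 1) (h2 : ¬ p ^ (3 * l / 2 + 1) ∣ x) (hi : i ∣ cW l) :
    x * i ∣ NB l p N := by
  obtain ⟨j, y, h3, rfl⟩ := Nat.exists_eq_pow_mul_and_not_dvd (ne_zero_of_dvd_ne_zero hN hx) p hp.ne_one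
  refine Nat.mul_dvd_mul (Nat.mul_dvd_mul (pow_dvd_pow p ?_) (dvd_pow_log hN
    (Nat.sub_pos_of_lt (Nat.one_lt_pow two_ne_zero hp.one_lt)).ne' ((Dvd.intro_left _ rfl).trans hx) fun s hs h4 =>
      (h1 s hs (h4.mul_left _)).resolve_left fun h5 => h3 (h5 ▸ h4))) hi
  by_contra h4
  exact h2 ((pow_dvd_pow p (by omega)).mul_right _)

/-- the elements of order 5 -/
def flt (N p b a d : ℕ) : Bool :=
  !Nat.beq (a % 5) 0 || (Nat.beq (d % 5) 0 || (Nat.beq p 5 || Nat.ble N (b * (Nat.gcd a d * a))))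

/-- the parameters -/
def par (N p o c c0 B b : ℕ) : Par :=
  { N := N, p := p, outT := o, c := c, NB := B, low := p, cG := fun _ _ => c0, cA := fun _ _ => c0,
    cS := fun _ _ s => bif Nat.beq s p then c0 else c, flt := fun a _ d => flt N p b a d }

/-- the run for one group -/
def chk (Y : Art.Sh) (l e p : ℕ) : Bool :=
  frc (od Y p 1) fun N => frc ((p ^ 1) ^ Si.e1 Y) fun c => frc ((p ^ 1) ^ e) fun c0 => frc (Si.bS Y (p ^ 1) 5) fun b =>
    frc (NB l p N) fun B => sieveG (par N p (ouN Y p 1) c c0 B b)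

/-- the runs for one family -/
def chkY (Y : Art.Sh) (l e : ℕ) : Bool := allL [2, 3, 5, 7] fun p => !Nat.beq (cW l % p) 0 || chk Y l e p

theorem chk_F4 : chkY .F4 4 15 = true := by decide +kernel
theorem chk_E6 : chkY .E6 6 16 = true := by decide +kernel
theorem chk_TE6 : chkY .TE6 6 21 = true := by decide +kernel
theorem chk_E7 : chkY .E7 7 27 = true := by decide +kernel
theorem chk_E8 : chkY .E8 8 57 = true := by decide +kernel

theorem mem_of_dvd {l p : ℕ} (hp : p.Prime) (h : p ∣ cW l) : p ∈ [2, 3, 5, 7] := by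
  have h1 : cW l ∣ 2 ^ 14 * (3 ^ 5 * (5 ^ 2 * 7)) := by
    unfold cW
    split_ifs <;> norm_num
  have h2 := h.trans h1
  simp only [hp.dvd_mul, List.mem_cons, List.not_mem_nil, or_false] at h2 ⊢
  exact h2.imp (fun h => (Nat.prime_dvd_prime_iff_eq hp Nat.prime_two).1 (hp.dvd_of_dvd_pow h)) (Or.imp
    (fun h => (Nat.prime_dvd_prime_iff_eq hp Nat.prime_three).1 (hp.dvd_of_dvd_pow h)) (Or.imp
    (fun h => (Nat.prime_dvd_prime_iff_eq hp Nat.prime_five).1 (hp.dvd_of_dvd_pow h))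
    (Nat.prime_dvd_prime_iff_eq hp Nat.prime_seven).1))

theorem false_of_chk {G : Type} [Group G] [Finite G] {T H : Subgroup G} {m p l e : ℕ} {Y : Art.Sh}
    (h : chkY Y l e = true) (c : LieCtx T H m p) (D : Si.Dat Y p 1 T) (ho : T.index ∣ ouN Y p 1)
    (hc : ∀ x : G, x ≠ 1 → (p ^ 1) ^ e ≤ (centralizer {x}).relIndex T)
    (hP : ∀ P : Subgroup G, P ≠ ⊥ → IsPGroup p P → (p ^ 1) ^ e ≤ (normalizer (P : Set G)).relIndex T)
    (h1 : p ∣ cW l) (hNB : Nat.card ↥(H ⊓ T) ∣ NB l p (Nat.card T)) (hlow : p ∣ Nat.card ↥(H ⊓ T)) : False := by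
  have h2 := (allL_iff _ _).1 h p (mem_of_dvd c.prime h1)
  rw [Nat.mod_eq_zero_of_dvd h1, chk] at h2
  simp only [frc_eq, Nat.beq_refl, Bool.not_true, Bool.false_or, ← real_eq D.real] at h2
  refine false_of_sieveG boxNecX c.as c.half _ h2 rfl rfl rfl c.dvd_index ho (le_index c.as c.half D.idx) hNB hlow
    (fun x _ => hc x) (fun x _ => hc x) (fun s _ Q h3 h4 h5 => ?_) (fun _ _ _ h => absurd rfl h)
    (fun _ _ _ h => absurd rfl h) rfl ?_
  · show (bif Nat.beq s p then _ else _) ≤ _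
    rw [Bool.cond_eq_ite]
    split_ifs with h6
    · exact hP Q h4 (Nat.eq_of_beq_eq_true h6 ▸ h5)
    · exact le_relIndex D.idx (not_le_normalizer c.as c.half h3 h4)
  · show flt _ _ _ _ _ = true
    simp only [flt, Bool.or_eq_true, Bool.not_eq_true', ← Bool.not_eq_true, Nat.beq_eq, Nat.ble_eq]
    refine or_iff_not_imp_left.2 fun h3 => or_iff_not_imp_left.2 fun h4 => or_iff_not_imp_left.2 fun h5 => ?_
    have := Fact.mk Nat.prime_five
    obtain ⟨x, hx⟩ := exists_prime_orderOf_dvd_card' 5 (Nat.dvd_of_mod_eq_zero (not_not.1 h3))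
    have h6 : orderOf (⟨x, x.2.2⟩ : T) = 5 := by rw [← orderOf_coe, ← hx, ← orderOf_coe x]
    have h7 := D.cent _ (h6 ▸ Nat.prime_five) (h6 ▸ Ne.symm h5)
    have h8 : ∀ a ∈ H, ∀ y ∈ H ⊓ T, a * y * a⁻¹ ∈ H ⊓ T := fun a ha y hy =>
      ⟨H.mul_mem (H.mul_mem ha hy.1) (H.inv_mem ha), c.as.normal.conj_mem y hy.2 a⟩
    have h9 := boxEl G T H _ _ m 5 1 x c.as c.half Nat.prime_five (fun h9 => h4 (Nat.mod_eq_zero_of_dvd h9)) inf_le_left
      h8 le_rfl (fun a ha => h8 a ha.1) x.2 (by rw [orderOf_coe, hx, pow_one])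
    rw [h6, show centralizer {(⟨x, x.2.2⟩ : T)} = (centralizer {(x : G)}).subgroupOf T from Subgroup.ext fun z => by
      rw [mem_subgroupOf, mem_centralizer_singleton_iff, mem_centralizer_singleton_iff, Subtype.ext_iff]; rfl] at h7
    rw [← ((centralizer {(x : G)}).subgroupOf T).card_mul_index]
    refine Nat.mul_le_mul h7 (h9.trans (Nat.mul_le_mul (min_le_left _ _) ?_))
    refine Set.ncard_le_ncard (s := clsIn T H x) (t := (H ⊓ T : Subgroup G)) ?_ (Set.toFinite _)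
    rintro _ ⟨h10, t, -, rfl⟩
    exact ⟨h10, c.as.normal.conj_mem' _ x.2.2 t⟩

end Cfsg.Agent.TH.Ab.MxK
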