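import Cfsg.Agent.TH.Ex.Ab.MaxNumA
import Cfsg.Agent.TH.Ex.Ab.Dat
import Cfsg.Agent.TH.Ex.Ab.Frm

/-!
# S3541, `BoxNum` : the characteristic divides the order of the Weyl group (helper74)
-/

set_option autoImplicit false

namespace Cfsg.Agent.TH.Ab.MxK

open Cfsg Cfsg.Lie Cfsg.Agent.ChevalleyStructure.CoxeterGeomTypes Cfsg.Agent.Nodes.RGDChev Cfsg.Agent.TH.Ab.Dat

/-- the rank and the family -/
theorem cases_sh {D : ChevalleyDatum} {l : ℕ} {M : CoxeterMatrix (Fin l)} (hp : IsType D l M) (hD : DS.Ex.Typ D)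
    {tw : Bool} {p f : ℕ} {T : Type} [Group T] (h : IsoX D tw p f T) :
    (sh D tw = .F4 ∧ l = 4) ∨ (sh D tw = .E6 ∧ l = 6) ∨ (sh D tw = .TE6 ∧ l = 6) ∨ (sh D tw = .E7 ∧ l = 7) ∨
      (sh D tw = .E8 ∧ l = 8) := by
  have h1 : ∀ {D D' : ChevalleyDatum}, D = D' → D.nroots = D'.nroots := fun h => h ▸ rfl
  rcases h.cases hD with ⟨h2, -, h3⟩ | ⟨h2, -, h3⟩ | ⟨h2, -, h3⟩ | ⟨h2, -, h3⟩ | ⟨h2, -, h3⟩ <;>
    rcases Frm.rank_cases hp hD with ⟨h4, h5⟩ | ⟨h4, h5⟩ | ⟨h4, h5⟩ | ⟨h4, h5⟩ <;>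
    first
    | exact absurd (h1 (h2.symm.trans h4)) (by decide)
    | simp only [h3, h5, and_self, true_or, or_true]

theorem false_of_small {D : ChevalleyDatum} {l : ℕ} {M : CoxeterMatrix (Fin l)} (hp : IsType D l M) {tw : Bool} {p : ℕ}
    {G : Type} [Group G] [Finite G] {T H E : Subgroup G} {m r : ℕ} (C : XC D tw T H E m p 1 r) (h1 : p ∣ cW l)
    (hNB : Nat.card ↥(H ⊓ T) ∣ NB l p (Nat.card T)) (hlow : p ∣ Nat.card ↥(H ⊓ T)) : False := by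
  have hT := C.ctx.as
  have h := C.iso.md C.typ C.ctx.prime hT.simple hT.nonab
  refine false_of_chk (e := cX (sh D tw)) ?_ C.ctx.toLieCtx h.dat (h.index_dvd hT) (fun x => h.clsG hT)
    (fun P => h.parG hT) h1 hNB hlow
  rcases cases_sh hp C.typ C.iso with ⟨h2, rfl⟩ | ⟨h2, rfl⟩ | ⟨h2, rfl⟩ | ⟨h2, rfl⟩ | ⟨h2, rfl⟩ <;> rw [h2]
  exacts [chk_F4, chk_E6, chk_TE6, chk_E7, chk_E8]

end Cfsg.Agent.TH.Ab.MxK
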