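import Cfsg.Agent.TH.Ex.Ab.ZCDel

/-!
# S3541, box ZC: elementary abelian groups normalised by `Q / n P` (helper97)

`h β` is the element of the torus with the character `ζ ^ (β, ·)`, `ζ` of order `n`.  An elementary abelian `r`-group `R`
normalised (nilpotently) by the elements `h β` normalises the torus, its image in `W` is `{1}` or `{1, z, z⁻¹}` with
`z + z⁻¹ = 2 - n`, and `x = h (z β - β)` is toral with all the elements of `R` (`main_alg`).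
-/

set_option autoImplicit false
set_option linter.unusedSectionVars false

namespace Cfsg.Agent.TH.Ab.ZC

open CoxeterSystem Cfsg Cfsg.Lie Cfsg.Lie.ChevalleyDatum
open Cfsg.Agent.ChevalleyStructure Cfsg.Agent.ChevalleyStructure.Elts Cfsg.Agent.ChevalleyStructure.CoxeterGeom
  Cfsg.Agent.ChevalleyStructure.CoxeterGeomTypes
open Cfsg.Agent.Tits.Roots Cfsg.Agent.Tits.Core Cfsg.Agent.Nodes Cfsg.Agent.Nodes.Reps Cfsg.Agent.Nodes.BNOf
  Cfsg.Agent.Nodes.RGDChev Cfsg.Agent.Nodes.Bruhat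
open Cfsg.Agent.KFacts.RgdField Cfsg.Agent.KFacts.RgdChevCoord
open Cfsg.Agent.BpExc Cfsg.Agent.BpExc.TorCent Cfsg.Agent.BpExc.TorChev Cfsg.Agent.BpExc.Tow
  Cfsg.Agent.BpExc.TowChev Cfsg.Agent.BpExc.Fr Cfsg.Agent.BpExc.LangFr
open Cfsg.Agent.H469.Exc Cfsg.Agent.H795.SetCent Cfsg.Agent.H129.TorusChar Cfsg.Agent.H129.WData Cfsg.Agent.DS.Ex
open Cfsg.Agent.H185.EE Cfsg.Agent.H931.KC Cfsg.Agent.DS.Nt Cfsg.Agent.DS.Ex.Tor
open Cfsg.Agent.H92.NE (bl)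

variable {D : ChevalleyDatum} {l : ℕ} {M : CoxeterMatrix (Fin l)} {hp : IsType D l M} {p : ℕ} [Fact p.Prime]
  {r n : ℕ} {Bm : Mat l} {v : Fin l → ℤ}

/-- no root is trivial on the kernel -/
theorem no_root (K : KD D l r n Bm v) {a : Fin l → ℤ} (ha : Rt hp a) {φ : (Fin l → ℤ) → M.Group}
    (hφ : ∀ β β', φ (β + β') = φ β * φ β') (h1 : ∀ β, φ β = 1 → (n : ℤ) ∣ bl Bm β a) (h2 : ∀ β, φ β ^ r = 1)
    (h3 : (∀ β, φ β = 1) ∨ ∃ z, Nz hp n z ∧ (∀ β, φ β = 1 ∨ φ β = z ∨ φ β = z⁻¹) ∧ ∀ β, φ β = 1 → φ (wa hp z⁻¹ β) = 1) :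
    False := by
  obtain ⟨b, hb⟩ := K.exists_neg ha
  have hb1 : φ b ≠ 1 := fun h => by
    have h4 := h1 b h
    rw [hb, dvd_neg] at h4
    have h5 := Int.le_of_dvd one_pos h4
    have h6 := K.n_ge
    omega
  rcases h3 with h3 | ⟨z, hz, h3, h4⟩
  · exact hb1 (h3 b)
  rcases K.num with ⟨rfl, rfl, -⟩ | ⟨rfl, rfl, -⟩
  · have h5 : ∀ β, φ β = 1 → (3 : ℤ) ∣ bl Bm β a ∧ (3 : ℤ) ∣ bl Bm β (wa hp z a) := fun β h => by
      have h6 := h1 _ (h4 β h)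
      rw [K.adjt, inv_inv] at h6
      exact ⟨h1 β h, h6⟩
    have h6 : ∀ β, φ β = 1 ∨ φ (β - b) = 1 ∨ φ (β + b) = 1 := fun β => by
      have h7 := hφ (β - b) b
      rw [sub_add_cancel] at h7
      have h8 : φ β = φ b → φ (β - b) = 1 := fun h => by
        rw [h] at h7
        exact (mul_eq_right.1 h7.symm)
      rcases h3 β with h9 | h9 | h9
      · exact Or.inl h9
      · rcases (h3 b).resolve_left hb1 with h10 | h10
        · exact Or.inr (Or.inl (h8 (h9.trans h10.symm)))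
        · exact Or.inr (Or.inr (by rw [hφ, h9, h10, mul_inv_cancel]))
      · rcases (h3 b).resolve_left hb1 with h10 | h10
        · exact Or.inr (Or.inr (by rw [hφ, h9, h10, inv_mul_cancel]))
        · exact Or.inr (Or.inl (h8 (h9.trans h10.symm)))
    have h7 : ∀ β, (3 : ℤ) ∣ bl Bm β (wa hp z a) + bl Bm b (wa hp z a) * bl Bm β a := fun β => by
      rcases h6 β with h8 | h8 | h8
      · exact dvd_add (h5 _ h8).2 (Dvd.dvd.mul_left (h5 _ h8).1 _)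
      · obtain ⟨⟨c, hc⟩, ⟨d, hd⟩⟩ := h5 _ h8
        rw [K.sub_left] at hc hd
        rw [hb] at hc
        exact ⟨d + bl Bm b (wa hp z a) * c, by linear_combination hd + bl Bm b (wa hp z a) * hc⟩
      · obtain ⟨⟨c, hc⟩, ⟨d, hd⟩⟩ := h5 _ h8
        rw [K.add_left] at hc hd
        rw [hb] at hc
        exact ⟨d + bl Bm b (wa hp z a) * c, by linear_combination hd + bl Bm b (wa hp z a) * hc⟩
    have h8 := K.nz_form hz a a
    rw [K.sub_left, map_sub, map_sub, K.inv, K.root ha, K.symm (wa hp z a) a] at h8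
    have h9 := h7 a
    rw [K.root ha] at h9
    push_cast at h8
    obtain ⟨c, hc⟩ : (3 : ℤ) ∣ bl Bm b (wa hp z a) + 1 := by omega
    refine K.nz_ne hz ha (K.sep' ha (ha.act z) fun y => ?_)
    obtain ⟨d, hd⟩ := h7 y
    rw [K.symm, map_sub]
    exact ⟨d - c * bl Bm y a, by
      change bl Bm y (wa hp z a) - _ = _
      push_cast
      linear_combination hd - bl Bm y a * hc⟩
  · have h5 := h1 (b + b) (by rw [hφ, ← pow_two, h2])
    rw [K.add_left, hb] at h5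
    norm_num at h5

variable (hp) in
/-- the elements `h β` -/
structure HT (n : ℕ) (Bm : Mat l) (ζ : KK p) (h : (Fin l → ℤ) → YY D p) : Prop where
  prim : IsPrimitiveRoot ζ n
  ne : ζ ≠ 0
  mem : ∀ β, h β ∈ TT D (KK p)
  chr : ∀ β a, cX hp (h β) a = ζ ^ bl Bm β a

theorem exists_HT (hD : Typ D) {ζ : KK p} (hζ : IsPrimitiveRoot ζ n) (hn : n ≠ 0) : ∃ h, HT hp n Bm ζ h := by
  choose h h1 h2 using fun β => exists_tor_zpow hp hD (hζ.ne_zero hn) (bl Bm β)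
  exact ⟨h, hζ, hζ.ne_zero hn, h1, h2⟩

namespace HT

variable {ζ : KK p} {h : (Fin l → ℤ) → YY D p} (H : HT hp n Bm ζ h) (K : KD D l r n Bm v)
include H K

theorem add (β β' : Fin l → ℤ) : h (β + β') = h β * h β' :=
  cX_inj hp (H.mem _) (mul_mem (H.mem _) (H.mem _)) fun i => by
    rw [cX_mul hp (H.mem _) (H.mem _), H.chr, H.chr, H.chr, K.add_left, zpow_add₀ H.ne]

theorem sub (β β' : Fin l → ℤ) : h (β - β') = h β * (h β')⁻¹ := by
  rw [eq_mul_inv_iff_mul_eq, ← H.add K, sub_add_cancel]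

theorem conj {w : M.Group} {k : YY D p} (hk : RP hp p w k) (β : Fin l → ℤ) : k * h β * k⁻¹ = h (wa hp w β) :=
  cX_inj hp (hk.conj_mem (H.mem _)) (H.mem _) fun i => by
    have h1 := hk.cX (H.mem β) (wa hp w⁻¹ (sr i))
    rw [rep_apply_inv] at h1
    rw [h1, H.chr, H.chr, K.adjt]

theorem dvd_of_pow {β : Fin l → ℤ} {m : ℕ} (h1 : h β ^ m = 1) (a : Fin l → ℤ) : (n : ℤ) ∣ m * bl Bm β a := by
  have h2 := cX_pow hp (H.mem β) m a
  rw [h1, cX_one, H.chr, ← zpow_natCast, ← zpow_mul, eq_comm, H.prim.zpow_eq_one_iff_dvd] at h2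
  rwa [mul_comm]

theorem dvd {β : Fin l → ℤ} (h1 : h β = 1) (a : Fin l → ℤ) : (n : ℤ) ∣ bl Bm β a := by
  have h2 := H.dvd_of_pow K (m := 1) (by rw [pow_one, h1]) a
  rwa [Nat.cast_one, one_mul] at h2

theorem pow (β : Fin l → ℤ) : h β ^ n = 1 := pow_eq_one_of_cX (hp := hp) (H.mem β) fun a => by
  rw [H.chr, ← zpow_natCast, ← zpow_mul, mul_comm, zpow_mul, zpow_natCast, H.prim.pow_eq_one, one_zpow]

variable {R : Subgroup (YY D p)} (hc : ∀ x ∈ R, ∀ y ∈ R, x * y = y * x) (hr : ∀ x ∈ R, x ^ r = 1)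
  (hn : ∀ β, ∀ y ∈ R, h β * y * (h β)⁻¹ ∈ R)

include hn in
theorem comm_mem {y : YY D p} (hy : y ∈ R) (β : Fin l → ℤ) : y * h β * y⁻¹ * (h β)⁻¹ ∈ R := by
  have e : y * h β * y⁻¹ * (h β)⁻¹ = y * (h β * y⁻¹ * (h β)⁻¹) := by group
  rw [e]
  exact mul_mem hy (hn β _ (inv_mem hy))

include hn in
theorem mem_R {y : YY D p} (hy : y ∈ R) {w : M.Group} (hw : RP hp p w y) (β : Fin l → ℤ) : h (wa hp w β - β) ∈ R := by
  rw [H.sub K, ← H.conj K hw]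
  exact H.comm_mem K hn hy β

include hc hr hn

theorem quad {y : YY D p} (hy : y ∈ R) {w : M.Group} (hw : RP hp p w y) : w = 1 ∨ Nz hp n w := by
  refine K.quad (fun β => H.dvd K ?_) fun β => H.dvd_of_pow K (hr _ (H.mem_R K hn hy hw β))
  have h1 := H.conj K hw.inv (wa hp w β - β)
  rw [hc _ (inv_mem hy) _ (H.mem_R K hn hy hw β), mul_inv_cancel_right, map_sub, rep_inv_apply] at h1
  have e : β + β - wa hp w β - wa hp w⁻¹ β = (β - wa hp w⁻¹ β) - (wa hp w β - β) := by abel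
  rw [e, H.sub K, ← h1, mul_inv_cancel]

theorem cyc : (∀ y ∈ R, ∀ w, RP hp p w y → w = 1) ∨ ∃ y₀ ∈ R, ∃ z, RP hp p z y₀ ∧ Nz hp n z ∧
    ∀ y ∈ R, ∀ w, RP hp p w y → w = 1 ∨ w = z ∨ w = z⁻¹ := by
  by_cases h0 : ∀ y ∈ R, ∀ w, RP hp p w y → w = 1
  · exact Or.inl h0
  push Not at h0
  obtain ⟨y₀, h1, z, h2, h3⟩ := h0
  have h4 := (H.quad K hc hr hn h1 h2).resolve_left h3
  refine Or.inr ⟨y₀, h1, z, h2, h4, fun y hy w hw => K.cyc h4 ?_ (H.quad K hc hr hn hy hw)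
    (H.quad K hc hr hn (mul_mem h1 hy) (h2.mul hw)) (H.quad K hc hr hn (mul_mem h1 (inv_mem hy)) (h2.mul hw.inv))⟩
  have h5 := hw.mul h2
  rw [hc y hy y₀ h1] at h5
  exact (h2.mul hw).unique h5

/-- the induction step -/
theorem step (hfin : (Set.range h).Finite) {u : YY D p} (hu : u ∈ R)
    (h0 : ∀ β, ∃ w, RP hp p w (u * h β * u⁻¹ * (h β)⁻¹)) : ∃ w, RP hp p w u := by
  choose φ hφ using h0
  have h1 : ∀ β, RP hp p (φ β) (u * h β * u⁻¹) := fun β => by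
    have h2 := (hφ β).mul (RP.of_mem (hp := hp) (H.mem β))
    rwa [mul_one, inv_mul_cancel_right] at h2
  have h2 : ∀ β β', φ (β + β') = φ β * φ β' := fun β β' => by
    refine (h1 _).unique ?_
    have e : u * h (β + β') * u⁻¹ = (u * h β * u⁻¹) * (u * h β' * u⁻¹) := by rw [H.add K]; group
    rw [e]
    exact (h1 β).mul (h1 β')
  have h3 : ∀ β, φ β = 1 ↔ u * h β * u⁻¹ ∈ TT D (KK p) := fun β =>
    ⟨fun h4 => (h4 ▸ h1 β : RP hp p 1 _).mem_T, fun h4 => (h1 β).unique (RP.of_mem h4)⟩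
  have hf : Finite {b : YY D p // b ∈ Set.range h ∧ u * b * u⁻¹ ∈ TT D (KK p)} :=
    (hfin.subset fun _ hb => hb.1 : {b : YY D p | b ∈ Set.range h ∧ u * b * u⁻¹ ∈ TT D (KK p)}.Finite)
  have hs : ∀ i : {b : YY D p // b ∈ Set.range h ∧ u * b * u⁻¹ ∈ TT D (KK p)}, i.1 ∈ TT D (KK p) := by
    rintro ⟨_, ⟨β, rfl⟩, _⟩
    exact H.mem β
  obtain ⟨m, hm, w, k, hk, h4, h5⟩ := form₂ hp (ι := {b : YY D p // b ∈ Set.range h ∧ u * b * u⁻¹ ∈ TT D (KK p)})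
    (s := fun i => i.1) (t := fun i => u * i.1 * u⁻¹) hs (fun i => i.2.2) (c := u) (fun i => by group)
  have h6 : m ∈ (⊥ : Subgroup (YY D p)) := Mz_le (fun a ha => by
    exfalso
    have h7 := (mem_Ps (by rintro _ ⟨i, rfl⟩; exact i.2.2)).1 ha
    refine no_root (hp := hp) K (h7.1.act w⁻¹) h2 (fun β hβ => ?_) (fun β => ?_) ?_
    · have h8 := h7.2 _ ⟨⟨h β, ⟨β, rfl⟩, (h3 β).1 hβ⟩, rfl⟩
      have h9 : u * h β * u⁻¹ = k * h β * k⁻¹ := by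
        rw [h4 ⟨h β, ⟨β, rfl⟩, (h3 β).1 hβ⟩, mul_inv_cancel_right]
      change cX hp (u * h β * u⁻¹) a = 1 at h8
      rw [h9, H.conj K hk, H.chr, H.prim.zpow_eq_one_iff_dvd, K.adjt] at h8
      exact h8
    · have h8 := (hφ β).pow r
      rw [hr _ (H.comm_mem K hn hu β)] at h8
      exact h8.unique (RP.of_mem (one_mem _))
    · rcases H.cyc K hc hr hn with h8 | ⟨y₀, h8, z, h9, h10, h11⟩
      · exact Or.inl fun β => h8 _ (H.comm_mem K hn hu β) _ (hφ β)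
      · refine Or.inr ⟨z, h10, fun β => h11 _ (H.comm_mem K hn hu β) _ (hφ β), fun β hβ => (h3 _).2 ?_⟩
        have e : u * (y₀⁻¹ * h β * y₀⁻¹⁻¹) * u⁻¹ = y₀⁻¹ * (u * h β * u⁻¹) * y₀⁻¹⁻¹ := by
          calc u * (y₀⁻¹ * h β * y₀⁻¹⁻¹) * u⁻¹ = (u * y₀⁻¹) * h β * (u * y₀⁻¹)⁻¹ := by group
            _ = (y₀⁻¹ * u) * h β * (y₀⁻¹ * u)⁻¹ := by rw [hc u hu _ (inv_mem h8)]
            _ = _ := by group
        rw [← H.conj K h9.inv, e]
        exact h9.inv.conj_mem ((h3 β).1 hβ)) hm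
  rw [Subgroup.mem_bot.1 h6, one_mul] at h5
  exact ⟨w, h5 ▸ hk⟩

/-- **The algebraic statement.** -/
theorem main_alg (hrp : r ≠ p) (hfin : (Set.range h).Finite) (hne : R ≠ ⊥)
    (hind : ∀ S : Set (YY D p), 1 ∈ S → (∀ u ∈ R, (∀ β, u * h β * u⁻¹ * (h β)⁻¹ ∈ S) → u ∈ S) → ∀ u ∈ R, u ∈ S) :
    ∃ x ∈ R, x ≠ 1 ∧ ∀ y ∈ R, Tp p y x := by
  have hN : ∀ u ∈ R, ∃ w, RP hp p w u := hind {u | ∃ w, RP hp p w u} ⟨1, RP.of_mem (one_mem _)⟩ fun u hu h0 =>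
    H.step K hc hr hn hfin hu h0
  rcases H.cyc K hc hr hn with h1 | ⟨y₀, h1, z, h2, h3, h4⟩
  · have h2 : ∀ u ∈ R, (1 : YY D p) * u * 1⁻¹ ∈ TT D (KK p) := fun u hu => by
      obtain ⟨w, hw⟩ := hN u hu
      rw [h1 u hu w hw] at hw
      rw [one_mul, inv_one, mul_one]
      exact hw.mem_T
    obtain ⟨⟨x, hx⟩, h3⟩ := Subgroup.ne_bot_iff_exists_ne_one.1 hne
    exact ⟨x, hx, fun h => h3 (Subtype.ext h), fun y hy => ⟨1, h2 y hy, h2 x hx⟩⟩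
  · have ha : Rt hp (sr ⟨0, K.pos⟩) := isRoot_sr _ _ _
    set a : Fin l → ℤ := sr ⟨0, K.pos⟩
    have hx := H.mem_R K hn h1 h2 a
    have hxT := H.mem (wa hp z a - a)
    have h5 : y₀ ∈ DZ hp p {h (wa hp z a - a)} := del K hrp hxT (hr _ hx) h2 (hc _ h1 _ hx) (by
      rw [H.chr, H.prim.zpow_eq_one_iff_dvd]
      exact K.dv_nz h3 a)
    refine ⟨_, hx, fun h6 => K.nz_ne h3 ha (K.sep' ha (ha.act z) (H.dvd K h6)), fun y hy => Tp.symm
      (tp_of_mem_DZ (hp := hp) K.prime hrp hxT ⟨1, by rw [pow_one, hr _ hx]⟩ ?_ ⟨1, by rw [pow_one, hr _ hy]⟩)⟩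
    obtain ⟨w, hw⟩ := hN y hy
    rcases h4 y hy w hw with rfl | rfl | rfl
    · exact T_le_DZ hw.mem_T
    · have h6 := hw.mul h2.inv
      rw [mul_inv_cancel] at h6
      have e : y = y * y₀⁻¹ * y₀ := by group
      rw [e]
      exact mul_mem (T_le_DZ h6.mem_T) h5
    · have h6 := hw.mul h2
      rw [inv_mul_cancel] at h6
      have e : y = y * y₀ * y₀⁻¹ := by group
      rw [e]
      exact mul_mem (T_le_DZ h6.mem_T) (inv_mem h5)

end HT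

end Cfsg.Agent.TH.Ab.ZC
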