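import Cfsg.Agent.TH.Ex.Ab.ZCLat
import Cfsg.Agent.DS.Ex.TorFrame

/-!
# S3541, box ZC: the component group of the centraliser of an element of order `r` (helper97)

For `x` in the torus, `w ↦ cX x (dv w)` is a homomorphism on the stabiliser of `x` in `W`.

* `del` : a representative of an element of the kernel lies in the connected centraliser;
* `rp_sigma` : frame automorphisms acting as `± u` on the lattice permute the cosets of the torus as `u`;
* `tp_of_fix` : `E₆`, `r = 3`, `σ` acts non-trivially on the fundamental group: commuting fixed elements of order 3 are toral.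
-/

set_option autoImplicit false
set_option linter.unusedSectionVars false

namespace Cfsg.Agent.TH.Ab.ZC

open CoxeterSystem Cfsg Cfsg.Lie Cfsg.Lie.ChevalleyDatum
open Cfsg.Agent.ChevalleyStructure Cfsg.Agent.ChevalleyStructure.Elts Cfsg.Agent.ChevalleyStructure.CoxeterGeom
  Cfsg.Agent.ChevalleyStructure.CoxeterGeomTypes
open Cfsg.Agent.Tits.Roots Cfsg.Agent.Tits.Core Cfsg.Agent.Nodes Cfsg.Agent.Nodes.Reps Cfsg.Agent.Nodes.BNOf
  Cfsg.Agent.Nodes.RGDChev Cfsg.Agent.Nodes.Bruhat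
open Cfsg.Agent.KFacts.RgdField Cfsg.Agent.KFacts.RgdChevCoord
open Cfsg.Agent.BpExc Cfsg.Agent.BpExc.TorCent Cfsg.Agent.BpExc.TorChev Cfsg.Agent.BpExc.Tow
  Cfsg.Agent.BpExc.TowChev Cfsg.Agent.BpExc.Fr Cfsg.Agent.BpExc.LangFr
open Cfsg.Agent.H469.Exc Cfsg.Agent.H795.SetCent Cfsg.Agent.H129.TorusChar Cfsg.Agent.H129.WData Cfsg.Agent.DS.Ex
open Cfsg.Agent.H185.EE Cfsg.Agent.H931.KC Cfsg.Agent.DS.Nt Cfsg.Agent.DS.Ex.Tor

variable {D : ChevalleyDatum} {l : ℕ} {M : CoxeterMatrix (Fin l)} {hp : IsType D l M} {p : ℕ} [Fact p.Prime]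
  {r n : ℕ} {Bm : Mat l} {v : Fin l → ℤ}

theorem cX_conj (K : KD D l r n Bm v) {x : YY D p} (hx : x ∈ TT D (KK p)) (u : M.Group) {w : M.Group}
    (hw : ∀ a, cX hp x (wa hp (u * w * u⁻¹) a) = cX hp x a) :
    cX hp x (dv hp r v (u * w * u⁻¹)) = cX hp x (wa hp u (dv hp r v w)) := by
  have h := isMC_cX hp hx
  have h1 := hw (wa hp u (dv hp r v u⁻¹))
  rw [rep_mul_apply, rep_mul_apply, rep_inv_apply] at h1
  rw [K.dv_conj, map_add, map_sub, h.add, h.sub, h1, div_self (h.ne_zero _), one_mul]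

theorem del_PP [Finite M.Group] (K : KD D l r n Bm v) (hrp : r ≠ p) {x : YY D p} (hx : x ∈ TT D (KK p)) (hxr : x ^ r = 1)
    {y : M.Group} (hy : y ∈ PP M.toCoxeterSystem hp.isCartan (ch hp) x) (hδ : cX hp x (dv hp r v y) = 1) : y = 1 := by
  by_contra hy1
  obtain ⟨ζ, hζ⟩ := exists_prim (p := p) K.prime hrp
  obtain ⟨w, u, c, c0, π, C, h1, hu, h2, h3, h4⟩ := pp_diag K.r_pos hζ hx hxr hy hy1
  have e : y = w * u * w⁻¹ := by rw [hu]; group
  have h5 := cX_conj (hp := hp) K hx w (w := u) fun a => by rw [← e]; exact cX_PP hp hx hy a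
  rw [← e, hδ, h1, eq_comm, hζ.zpow_eq_one_iff_dvd] at h5
  exact K.dv_kac C h2 h3 h4 h5

theorem del_mul (K : KD D l r n Bm v) {x : YY D p} (hx : x ∈ TT D (KK p)) {w : M.Group}
    (hw : ∀ a, cX hp x (wa hp w a) = cX hp x a) (w' : M.Group) :
    cX hp x (dv hp r v (w * w')) = cX hp x (dv hp r v w) * cX hp x (dv hp r v w') := by
  rw [K.dv_mul, (isMC_cX hp hx).add, hw, mul_comm]

theorem del_one (K : KD D l r n Bm v) {x : YY D p} (hx : x ∈ TT D (KK p)) : cX hp x (dv hp r v 1) = 1 := by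
  rw [K.dv_one, (isMC_cX hp hx).zero]

/-- **The kernel of the homomorphism is represented in the connected centraliser.** -/
theorem del (K : KD D l r n Bm v) (hrp : r ≠ p) {x : YY D p} (hx : x ∈ TT D (KK p)) (hxr : x ^ r = 1) {w : M.Group}
    {k : YY D p} (hk : RP hp p w k) (hc : k * x = x * k) (hδ : cX hp x (dv hp r v w) = 1) : k ∈ DZ hp p {x} := by
  have := finW hp
  have hZ : ({x} : Set (YY D p)) ⊆ TT D (KK p) := Set.singleton_subset_iff.2 hx
  let V : Subgroup M.Group :=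
    { carrier := {u | (∃ m ∈ Mz hp p {x}, RP hp p u m) ∧ cX hp x (dv hp r v u) = 1}
      one_mem' := ⟨⟨1, one_mem _, RP.of_mem (one_mem _)⟩, del_one K hx⟩
      mul_mem' := by
        rintro a b ⟨⟨m, hm, h1⟩, h2⟩ ⟨⟨m', hm', h3⟩, h4⟩
        refine ⟨⟨m * m', mul_mem hm hm', h1.mul h3⟩, ?_⟩
        rw [del_mul K hx (h1.cX_of_comm hx (Mz_comm hZ hm rfl)), h2, h4, one_mul]
      inv_mem' := by
        rintro a ⟨⟨m, hm, h1⟩, h2⟩
        refine ⟨⟨m⁻¹, inv_mem hm, h1.inv⟩, ?_⟩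
        have h3 := del_mul K hx (h1.cX_of_comm hx (Mz_comm hZ hm rfl)) a⁻¹
        rw [mul_inv_cancel, del_one K hx, h2, one_mul] at h3
        exact h3.symm }
  obtain ⟨u, ⟨⟨m, hm, h1⟩, h2⟩, h3⟩ := TorCent.exists_adjust (cs := M.toCoxeterSystem) (h := hp.isCartan)
    (Sx M.toCoxeterSystem hp.isCartan (ch hp) x) V (fun a ha => by
      obtain ⟨w, i, e, m, hm, h1⟩ := exists_rfl_MMZ (tw hp p) (coW hp p) (chW hp p) (sub_TL hZ) (a := a)
        ⟨ha.1, fun t ht => by rw [ht]; exact ha.2⟩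
      rw [XLe hp p] at hm
      refine ⟨w, i, e, ⟨m, hm, h1⟩, ?_⟩
      obtain ⟨c, hc⟩ := K.dv_rfl (hp := hp) w i
      show cX hp x (dv hp r v (w * M.toCoxeterSystem.simple i * w⁻¹)) = 1
      rw [hc, (isMC_cX hp hx).zsmul, ← e, cX_root hp M.toCoxeterSystem hx ha.1, ha.2, one_zpow]) w
  have h4 := hk.mul h1
  have h5 : k * m * x = x * (k * m) := by rw [mul_assoc, Mz_comm hZ hm rfl, ← mul_assoc, hc, mul_assoc]
  have h6 : w * u = 1 := del_PP K hrp hx hxr (mem_PP.2 ⟨fun a ha => by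
      rw [← cX_root hp M.toCoxeterSystem hx ha, ← cX_root hp M.toCoxeterSystem hx (ha.act _), h4.cX_of_comm hx h5], h3⟩)
    (by rw [del_mul K hx (hk.cX_of_comm hx hc), hδ, h2, one_mul])
  rw [h6] at h4
  have e : k = k * m * m⁻¹ := by group
  rw [e]
  exact mul_mem (T_le_DZ h4.mem_T) (inv_mem (Mz_le_DZ hm))

/-- frame automorphisms and representatives -/
theorem rp_sigma {σ : MulAut (YY D p)} {g : (Fin l → ℤ) ≃+ (Fin l → ℤ)} (F : FR hp p σ g) {ε : ℤˣ} {u : M.Group}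
    (hg : ∀ a, g a = (ε : ℤ) • wa hp u a) {w : M.Group} {k : YY D p} (hk : RP hp p w k) :
    RP hp p (u * w * u⁻¹) (σ k) := by
  have h1 := (F.mul hk.fr).mul F.inv
  rw [conj_conj σ k] at h1
  obtain ⟨w', h2, h3⟩ := inner h1
  have h4 : w' = u * w * u⁻¹ := by
    apply rep_injective M.toCoxeterSystem hp.isCartan
    refine LinearMap.ext fun a => ?_
    obtain ⟨b, rfl⟩ := g.surjective a
    have h5 := congrArg (fun f : (Fin l → ℤ) ≃+ (Fin l → ℤ) => f (g b)) h3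
    change g (wa hp w (g.symm (g b))) = wa hp w' (g b) at h5
    rw [g.symm_apply_apply] at h5
    change wa hp w' (g b) = _
    rw [← h5, hg, hg, map_smul, rep_mul_apply, rep_mul_apply, rep_inv_apply]
  rwa [← h4]

/-- **`σ` acts non-trivially on the fundamental group.** -/
theorem tp_of_fix (K : KD D l 3 n Bm v) (hrp : 3 ≠ p) {e : ℕ} {σ : MulAut (YY D p)} {g : (Fin l → ℤ) ≃+ (Fin l → ℤ)}
    (hσ : IsFrob p e σ) (F : FR hp p σ g) {ε : ℤˣ} {u : M.Group} (hg : ∀ a, g a = (ε : ℤ) • wa hp u a)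
    (hq : ¬ (3 : ℤ) ∣ ε * (p ^ e : ℕ) - 1) {x y : YY D p} (hx : σ x = x) (hy : σ y = y) (hx3 : x ^ 3 = 1) (hy3 : y ^ 3 = 1)
    (hc : y * x = x * y) : Tp p y x := by
  have := finW hp
  obtain ⟨z, hz⟩ := exists_conj_T hp Nat.prime_three hrp (n := 1) (x := x) (by rw [pow_one, hx3])
  set t := z * x * z⁻¹ with ht
  set s := z * y * z⁻¹ with hs
  have hZ : ({t} : Set (YY D p)) ⊆ TT D (KK p) := Set.singleton_subset_iff.2 hz
  have ht3 : t ^ 3 = 1 := by rw [ht, conj_pow, hx3, mul_one, mul_inv_cancel]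
  have hs3 : s ^ 3 = 1 := by rw [hs, conj_pow, hy3, mul_one, mul_inv_cancel]
  have hst : s * t = t * s := conj_comm hc
  refine Tp.of_conj (c := z) (Tp.symm (tp_of_mem_DZ (hp := hp) Nat.prime_three hrp hz ⟨1, by rw [pow_one, ht3]⟩ ?_
    ⟨1, by rw [pow_one, hs3]⟩))
  change s ∈ DZ hp p {t}
  by_contra hne
  -- the frame fixing `t`
  have e1 : ∀ a : YY D p, σ a = a → z * (σ z)⁻¹ * σ (z * a * z⁻¹) = z * a * z⁻¹ * (z * (σ z)⁻¹) := fun a ha => by
    rw [map_mul, map_mul, map_inv, ha]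
    group
  obtain ⟨m, hm, w₀, k₀, hk₀, h1, h2⟩ := form₂ hp (ι := Unit) (s := fun _ => σ t) (t := fun _ => t)
    (fun _ => (F.tor t).2 hz) (fun _ => hz) (c := z * (σ z)⁻¹) (fun _ => e1 x hx)
  rw [Set.range_const] at hm
  have F' : FR hp p (MulAut.conj k₀ * σ) _ := hk₀.fr.mul F
  have hσ' : IsFrob p e (MulAut.conj k₀ * σ) := hσ.conj_mul k₀
  set τ := MulAut.conj k₀ * σ with hτ
  have hτt : τ t = t := by
    show k₀ * σ t * k₀⁻¹ = t
    rw [h1 (), mul_inv_cancel_right]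
  have hτs : m * τ s * m⁻¹ = s := by
    show m * (k₀ * σ s * k₀⁻¹) * m⁻¹ = s
    calc m * (k₀ * σ s * k₀⁻¹) * m⁻¹ = m * k₀ * σ s * (m * k₀)⁻¹ := by group
      _ = s := by rw [← h2, e1 y hy, mul_inv_cancel_right]
  have hg' : ∀ a, (g.trans (repAut M.toCoxeterSystem hp.isCartan w₀)) a = (ε : ℤ) • wa hp (w₀ * u) a := fun a => by
    show wa hp w₀ (g a) = _
    rw [hg, map_smul, rep_mul_apply]
  set u' := w₀ * u
  -- the form of `s`
  obtain ⟨m₁, hm₁, w, -, k, hk, h3, h4⟩ := form hp (Set.finite_singleton t) hZ (c := s) (fun a ha => by rw [ha, hst])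
  have h5 : k * t = t * k := h3 t rfl
  have hkD : k ∉ DZ hp p {t} := fun h => hne (by rw [h4]; exact mul_mem (Mz_le_DZ hm₁) h)
  have hk' := rp_sigma F' hg' hk
  have h6 : τ k * t = t * τ k := by
    have h7 := congrArg τ h5
    rwa [map_mul τ k t, map_mul τ t k, hτt] at h7
  have hτm : τ m₁ ∈ Mz hp p {t} := (F'.mem_Sup (S := Ps hp p {t}) (S' := Ps hp p {t}) (fun a ha => ha.1) (fun a => by
    rw [mem_Ps hZ, mem_Ps hZ, F'.root]
    refine and_congr_right fun _ => forall_congr' fun b => forall_congr' fun hb => ?_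
    have h7 := cX_sigma hp M.toCoxeterSystem hσ' F' hz a
    rw [hτt] at h7
    rw [hb, h7]
    refine ⟨fun h => ?_, fun h => by rw [h, one_pow]⟩
    have h8 : (cX hp t a - 1) ^ p ^ e = 0 := by rw [sub_pow_char_pow, h, one_pow, sub_self]
    exact sub_eq_zero.1 (pow_eq_zero_iff (pow_ne_zero e (Fact.out : p.Prime).ne_zero) |>.1 h8)) m₁).2 hm₁
  have h7 : k * (τ k)⁻¹ ∈ DZ hp p {t} := by
    have e2 : k * (τ k)⁻¹ = m₁⁻¹ * m * τ m₁ * (τ k * m⁻¹ * (τ k)⁻¹) := by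
      have e3 : k = m₁⁻¹ * (m * (τ m₁ * τ k) * m⁻¹) := by rw [← map_mul, ← h4, hτs, h4]; group
      nth_rewrite 1 [e3]
      group
    rw [e2]
    exact Mz_le_DZ (mul_mem (mul_mem (mul_mem (inv_mem hm₁) hm) hτm)
      (hk'.conj_Mz hZ (fun a ha => by rw [ha, h6]) (inv_mem hm)))
  -- the values
  have hX := isMC_cX hp hz
  set δ := cX hp t (dv hp 3 v w) with hδ
  have hδ0 : δ ≠ 0 := hX.ne_zero _
  have hδ3 : δ ^ 3 = 1 := by rw [hδ, ← cX_pow hp hz, ht3, cX_one]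
  have hδ1 : δ ≠ 1 := fun h => hkD (del K hrp hz ht3 hk h5 h)
  have h8 : cX hp t (dv hp 3 v (u' * w * u'⁻¹)) = δ⁻¹ := by
    rw [cX_conj K hz u' (hk'.cX_of_comm hz h6)]
    have h9 := cX_sigma hp M.toCoxeterSystem hσ' F' hz ((ε : ℤ) • dv hp 3 v w)
    rw [hτt, hg', map_smul, smul_smul, ← Units.val_mul, Int.units_mul_self, Units.val_one, one_smul, hX.zsmul, ← hδ,
      ← zpow_natCast, ← zpow_mul] at h9
    rw [h9]
    have h10 : ¬ (3 : ℤ) ∣ ε * (p ^ e : ℕ) := fun h => by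
      have h11 : (3 : ℤ) ∣ (p ^ e : ℕ) := by
        rcases Int.units_eq_one_or ε with rfl | rfl
        · simpa using h
        · simpa using h
      have h12 : 3 ∣ p ^ e := by exact_mod_cast h11
      exact hrp ((Nat.prime_dvd_prime_iff_eq Nat.prime_three Fact.out).1 (Nat.prime_three.dvd_of_dvd_pow h12))
    obtain ⟨j, hj⟩ : (3 : ℤ) ∣ ε * (p ^ e : ℕ) + 1 := by omega
    have e4 : (ε : ℤ) * (p ^ e : ℕ) = 3 * j + -1 := by linear_combination hj
    rw [e4, zpow_add₀ hδ0, zpow_mul, zpow_ofNat, hδ3, one_zpow, one_mul, zpow_neg_one]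
  -- `k * τ k` lies in the connected centraliser
  have h9 : k * τ k ∈ DZ hp p {t} := del K hrp hz ht3 (hk.mul hk') (by rw [mul_assoc, h6, ← mul_assoc, h5, mul_assoc])
    (by rw [del_mul K hz (hk.cX_of_comm hz h5), h8, ← hδ, mul_inv_cancel₀ hδ0])
  have h10 : k ^ 2 ∈ DZ hp p {t} := by
    have e5 : k ^ 2 = k * (k * (τ k)⁻¹) * k⁻¹ * (k * τ k) := by rw [pow_two]; group
    rw [e5]
    exact mul_mem (conj_mem_DZ (Set.finite_singleton t) hZ h3 h7) h9
  obtain ⟨j, hj⟩ := exists_pow_mem_DZ (hp := hp) (Set.finite_singleton t) hZ Nat.prime_three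
    (fun a ha => ⟨1, by rw [ha, pow_one, ht3]⟩) h3
  exact hkD (mem_of_pow_coprime h10 hj (Nat.Coprime.pow_right j (by norm_num)))

end Cfsg.Agent.TH.Ab.ZC
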