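import Cfsg.Agent.TH.Ex.Ab.Defs
import Cfsg.Agent.DS.Nt.Kac

/-!
# S3541, box ZC: the root lattice (helper97)

`KD D l r n Bm v` : the finite facts on `E₆` (`r = n = 3`) and `E₇` (`r = 2`, `n = 4`); `v / r` is a minuscule weight.

* `Nz n w` : `w + w⁻¹ = 2 - n`; `quad` : the elements acting quadratically on `Q / n P`; `cyc`;
* `dv` : the cocycle `(w v - v) / r`.
-/

set_option autoImplicit false
set_option linter.unusedSectionVars false
set_option maxRecDepth 100000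
set_option Elab.async false

namespace Cfsg.Agent.TH.Ab.ZC

open CoxeterSystem Cfsg Cfsg.Lie Cfsg.Lie.ChevalleyDatum
open Cfsg.Agent.ChevalleyStructure Cfsg.Agent.ChevalleyStructure.Elts Cfsg.Agent.ChevalleyStructure.CoxeterGeom
  Cfsg.Agent.ChevalleyStructure.CoxeterGeomTypes
open Cfsg.Agent.Tits.Roots Cfsg.Agent.Tits.Core Cfsg.Agent.Nodes Cfsg.Agent.Nodes.RGDChev
open Cfsg.Agent.H129.TorusChar Cfsg.Agent.H129.WData Cfsg.Agent.H931.KC
open Cfsg.Agent.H92.NE (bl bl_apply bl_comm bl_sr bl_sr_sr FormOK bl_rep bl_add_left bl_sub_left bl_root)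

/-- the finite facts -/
structure KD (D : ChevalleyDatum) (l r n : ℕ) (Bm : Mat l) (v : Fin l → ℤ) : Prop where
  pos : 0 < l
  form : FormOK D l Bm
  diag : ∀ i, Bm i i = 2
  dvd : ∀ i, (r : ℤ) ∣ pairing Bm i v
  mark : ∀ i, hr D l i = 1 → ¬ (r : ℤ) ∣ v i
  adj : ∀ i, ∃ j, Bm i j = -1
  conn : ∀ f : Fin l → Bool, (∀ i j, f i = true → f j = false → Bm i j = 0) → (∀ i, f i = true) ∨ ∀ i, f i = false
  sep : ∀ (i : Fin l) (s : Fin D.nroots), (∀ j, (n : ℤ) ∣ pairing Bm j (vec D l s) - Bm j i) → ∀ j, vec D l s j = sr i j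
  num : (r = 3 ∧ n = 3 ∧ ∀ (i : Fin l) (s : Fin D.nroots), (3 : ℤ) ∣ 4 - 2 * pairing Bm i (vec D l s) →
      (∀ j, vec D l s j = sr i j) ∨ pairing Bm i (vec D l s) = -1) ∨
    (r = 2 ∧ n = 4 ∧ ∀ (i : Fin l) (s : Fin D.nroots), (∀ j, (2 : ℤ) ∣ pairing Bm j (vec D l s) - Bm j i) →
      (∀ j, vec D l s j = sr i j) ∨ ∀ j, vec D l s j = -sr i j)

/-- the form of `E₆` -/
def B6 : Mat 6 := ![![2, 0, -1, 0, 0, 0], ![0, 2, 0, -1, 0, 0], ![-1, 0, 2, -1, 0, 0],
    ![0, -1, -1, 2, -1, 0], ![0, 0, 0, -1, 2, -1], ![0, 0, 0, 0, -1, 2]]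

/-- the form of `E₇` -/
def B7 : Mat 7 := ![![2, 0, -1, 0, 0, 0, 0], ![0, 2, 0, -1, 0, 0, 0], ![-1, 0, 2, -1, 0, 0, 0],
    ![0, -1, -1, 2, -1, 0, 0], ![0, 0, 0, -1, 2, -1, 0], ![0, 0, 0, 0, -1, 2, -1], ![0, 0, 0, 0, 0, -1, 2]]

theorem sep6 : ∀ (i : Fin 6) (s : Fin chevE6.nroots),
    (∀ j, ((3 : ℕ) : ℤ) ∣ pairing B6 j (vec chevE6 6 s) - B6 j i) → ∀ j, vec chevE6 6 s j = sr i j := by
  unfold pairing
  decide +kernel

theorem sep7 : ∀ (i : Fin 7) (s : Fin chevE7.nroots),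
    (∀ j, ((4 : ℕ) : ℤ) ∣ pairing B7 j (vec chevE7 7 s) - B7 j i) → ∀ j, vec chevE7 7 s j = sr i j := by
  unfold pairing
  decide +kernel

theorem tri6 : ∀ (i : Fin 6) (s : Fin chevE6.nroots), (3 : ℤ) ∣ 4 - 2 * pairing B6 i (vec chevE6 6 s) →
    (∀ j, vec chevE6 6 s j = sr i j) ∨ pairing B6 i (vec chevE6 6 s) = -1 := by
  unfold pairing
  decide +kernel

theorem tri7 : ∀ (i : Fin 7) (s : Fin chevE7.nroots), (∀ j, (2 : ℤ) ∣ pairing B7 j (vec chevE7 7 s) - B7 j i) →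
    (∀ j, vec chevE7 7 s j = sr i j) ∨ ∀ j, vec chevE7 7 s j = -sr i j := by
  unfold pairing
  decide +kernel

theorem kd6 : KD chevE6 6 3 3 B6 ![4, 3, 5, 6, 4, 2] where
  pos := by norm_num
  form := by decide +kernel
  diag := by decide +kernel
  dvd := by unfold pairing; decide +kernel
  mark := by decide +kernel
  adj := by decide +kernel
  conn := by decide +kernel
  sep := sep6
  num := Or.inl ⟨rfl, rfl, tri6⟩

theorem kd7 : KD chevE7 7 2 4 B7 ![2, 3, 4, 6, 5, 4, 3] where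
  pos := by norm_num
  form := by decide +kernel
  diag := by decide +kernel
  dvd := by unfold pairing; decide +kernel
  mark := by decide +kernel
  adj := by decide +kernel
  conn := by decide +kernel
  sep := sep7
  num := Or.inr ⟨rfl, rfl, tri7⟩

variable {D : ChevalleyDatum} {l : ℕ} {M : CoxeterMatrix (Fin l)} (hp : IsType D l M)

/-- the action of the Weyl group -/
noncomputable abbrev wa (w : M.Group) : Module.End ℤ (Fin l → ℤ) := rep M.toCoxeterSystem hp.isCartan w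

/-- roots -/
abbrev Rt (a : Fin l → ℤ) : Prop := IsRoot M.toCoxeterSystem hp.isCartan a

/-- `w + w⁻¹ = 2 - n` -/
def Nz (n : ℕ) (w : M.Group) : Prop := ∀ a, wa hp w a + wa hp w⁻¹ a = ((2 : ℤ) - n) • a

/-- the cocycle -/
noncomputable def dv (r : ℕ) (v : Fin l → ℤ) (w : M.Group) : Fin l → ℤ := fun i => (wa hp w v i - v i) / r

theorem dvd_all {m : ℤ} (f : (Fin l → ℤ) →+ ℤ) (h : ∀ j, m ∣ f (sr j)) (y : Fin l → ℤ) : m ∣ f y := by
  rw [eq_psi f y]
  exact Finset.dvd_sum fun i _ => Dvd.dvd.mul_left (h i) _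

variable {hp} {r n : ℕ} {Bm : Mat l} {v : Fin l → ℤ}

theorem Nz.inv {w : M.Group} (h : Nz hp n w) : Nz hp n w⁻¹ := fun a => by rw [inv_inv, add_comm, h]

namespace KD

variable (K : KD D l r n Bm v)
include K

theorem r_pos : 0 < r := by rcases K.num with ⟨h, -⟩ | ⟨h, -⟩ <;> omega

theorem n_ge : 3 ≤ n := by rcases K.num with ⟨-, h, -⟩ | ⟨-, h, -⟩ <;> omega

theorem prime : r.Prime := by
  rcases K.num with ⟨h, -⟩ | ⟨h, -⟩ <;> rw [h]
  exacts [Nat.prime_three, Nat.prime_two]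

theorem n_pow : ∃ j, n = r ^ j := by
  rcases K.num with ⟨h, h', -⟩ | ⟨h, h', -⟩ <;> rw [h, h']
  exacts [⟨1, rfl⟩, ⟨2, rfl⟩]

theorem symm (x y : Fin l → ℤ) : bl Bm x y = bl Bm y x := bl_comm K.form.1 y x

theorem pair (i : Fin l) (x : Fin l → ℤ) : pairing (cartanOf D l) i x = bl Bm x (sr i) := by
  rw [bl_sr]
  refine Finset.sum_congr rfl fun j _ => ?_
  have h := K.form.2 i j
  rw [K.diag] at h
  rw [show cartanOf D l i j = Bm i j by omega]

theorem inv (w : M.Group) (x y : Fin l → ℤ) : bl Bm (wa hp w x) (wa hp w y) = bl Bm x y := bl_rep hp K.form w y x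

theorem adjt (w : M.Group) (x y : Fin l → ℤ) : bl Bm (wa hp w x) y = bl Bm x (wa hp w⁻¹ y) := by
  rw [← K.inv (hp := hp) w x, rep_apply_inv]

theorem add_left (x x' y : Fin l → ℤ) : bl Bm (x + x') y = bl Bm x y + bl Bm x' y := bl_add_left K.form.1 y x x'

theorem sub_left (x x' y : Fin l → ℤ) : bl Bm (x - x') y = bl Bm x y - bl Bm x' y := bl_sub_left K.form.1 y x x'

theorem smul_left (c : ℤ) (x y : Fin l → ℤ) : bl Bm (c • x) y = c * bl Bm x y := by
  rw [K.symm, map_zsmul, K.symm, smul_eq_mul]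

theorem root {a : Fin l → ℤ} (ha : Rt hp a) : bl Bm a a = 2 := bl_root hp K.form K.diag ha

theorem dvd_v (y : Fin l → ℤ) : (r : ℤ) ∣ bl Bm v y := dvd_all _ (fun j => by rw [bl_sr]; exact K.dvd j) y

theorem exists_neg {a : Fin l → ℤ} (ha : Rt hp a) : ∃ β, bl Bm β a = -1 := by
  obtain ⟨w, i, rfl⟩ := ha
  obtain ⟨j, hj⟩ := K.adj i
  exact ⟨wa hp w (sr j), by rw [K.inv, bl_sr_sr, hj]⟩

/-- roots are different modulo `n P` -/
theorem sep' {a b : Fin l → ℤ} (ha : Rt hp a) (hb : Rt hp b) (h : ∀ y, (n : ℤ) ∣ bl Bm (b - a) y) : b = a := by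
  obtain ⟨w, i, rfl⟩ := ha
  obtain ⟨s, hs, e⟩ := (isRoot_iff hp M.toCoxeterSystem _).1 (hb.act w⁻¹)
  have h1 := K.sep i ⟨s, hs⟩ fun j => by
    have h2 := h (wa hp w (sr j))
    rw [K.sub_left, K.inv, bl_sr_sr, ← K.inv (hp := hp) w⁻¹, rep_inv_apply, ← e, bl_sr] at h2
    exact h2
  have h2 : vec D l s = sr i := funext h1
  rw [← h2, e, rep_apply_inv]

theorem quad_sr {w : M.Group} (h1 : ∀ β y, (n : ℤ) ∣ bl Bm (β + β - wa hp w β - wa hp w⁻¹ β) y)
    (h2 : ∀ β y, (n : ℤ) ∣ r * bl Bm (wa hp w β - β) y) (i : Fin l) :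
    wa hp w (sr i) = sr i ∨ wa hp w (sr i) + wa hp w⁻¹ (sr i) = ((2 : ℤ) - n) • sr i := by
  have ha : Rt hp (sr i) := isRoot_sr _ _ i
  obtain ⟨s, hs, e⟩ := (isRoot_iff hp M.toCoxeterSystem _).1 (ha.act w)
  rcases K.num with ⟨rfl, rfl, h3⟩ | ⟨rfl, rfl, h3⟩
  · have h4 : bl Bm (wa hp w⁻¹ (sr i)) (sr i) = bl Bm (wa hp w (sr i)) (sr i) := by rw [K.adjt, inv_inv, K.symm]
    have h5 := h1 (sr i) (sr i)
    rw [K.sub_left, K.sub_left, K.add_left, K.root ha, h4] at h5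
    have h6 : pairing Bm i (vec D l s) = bl Bm (wa hp w (sr i)) (sr i) := by rw [e, bl_sr]; rfl
    rcases h3 i ⟨s, hs⟩ (by
      show (3 : ℤ) ∣ 4 - 2 * pairing Bm i (vec D l s)
      rw [h6]
      push_cast at h5
      omega) with h7 | h7
    · exact Or.inl (e.symm.trans (funext h7))
    · right
      have h8 : bl Bm (wa hp w (sr i)) (sr i) = -1 := h6.symm.trans h7
      have h9 : Rt hp (-(wa hp w (sr i) + sr i)) := by
        have h10 := ((ha.act w).act (M.toCoxeterSystem.simple i)).neg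
        rwa [rep_simple_eq, K.pair, h8, neg_smul, one_smul, sub_neg_eq_add] at h10
      have h10 := K.sep' (b := wa hp w⁻¹ (sr i)) h9 (ha.act w⁻¹) fun y => by
        have h11 := h1 (sr i) y
        rw [K.sub_left, K.sub_left, K.add_left] at h11
        rw [sub_neg_eq_add, K.add_left, K.add_left]
        push_cast at h11 ⊢
        omega
      rw [h10]
      norm_num
  · rcases h3 i ⟨s, hs⟩ (fun j => by
      have h5 := h2 (sr i) (sr j)
      rw [K.sub_left, bl_sr_sr, ← e, bl_sr] at h5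
      change _ ∣ _ * (pairing Bm j (vec D l s) - Bm j i) at h5
      show (2 : ℤ) ∣ pairing Bm j (vec D l s) - Bm j i
      push_cast at h5
      omega) with h7 | h7
    · exact Or.inl (e.symm.trans (funext h7))
    · right
      have h8 : wa hp w (sr i) = -sr i := e.symm.trans (funext h7)
      have h9 : wa hp w⁻¹ (sr i) = -sr i := by
        have h10 := congrArg (wa hp w⁻¹) h8
        rw [rep_inv_apply, map_neg] at h10
        exact (neg_eq_iff_eq_neg.1 h10.symm)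
      rw [h8, h9]
      ext j
      simp only [Pi.add_apply, Pi.neg_apply, Pi.smul_apply, smul_eq_mul]
      push_cast
      ring

/-- **The elements acting quadratically.** -/
theorem quad {w : M.Group} (h1 : ∀ β y, (n : ℤ) ∣ bl Bm (β + β - wa hp w β - wa hp w⁻¹ β) y)
    (h2 : ∀ β y, (n : ℤ) ∣ r * bl Bm (wa hp w β - β) y) : w = 1 ∨ Nz hp n w := by
  classical
  have key := K.quad_sr h1 h2
  rcases K.conn (fun i => decide (wa hp w (sr i) = sr i)) (fun i j hi hj => by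
    have h3 : wa hp w (sr i) = sr i := of_decide_eq_true hi
    have h4 := (key j).resolve_left (of_decide_eq_false hj)
    have h5 : wa hp w⁻¹ (sr i) = sr i := by
      conv_lhs => rw [← h3]
      exact rep_inv_apply _ _ _ _
    have h6 : bl Bm _ (sr i) = bl Bm _ (sr i) := congrArg (fun x => bl Bm x (sr i)) h4
    rw [K.add_left, K.adjt, K.adjt, inv_inv, h3, h5, K.smul_left, bl_sr_sr] at h6
    have h7 : (n : ℤ) * Bm i j = 0 := by linear_combination h6
    have h8 := K.n_ge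
    exact (mul_eq_zero.1 h7).resolve_left (by omega)) with h3 | h3
  · left
    refine eq_one_of_nonneg M.toCoxeterSystem hp.isCartan w fun i => ?_
    have h4 : wa hp w (sr i) = sr i := of_decide_eq_true (h3 i)
    have h5 : (0 : Fin l → ℤ) ≤ sr i := sr_nonneg i
    rw [← h4] at h5
    exact h5
  · right
    intro a
    have h4 : ∀ i, wa hp w (sr i) + wa hp w⁻¹ (sr i) = ((2 : ℤ) - n) • sr i := fun i =>
      (key i).resolve_left (of_decide_eq_false (h3 i))
    rw [IsMC.eq_sum_sr a, map_sum, map_sum, ← Finset.sum_add_distrib, Finset.smul_sum]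
    refine Finset.sum_congr rfl fun i _ => ?_
    rw [map_smul, map_smul, ← smul_add, h4, smul_comm]

theorem nz_ne {z : M.Group} (hz : Nz hp n z) {a : Fin l → ℤ} (ha : Rt hp a) : wa hp z a ≠ a := by
  intro h
  have h5 : wa hp z⁻¹ a = a := by
    conv_lhs => rw [← h]
    exact rep_inv_apply _ _ _ _
  have h6 : bl Bm _ a = bl Bm _ a := congrArg (fun x => bl Bm x a) (hz a)
  rw [h, h5, K.add_left, K.smul_left, K.root ha] at h6
  have h8 := K.n_ge
  omega

theorem nz_form {z : M.Group} (hz : Nz hp n z) (a b : Fin l → ℤ) :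
    bl Bm (wa hp z a - a) (wa hp z b - b) = n * bl Bm a b := by
  have h6 : bl Bm _ b = bl Bm _ b := congrArg (fun x => bl Bm x b) (hz a)
  rw [K.add_left, K.smul_left, K.adjt (hp := hp) z⁻¹, inv_inv] at h6
  rw [K.sub_left, map_sub, map_sub, K.inv]
  linear_combination -h6

/-- **The group is cyclic.** -/
theorem cyc {z w : M.Group} (hz : Nz hp n z) (hc : z * w = w * z) (h0 : w = 1 ∨ Nz hp n w)
    (h1 : z * w = 1 ∨ Nz hp n (z * w)) (h2 : z * w⁻¹ = 1 ∨ Nz hp n (z * w⁻¹)) : w = 1 ∨ w = z ∨ w = z⁻¹ := by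
  rcases h0 with h0 | h0
  · exact Or.inl h0
  rcases h1 with h1 | h1
  · exact Or.inr (Or.inr (eq_inv_of_mul_eq_one_right h1))
  rcases h2 with h2 | h2
  · exact Or.inr (Or.inl (mul_inv_eq_one.1 h2).symm)
  exfalso
  have hC : Commute z w := hc
  set a : Fin l → ℤ := sr ⟨0, K.pos⟩
  have h3 := hz (wa hp w a + wa hp w⁻¹ a)
  have h4 := h1 a
  have h5 := h2 a
  rw [mul_inv_rev, ← hC.inv_inv.eq, rep_mul_apply, rep_mul_apply] at h4
  rw [mul_inv_rev, inv_inv, ← hC.inv_left.eq, rep_mul_apply, rep_mul_apply] at h5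
  rw [map_add, map_add] at h3
  have h6 : ((2 : ℤ) - n) • (wa hp w a + wa hp w⁻¹ a) = ((2 : ℤ) - n) • a + ((2 : ℤ) - n) • a := by
    rw [← h3]
    nth_rewrite 1 [← h4]
    rw [← h5]
    abel
  rw [h0 a] at h6
  have h7 := congrFun h6 ⟨0, K.pos⟩
  simp only [Pi.add_apply, Pi.smul_apply, smul_eq_mul, a, sr_self] at h7
  have h8 := K.n_ge
  have h9 : (n : ℤ) * ((n : ℤ) - 2) = 0 := by linear_combination h7
  rcases mul_eq_zero.1 h9 with h | h <;> omega

/-! ### the cocycle -/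

theorem dv_spec (w : M.Group) : (r : ℤ) • dv hp r v w = wa hp w v - v := by
  have key : ∃ d : Fin l → ℤ, wa hp w v - v = (r : ℤ) • d := by
    induction w using M.toCoxeterSystem.simple_induction with
    | simple i =>
      obtain ⟨m, hm⟩ := K.dvd_v (sr i)
      refine ⟨(-m) • sr i, ?_⟩
      rw [rep_simple_eq, K.pair, hm, smul_smul]
      simp
    | one => exact ⟨0, by simp⟩
    | mul w w' h h' =>
      obtain ⟨d, hd⟩ := h
      obtain ⟨d', hd'⟩ := h'
      refine ⟨wa hp w d' + d, ?_⟩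
      rw [smul_add, ← map_smul, ← hd, ← hd', map_sub, rep_mul_apply]
      abel
  obtain ⟨d, hd⟩ := key
  have h0 : (r : ℤ) ≠ 0 := by have := K.r_pos; omega
  ext i
  have h1 := congrFun hd i
  simp only [Pi.sub_apply, Pi.smul_apply, smul_eq_mul] at h1 ⊢
  rw [dv, h1, Int.mul_ediv_cancel_left _ h0]

theorem cancel {x y : Fin l → ℤ} (h : (r : ℤ) • x = (r : ℤ) • y) : x = y :=
  smul_right_injective _ (by have := K.r_pos; omega : (r : ℤ) ≠ 0) h

theorem dv_mul (w w' : M.Group) : dv hp r v (w * w') = wa hp w (dv hp r v w') + dv hp r v w := by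
  refine K.cancel ?_
  rw [smul_add, ← map_smul, K.dv_spec, K.dv_spec, K.dv_spec, map_sub, rep_mul_apply]
  abel

theorem dv_one : dv hp r v 1 = 0 := K.cancel (by rw [K.dv_spec]; simp)

theorem dv_conj (u w : M.Group) :
    dv hp r v (u * w * u⁻¹) = wa hp u (wa hp w (dv hp r v u⁻¹) - dv hp r v u⁻¹ + dv hp r v w) := by
  have h1 := K.dv_mul (hp := hp) u u⁻¹
  rw [mul_inv_cancel, K.dv_one] at h1
  rw [K.dv_mul, K.dv_mul, rep_mul_apply, map_add, map_sub, eq_neg_of_add_eq_zero_right h1.symm]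
  abel

theorem dv_rfl (w : M.Group) (i : Fin l) :
    ∃ c : ℤ, dv hp r v (w * M.toCoxeterSystem.simple i * w⁻¹) = c • wa hp w (sr i) := by
  obtain ⟨m, hm⟩ := K.dvd_v (wa hp w (sr i))
  refine ⟨-m, K.cancel ?_⟩
  have h1 : bl Bm (wa hp w⁻¹ v) (sr i) = r * m := by rw [K.adjt, inv_inv, hm]
  rw [K.dv_spec, rep_mul_apply, rep_mul_apply, rep_simple_eq, K.pair, h1, map_sub, rep_apply_inv, map_smul, smul_smul]
  simp

theorem dv_nz {z : M.Group} (hz : Nz hp n z) (β : Fin l → ℤ) : (n : ℤ) ∣ bl Bm (wa hp z β - β) (dv hp r v z) := by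
  obtain ⟨m, hm⟩ := K.dvd_v β
  have h1 := K.nz_form hz β v
  rw [← K.dv_spec (hp := hp) z, map_zsmul, K.symm β, hm, smul_eq_mul] at h1
  have h0 : (r : ℤ) ≠ 0 := by have := K.r_pos; omega
  exact ⟨m, mul_left_cancel₀ h0 (by linear_combination h1)⟩

/-- **The cocycle on the automorphisms of the extended diagram.** -/
theorem dv_kac {c : Fin l → ℕ} {c0 : ℕ} (C : Kac D l r c c0) {u : M.Group} {π : Equiv.Perm (Option (Fin l))}
    (h1 : ∀ i, wa hp u (al D l i) = al D l (π i)) (h2 : ∀ i, ct c c0 (π i) = ct c c0 i) (h3 : π none ≠ none) :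
    ¬ (r : ℤ) ∣ bb c (dv hp r v u) := by
  classical
  have h4 : π.symm none ≠ none := fun h => h3 (by rw [← h, Equiv.apply_symm_apply]; exact h.symm)
  obtain ⟨i₀, hi⟩ := Option.ne_none_iff_exists'.1 h4
  have h5 : π (some i₀) = none := by rw [← hi, Equiv.apply_symm_apply]
  have h6 : hr D l i₀ = 1 := by
    have h7 := mk_perm hp h1 (some i₀)
    rw [h5] at h7
    exact h7.symm
  have hal : ∀ j, bb c (al D l j) = ct c c0 j - if j = none then (r : ℤ) else 0 := by
    rintro (_ | j)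
    · show bb c (-hr D l) = (c0 : ℤ) - if (none : Option (Fin l)) = none then (r : ℤ) else 0
      rw [map_neg, bb_hr C, if_pos rfl]
      ring
    · show psi _ (sr j) = (c j : ℤ) - if some j = none then (r : ℤ) else 0
      rw [psi_sr, if_neg (by simp), sub_zero]
  have h7 : ∀ i, bb c (wa hp u (sr i)) = bb c (sr i) - if i = i₀ then (r : ℤ) else 0 := fun i => by
    have h8 : wa hp u (sr i) = al D l (π (some i)) := h1 (some i)
    have h9 : bb c (sr i) = ct c c0 (some i) := psi_sr _ i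
    rw [h8, hal, h2, h9]
    congr 1
    refine if_congr ⟨fun h => ?_, fun h => by rw [h, h5]⟩ rfl rfl
    exact Option.some_injective _ (π.injective (h.trans h5.symm))
  have h8 : bb c (wa hp u v) - bb c v = -(r * v i₀) := by
    have e1 := eq_psi ((bb c).comp (wa hp u).toAddMonoidHom) v
    change bb c (wa hp u v) = ∑ i, v i * bb c (wa hp u (sr i)) at e1
    rw [e1, eq_psi (bb c) v, ← Finset.sum_sub_distrib, Finset.sum_eq_single i₀]
    · rw [h7, if_pos rfl]
      ring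
    · intro i _ hi
      rw [h7, if_neg hi]
      ring
    · intro h
      exact absurd (Finset.mem_univ _) h
  rw [← map_sub, ← K.dv_spec, map_zsmul, smul_eq_mul] at h8
  have h0 : (r : ℤ) ≠ 0 := by have := K.r_pos; omega
  have h9 : bb c (dv hp r v u) = -v i₀ := mul_left_cancel₀ h0 (by linear_combination h8)
  rw [h9, dvd_neg]
  exact K.mark i₀ h6

end KD

end Cfsg.Agent.TH.Ab.ZC
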