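import Cfsg.Agent.SB.Exc.W.E6
import Cfsg.Agent.H129.TorusChar

/-!
# S3541, box ZC for `E₆`, `r = 3`: the Weyl group (helper69)

* `IsRf`, `Rot` : reflections and the three commuting rotations of the subsystem `3 A₂`;
* `eq_one_of_mod` : an element acting trivially on the coroots modulo `3` is trivial;
* `Rot.triv`, `Rot.eq_prod` : characters fixed by the rotations; quadratic elements;
* `rho`, `Kf` : the cocycle with values in the root lattice.
-/

set_option autoImplicit false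
set_option linter.unusedSectionVars false
set_option synthInstance.maxSize 2000

namespace Cfsg.Agent.TH.Ab.ZE

open CoxeterSystem Cfsg Cfsg.Lie Cfsg.Lie.ChevalleyDatum
open Cfsg.Agent.ChevalleyStructure.CoxeterGeom Cfsg.Agent.ChevalleyStructure.CoxeterGeomTypes
  Cfsg.Agent.Tits.Roots Cfsg.Agent.Nodes.RGDChev Cfsg.Agent.Nodes.Coroot Cfsg.Agent.SB.Exc.W
  Cfsg.Agent.H129.TorusChar

variable {W : Type} [Group W] [Finite W] (hp : IsType chevE6 6 CoxeterMatrix.E₆)
  (cs : CoxeterSystem CoxeterMatrix.E₆ W)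

/-- `u` is the reflection in `a` -/
def IsRf (u : W) (a : Fin 6 → ℤ) : Prop := ∀ b, rep cs hp.isCartan u b = b - cpr cs hp.isCartan b a • a

theorem exists_rf {a : Fin 6 → ℤ} (ha : IsRoot cs hp.isCartan a) : ∃ u, IsRf hp cs u a := by
  obtain ⟨w, i, rfl⟩ := ha
  exact ⟨_, fun b => rep_rfl'_eq cs hp.isCartan w i b⟩

/-- the reflection on tuples -/
def rT (a x : T6) : T6 := x + (-ip x a) • a

variable {hp cs} in
theorem IsRf.tv {u : W} {a : T6} (h : IsRf hp cs u (tv a)) (ha : a ∈ RL) (x : T6) :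
    rep cs hp.isCartan u (tv x) = tv (rT a x) := by
  rw [h, cpr_tv hp cs x ha, rT, tv_add, tv_smul, neg_smul, sub_eq_add_neg]

theorem ext_tv {v w : W} (h : ∀ x ∈ SL, rep cs hp.isCartan v (tv x) = rep cs hp.isCartan w (tv x)) : v = w := by
  have h1 : w⁻¹ * v = 1 := eq_one_of_fix cs hp.isCartan _ fun i => by
    have h2 := h _ (sr_mem i)
    rw [tv_vt] at h2
    show rep cs hp.isCartan (w⁻¹ * v) (sr i) = sr i
    rw [rep_mul_apply, h2, rep_inv_apply]
  exact (inv_mul_eq_one.1 h1).symm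

theorem mem_RL {a : Fin 6 → ℤ} (ha : IsRoot cs hp.isCartan a) : vt a ∈ RL :=
  (root_iff hp cs _).1 (by rwa [tv_vt])

theorem SL_sub : ∀ x ∈ SL, x ∈ RL := by decide +kernel

theorem chk_mod : ∀ x ∈ SL, ∀ r ∈ RL, (∀ y ∈ SL, (ip r y - ip x y) % 3 = 0) → r = x := by decide +kernel

/-- an element which acts trivially on the coroots modulo `3` is trivial -/
theorem eq_one_of_mod {w : W} (h : ∀ r a, IsRoot cs hp.isCartan a →
    (3 : ℤ) ∣ cpr cs hp.isCartan (rep cs hp.isCartan w r) a - cpr cs hp.isCartan r a) : w = 1 := by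
  refine ext_tv hp cs fun x hx => ?_
  have h1 := mem_RL hp cs (((root_iff hp cs x).2 (SL_sub x hx)).act w)
  have h2 := chk_mod x hx _ h1 fun y hy => by
    have h3 := h (tv x) (tv y) ((root_iff hp cs y).2 (SL_sub y hy))
    rw [← tv_vt (rep cs hp.isCartan w (tv x)), cpr_tv hp cs _ (SL_sub y hy), cpr_tv hp cs _ (SL_sub y hy)] at h3
    exact Int.emod_eq_zero_of_dvd h3
  rw [map_one, Module.End.one_apply, ← tv_vt (rep cs hp.isCartan w (tv x)), h2]

/-! ### the subsystem `3 A₂` -/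

/-- first roots of the three bases -/
def ra : Fin 3 → T6 := ![(1, 0, 0, 0, 0, 0), (0, 0, 0, 0, 1, 0), (0, 1, 0, 0, 0, 0)]

/-- second roots of the three bases -/
def rb : Fin 3 → T6 := ![(0, 0, 1, 0, 0, 0), (0, 0, 0, 0, 0, 1), (-1, -2, -2, -3, -2, -1)]

theorem ra_mem : ∀ k, ra k ∈ RL := by decide +kernel

theorem rb_mem : ∀ k, rb k ∈ RL := by decide +kernel

/-- the rotation on tuples -/
def uT (k : Fin 3) (x : T6) : T6 := rT (ra k) (rT (rb k) x)

/-- the three rotations -/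
structure Rot (u : Fin 3 → W) : Prop where
  ex : ∀ k, ∃ s t, IsRf hp cs s (tv (ra k)) ∧ IsRf hp cs t (tv (rb k)) ∧ u k = s * t

theorem exists_rot : ∃ u, Rot hp cs u := by
  choose s hs using fun k => exists_rf hp cs ((root_iff hp cs _).2 (ra_mem k))
  choose t ht using fun k => exists_rf hp cs ((root_iff hp cs _).2 (rb_mem k))
  exact ⟨fun k => s k * t k, ⟨fun k => ⟨_, _, hs k, ht k, rfl⟩⟩⟩

theorem chk_cube : ∀ k, ∀ x ∈ SL, uT k (uT k (uT k x)) = x := by decide +kernel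

theorem chk_comm : ∀ k j, ∀ x ∈ SL, uT k (uT j x) = uT j (uT k x) := by decide +kernel

theorem chk_ab : ∀ k, uT k (ra k) = rb k ∧ uT k (rb k) = -(ra k + rb k) := by decide +kernel

theorem chk_fix : ∀ k j, k ≠ j → uT k (ra j) = ra j ∧ uT k (rb j) = rb j := by decide +kernel

theorem chk_ne : ∀ k, ra k ≠ rb k ∧ ra k ≠ -(ra k + rb k) ∧ rb k ≠ -(ra k + rb k) := by decide +kernel

theorem chk_cand : ∀ k, ∀ r ∈ RL, r.2.2.2.1 % 3 = 0 → ((ip r (ra k) - 2) % 3 = 0 ∨ (ip r (rb k) - 2) % 3 = 0) →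
    r = ra k ∨ r = rb k ∨ r = -(ra k + rb k) := by decide +kernel

theorem chk_triv : (∀ k, ∃ x ∈ RL, uT k x = x + ra k) ∧ ∀ k, ∃ x ∈ RL, uT k x = x + (ra k + rb k) := by
  decide +kernel

theorem tv_inj {x y : T6} (h : tv x = tv y) : x = y := by
  have h1 := congrArg vt h
  exact h1

theorem rot_aux {V : Type} [AddCommGroup V] {f g : V →+ V} {a b : V} (n1 : a ≠ b) (n2 : a ≠ -(a + b))
    (n3 : b ≠ -(a + b)) (g1 : g a = b) (g2 : g b = -(a + b)) (h3 : ∀ x, f (f (f x)) = x)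
    (h1 : f a = a ∨ f a = b ∨ f a = -(a + b)) (h2 : f b = a ∨ f b = b ∨ f b = -(a + b)) :
    ∃ i : ℕ, f a = g^[i] a ∧ f b = g^[i] b := by
  have hi : ∀ x y, f x = f y → x = y := fun x y h => by rw [← h3 x, h, h3]
  have g3 : g (-(a + b)) = a := by rw [map_neg, map_add, g1, g2]; abel
  rcases h1 with h1 | h1 | h1 <;> rcases h2 with h2 | h2 | h2
  · exact absurd (hi _ _ (h1.trans h2.symm)) n1
  · exact ⟨0, h1, h2⟩
  · have h4 : f (-(a + b)) = b := by rw [map_neg, map_add, h1, h2]; abel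
    have h5 := h3 b
    rw [h2, h4, h2] at h5
    exact absurd h5.symm n3
  · have h5 := h3 a
    rw [h1, h2, h1] at h5
    exact absurd h5.symm n1
  · exact absurd (hi _ _ (h1.trans h2.symm)) n1
  · exact ⟨1, h1.trans g1.symm, h2.trans g2.symm⟩
  · exact ⟨2, by rw [h1]; show _ = g (g a); rw [g1, g2], by rw [h2]; show _ = g (g b); rw [g2, g3]⟩
  · have h4 : f (-(a + b)) = a := by rw [map_neg, map_add, h1, h2]; abel
    have h5 := h3 a
    rw [h1, h4, h1] at h5
    exact absurd h5.symm n2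
  · exact absurd (hi _ _ (h1.trans h2.symm)) n1

namespace Rot

variable {hp cs} {u : Fin 3 → W} (h : Rot hp cs u)
include h

theorem act (k : Fin 3) (x : T6) : rep cs hp.isCartan (u k) (tv x) = tv (uT k x) := by
  obtain ⟨s, t, h1, h2, e⟩ := h.ex k
  rw [e, rep_mul_apply, h2.tv (rb_mem k), h1.tv (ra_mem k), uT]

theorem cube (k : Fin 3) : u k ^ 3 = 1 := ext_tv hp cs fun x hx => by
  rw [pow_three', rep_mul_apply, rep_mul_apply, h.act, h.act, h.act, chk_cube k x hx, map_one, Module.End.one_apply]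

theorem comm (k j : Fin 3) : u k * u j = u j * u k := ext_tv hp cs fun x hx => by
  rw [rep_mul_apply, rep_mul_apply, h.act, h.act, h.act, h.act, chk_comm k j x hx]

theorem pow_fix {k : Fin 3} {x : Fin 6 → ℤ} (hx : rep cs hp.isCartan (u k) x = x) (i : ℕ) :
    rep cs hp.isCartan (u k ^ i) x = x := by
  induction i with
  | zero => rw [pow_zero, map_one, Module.End.one_apply]
  | succ i ih => rw [pow_succ, rep_mul_apply, hx, ih]

theorem pow_iter (k : Fin 3) (i : ℕ) (x : Fin 6 → ℤ) :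
    rep cs hp.isCartan (u k ^ i) x = (rep cs hp.isCartan (u k)).toAddMonoidHom^[i] x := by
  induction i generalizing x with
  | zero => rw [pow_zero, map_one, Module.End.one_apply]; rfl
  | succ i ih => rw [pow_succ, rep_mul_apply, ih]; rfl

/-- a character fixed by the three rotations -/
theorem triv {K : Type} [Field K] {φ : (Fin 6 → ℤ) → K} (hφ : IsMC φ)
    (hf : ∀ k x, φ (rep cs hp.isCartan (u k) x) = φ x) :
    (∀ k, φ (tv (ra k)) = 1 ∧ φ (tv (rb k)) = 1) ∧ ∀ x, φ x = φ (sr 3) ^ x 3 := by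
  have h1 : ∀ k, φ (tv (ra k)) = 1 := fun k => by
    obtain ⟨x, -, e⟩ := chk_triv.1 k
    have h2 := hf k (tv x)
    rwa [h.act, e, tv_add, hφ.add, mul_eq_left₀ (hφ.ne_zero _)] at h2
  have h2 : ∀ k, φ (tv (rb k)) = 1 := fun k => by
    obtain ⟨x, -, e⟩ := chk_triv.2 k
    have h3 := hf k (tv x)
    rwa [h.act, e, tv_add, hφ.add, mul_eq_left₀ (hφ.ne_zero _), tv_add, hφ.add, h1, one_mul] at h3
  refine ⟨fun k => ⟨h1 k, h2 k⟩, fun x => ?_⟩
  have e0 : φ (sr 0) = 1 := (congrArg φ (by decide +kernel)).trans (h1 0)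
  have e1 : φ (sr 1) = 1 := (congrArg φ (by decide +kernel)).trans (h1 2)
  have e2 : φ (sr 2) = 1 := (congrArg φ (by decide +kernel)).trans (h2 0)
  have e4 : φ (sr 4) = 1 := (congrArg φ (by decide +kernel)).trans (h1 1)
  have e5 : φ (sr 5) = 1 := (congrArg φ (by decide +kernel)).trans (h2 1)
  rw [hφ.eq_prod, Fin.prod_univ_six, e0, e1, e2, e4, e5]
  simp

/-- **Quadratic elements which preserve the subsystem** are products of the rotations. -/
theorem eq_prod {w : W} (h3 : w ^ 3 = 1) (hw : ∀ x : Fin 6 → ℤ, (3 : ℤ) ∣ x 3 → (3 : ℤ) ∣ rep cs hp.isCartan w x 3)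
    (hq : ∀ a, IsRoot cs hp.isCartan a → (3 : ℤ) ∣ cpr cs hp.isCartan (rep cs hp.isCartan w a) a - 2) :
    ∃ i j k : ℕ, w = u 0 ^ i * u 1 ^ j * u 2 ^ k := by
  have key : ∀ k, ∃ i : ℕ, rep cs hp.isCartan w (tv (ra k)) = rep cs hp.isCartan (u k ^ i) (tv (ra k)) ∧
      rep cs hp.isCartan w (tv (rb k)) = rep cs hp.isCartan (u k ^ i) (tv (rb k)) := by
    intro k
    have c1 : ∀ a ∈ RL, a = ra k ∨ a = rb k → rep cs hp.isCartan w (tv a) = tv (ra k) ∨
        rep cs hp.isCartan w (tv a) = tv (rb k) ∨ rep cs hp.isCartan w (tv a) = -(tv (ra k) + tv (rb k)) := by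
      intro a ha e
      have h1 := (root_iff hp cs a).2 ha
      have h2 := hq _ h1
      rw [← tv_vt (rep cs hp.isCartan w (tv a)), cpr_tv hp cs _ ha] at h2
      have h4 : (3 : ℤ) ∣ tv a 3 := by
        have h6 : ∀ k, (3 : ℤ) ∣ tv (ra k) 3 ∧ (3 : ℤ) ∣ tv (rb k) 3 := by decide +kernel
        rcases e with rfl | rfl
        exacts [(h6 k).1, (h6 k).2]
      have h5 := chk_cand k _ (mem_RL hp cs (h1.act w)) (Int.emod_eq_zero_of_dvd (hw _ h4))
        (by
          rcases e with rfl | rfl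
          exacts [Or.inl (Int.emod_eq_zero_of_dvd h2), Or.inr (Int.emod_eq_zero_of_dvd h2)])
      rw [← tv_add, ← tv_neg, ← tv_vt (rep cs hp.isCartan w (tv a))]
      exact h5.imp (congrArg tv) (Or.imp (congrArg tv) (congrArg tv))
    obtain ⟨i, h1, h2⟩ := rot_aux (f := (rep cs hp.isCartan w).toAddMonoidHom)
      (g := (rep cs hp.isCartan (u k)).toAddMonoidHom) (a := tv (ra k)) (b := tv (rb k))
      (fun e => (chk_ne k).1 (tv_inj e)) (fun e => (chk_ne k).2.1 (tv_inj (by rw [tv_neg, tv_add]; exact e)))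
      (fun e => (chk_ne k).2.2 (tv_inj (by rw [tv_neg, tv_add]; exact e)))
      ((h.act k _).trans (congrArg tv (chk_ab k).1))
      ((h.act k _).trans (by rw [(chk_ab k).2, tv_neg, tv_add])) (fun x => by
        show rep cs hp.isCartan w (rep cs hp.isCartan w (rep cs hp.isCartan w x)) = x
        rw [← rep_mul_apply, ← rep_mul_apply, ← pow_three', h3, map_one, Module.End.one_apply])
      (c1 _ (ra_mem k) (Or.inl rfl)) (c1 _ (rb_mem k) (Or.inr rfl))
    exact ⟨i, by rw [h.pow_iter]; exact h1, by rw [h.pow_iter]; exact h2⟩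
  choose n hn using key
  refine ⟨n 0, n 1, n 2, ?_⟩
  have fa : ∀ k j, k ≠ j → ∀ i, rep cs hp.isCartan (u k ^ i) (tv (ra j)) = tv (ra j) := fun k j e =>
    h.pow_fix (by rw [h.act, (chk_fix k j e).1])
  have fb : ∀ k j, k ≠ j → ∀ i, rep cs hp.isCartan (u k ^ i) (tv (rb j)) = tv (rb j) := fun k j e =>
    h.pow_fix (by rw [h.act, (chk_fix k j e).2])
  have cm : ∀ k j i i', u k ^ i * u j ^ i' = u j ^ i' * u k ^ i := fun k j i i' =>
    (show Commute (u k) (u j) from h.comm k j).pow_pow i i'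
  obtain ⟨v, hv⟩ : ∃ v, v = u 0 ^ n 0 * u 1 ^ n 1 * u 2 ^ n 2 := ⟨_, rfl⟩
  have e1 : v = u 1 ^ n 1 * u 0 ^ n 0 * u 2 ^ n 2 := by rw [hv, cm 0 1]
  have e2 : v = u 2 ^ n 2 * u 0 ^ n 0 * u 1 ^ n 1 := by rw [hv, mul_assoc, cm 1 2, ← mul_assoc, cm 0 2]
  have a0 : rep cs hp.isCartan w (tv (ra 0)) = rep cs hp.isCartan v (tv (ra 0)) := by
    rw [hv, rep_mul_apply, rep_mul_apply, fa 2 0 (by decide), fa 1 0 (by decide), (hn 0).1]
  have b0 : rep cs hp.isCartan w (tv (rb 0)) = rep cs hp.isCartan v (tv (rb 0)) := by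
    rw [hv, rep_mul_apply, rep_mul_apply, fb 2 0 (by decide), fb 1 0 (by decide), (hn 0).2]
  have a1 : rep cs hp.isCartan w (tv (ra 1)) = rep cs hp.isCartan v (tv (ra 1)) := by
    rw [e1, rep_mul_apply, rep_mul_apply, fa 2 1 (by decide), fa 0 1 (by decide), (hn 1).1]
  have b1 : rep cs hp.isCartan w (tv (rb 1)) = rep cs hp.isCartan v (tv (rb 1)) := by
    rw [e1, rep_mul_apply, rep_mul_apply, fb 2 1 (by decide), fb 0 1 (by decide), (hn 1).2]
  have a2 : rep cs hp.isCartan w (tv (ra 2)) = rep cs hp.isCartan v (tv (ra 2)) := by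
    rw [e2, rep_mul_apply, rep_mul_apply, fa 1 2 (by decide), fa 0 2 (by decide), (hn 2).1]
  have b2 : rep cs hp.isCartan w (tv (rb 2)) = rep cs hp.isCartan v (tv (rb 2)) := by
    rw [e2, rep_mul_apply, rep_mul_apply, fb 1 2 (by decide), fb 0 2 (by decide), (hn 2).2]
  rw [← hv]
  refine ext_tv hp cs fun x hx => smul_right_injective _ (show (3 : ℤ) ≠ 0 by decide) ?_
  have h1 : ∀ x ∈ SL, (3 : ℤ) • x = (3 * x.1 - x.2.2.2.1) • ra 0 + (3 * x.2.2.1 - 2 * x.2.2.2.1) • rb 0 +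
      (3 * x.2.2.2.2.1 - 2 * x.2.2.2.1) • ra 1 + (3 * x.2.2.2.2.2 - x.2.2.2.1) • rb 1 +
      (3 * x.2.1 - 2 * x.2.2.2.1) • ra 2 + (-x.2.2.2.1) • rb 2 := by decide +kernel
  show (3 : ℤ) • _ = (3 : ℤ) • _
  rw [← map_smul, ← map_smul, ← tv_smul, h1 x hx]
  simp only [tv_add, tv_smul, map_add, map_smul, a0, b0, a1, b1, a2, b2]

end Rot

/-! ### the cocycle -/

/-- three times a generator of the weight lattice modulo the root lattice -/
def dl : Fin 6 → ℤ := ![1, 0, -1, 0, 1, -1]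

theorem dl_cpr {a : Fin 6 → ℤ} (ha : IsRoot cs hp.isCartan a) : (3 : ℤ) ∣ cpr cs hp.isCartan dl a := by
  have h1 : ∀ r ∈ RL, ip (1, 0, -1, 0, 1, -1) r % 3 = 0 := by decide +kernel
  have h2 := cpr_tv hp cs (1, 0, -1, 0, 1, -1) (mem_RL hp cs ha)
  rw [tv_vt] at h2
  exact Int.dvd_of_emod_eq_zero (h2 ▸ h1 _ (mem_RL hp cs ha))

/-- the cocycle -/
noncomputable def rho (u : W) : Fin 6 → ℤ := fun i => (rep cs hp.isCartan u dl i - dl i) / 3

theorem rho_eq {u : W} {y : Fin 6 → ℤ} (h : rep cs hp.isCartan u dl = dl + (3 : ℤ) • y) : rho hp cs u = y := by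
  funext i
  rw [rho, h, Pi.add_apply, Pi.smul_apply, smul_eq_mul, add_sub_cancel_left, Int.mul_ediv_cancel_left _ (by decide)]

theorem rho_spec (u : W) : rep cs hp.isCartan u dl = dl + (3 : ℤ) • rho hp cs u := by
  have key : ∃ y, rep cs hp.isCartan u dl = dl + (3 : ℤ) • y := by
    induction u using cs.simple_induction_left with
    | one => exact ⟨0, by simp⟩
    | mul_simple_left w i ih =>
      obtain ⟨y, hy⟩ := ih
      obtain ⟨c, hc⟩ := dl_cpr hp cs (isRoot_sr cs hp.isCartan i)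
      rw [cpr_sr] at hc
      refine ⟨rep cs hp.isCartan (cs.simple i) y - c • sr i, ?_⟩
      rw [rep_mul_apply, hy, map_add, map_smul, rep_simple_eq _ _ _ dl, hc, smul_sub, mul_smul]
      abel
  obtain ⟨y, hy⟩ := key
  rwa [rho_eq hp cs hy]

theorem rho_mul (u v : W) : rho hp cs (u * v) = rho hp cs u + rep cs hp.isCartan u (rho hp cs v) :=
  rho_eq hp cs (by rw [rep_mul_apply, rho_spec hp cs v, map_add, rho_spec hp cs u, map_smul, smul_add, add_assoc])

theorem rho_one : rho hp cs 1 = 0 := rho_eq hp cs (by simp)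

variable {K : Type} [Field K] {φ : (Fin 6 → ℤ) → K}

/-- conjugation -/
theorem rho_conj (hφ : IsMC φ) (v : W) {u : W}
    (hu : ∀ x, φ (rep cs hp.isCartan v (rep cs hp.isCartan u x)) = φ (rep cs hp.isCartan v x)) :
    φ (rho hp cs (v * u * v⁻¹)) = φ (rep cs hp.isCartan v (rho hp cs u)) := by
  have h1 := congrArg φ (rho_mul hp cs v v⁻¹)
  rw [mul_inv_cancel, rho_one, hφ.zero, hφ.add] at h1
  rw [rho_mul, rho_mul, hφ.add, hφ.add, rep_mul_apply, hu, mul_right_comm, ← h1, one_mul]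

/-- the stabiliser of the lift of `φ` -/
def Kf (hφ : IsMC φ) : Subgroup W where
  carrier := {u | (∀ x, φ (rep cs hp.isCartan u x) = φ x) ∧ φ (rho hp cs u) = 1}
  one_mem' := ⟨fun x => by rw [map_one, Module.End.one_apply], by rw [rho_one, hφ.zero]⟩
  mul_mem' := by
    rintro a b ⟨h1, h2⟩ ⟨h3, h4⟩
    exact ⟨fun x => by rw [rep_mul_apply, h1, h3], by rw [rho_mul, hφ.add, h1, h2, h4, one_mul]⟩
  inv_mem' := by
    rintro a ⟨h1, h2⟩
    refine ⟨fun x => by rw [← h1, rep_apply_inv], ?_⟩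
    have h3 := congrArg φ (rho_mul hp cs a a⁻¹)
    rw [mul_inv_cancel, rho_one, hφ.zero, hφ.add, h1, h2, one_mul] at h3
    exact h3.symm

variable {hp cs} in
theorem IsRf.mem_Kf (hφ : IsMC φ) {u : W} {a : Fin 6 → ℤ} (h : IsRf hp cs u a) (ha : IsRoot cs hp.isCartan a)
    (h1 : φ a = 1) : u ∈ Kf hp cs hφ := by
  refine ⟨fun x => by rw [h, hφ.sub, hφ.zsmul, h1, one_zpow, div_one], ?_⟩
  obtain ⟨c, hc⟩ := dl_cpr hp cs ha
  rw [rho_eq hp cs (y := (-c) • a) (by rw [h, hc, smul_smul, mul_neg, neg_smul, sub_eq_add_neg]), hφ.zsmul, h1, one_zpow]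

end Cfsg.Agent.TH.Ab.ZE
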